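import Groth.Agent.L19.AlgGrpBasic.OrbitClosure
import Groth.Agent.L19.Closure
import Groth.Agent.L06.NoetherDense
import Groth.Agent.L03.Euler.Dim
import Groth.Agent.L22.SchemeDim
import Groth.Agent.L07.EquidimQF

/-!
# The boundary of an orbit has smaller dimension
-/

set_option autoImplicit false
set_option linter.style.haveILetI false
set_option maxSynthPendingDepth 3
set_option backward.isDefEq.respectTransparency.types false

universe u

open CategoryTheory CategoryTheory.Limits MonoidalCategory CartesianMonoidalCategory MonObj AlgebraicGeometry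
open Topology TopologicalSpace

namespace Groth.L19.AlgGrpBasic

variable {K : Type u} [Field K]

theorem le_of_add_one_le {t : WithBot ℕ∞} {m : ℕ} (h : t + 1 ≤ ((m + 1 : ℕ) : WithBot ℕ∞)) : t ≤ (m : WithBot ℕ∞) := by
  induction t using WithBot.recBotCoe with
  | bot => exact bot_le
  | coe t =>
    refine WithBot.coe_le_coe.2 ((ENat.add_le_add_iff_right ENat.one_ne_top).1 (?_ : t + 1 ≤ (m : ℕ∞) + 1))
    have : ((t + 1 : ℕ∞) : WithBot ℕ∞) ≤ (((m + 1 : ℕ) : ℕ∞) : WithBot ℕ∞) := h
    simpa using WithBot.coe_le_coe.1 this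

theorem exists_dim_bound {X : Scheme.{u}} (f : X ⟶ Spec (CommRingCat.of K)) [LocallyOfFiniteType f] [QuasiCompact f] :
    ∃ N : ℕ, topologicalKrullDim X ≤ N := by
  haveI : IsLocallyNoetherian X := LocallyOfFiniteType.isLocallyNoetherian f
  haveI : CompactSpace X := QuasiCompact.compactSpace_of_compactSpace f
  haveI : IsNoetherian X := {}
  letI : X.Over (Spec (CommRingCat.of K)) := ⟨f⟩
  haveI : LocallyOfFiniteType (X ↘ Spec (CommRingCat.of K)) := ‹LocallyOfFiniteType f›
  obtain ⟨S, hSf, hSc, hSi, hU⟩ :=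
    TopologicalSpace.NoetherianSpace.exists_finite_set_isClosed_irreducible (isClosed_univ (X := X))
  choose e he _ using fun x : X => Groth.L22.SchemeDim.exists_dim_closure_eq_trdeg K X x
  choose gp hgp using fun Z hZ => QuasiSober.sober (hSi Z hZ) (hSc Z hZ)
  classical
  haveI := hSf.to_subtype
  haveI := Fintype.ofFinite S
  refine ⟨Finset.univ.sup fun Z : S => e (gp Z.1 Z.2), Groth.L07.EquidimQF.dim_le_of_dim_closure_le fun a => ?_⟩
  obtain ⟨Z, hZ, haZ⟩ : a ∈ ⋃₀ S := hU ▸ Set.mem_univ a
  calc topologicalKrullDim ↥(closure ({a} : Set X))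
      ≤ topologicalKrullDim ↥(closure ({gp Z hZ} : Set X)) := by
        refine Groth.L03.Euler.topologicalKrullDim_set_mono (closure_minimal ?_ isClosed_closure)
        rw [(hgp Z hZ).def]
        exact Set.singleton_subset_iff.2 haZ
    _ = (e (gp Z hZ) : WithBot ℕ∞) := he _
    _ ≤ _ := Nat.cast_le.2 (Finset.le_sup (f := fun Z : S => e (gp Z.1 Z.2)) (Finset.mem_univ ⟨Z, hZ⟩))

variable [IsAlgClosed K] {G X : Over (Spec (CommRingCat.of K))} [GrpObj G]
  [LocallyOfFiniteType G.hom] [QuasiCompact G.hom] [LocallyOfFiniteType X.hom] [QuasiCompact X.hom]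

/-- Closures of points of the orbit are no bigger than the orbit. -/
theorem dim_closure_le_dim_orbit (a : AlgGrp.Action G X) (x : 𝟙_ (Over (Spec (CommRingCat.of K))) ⟶ X)
    (ξ : X.left) (hξ : ξ ∈ Set.range (a.orbitMap x).left) :
    topologicalKrullDim ↥(closure ({ξ} : Set X.left)) ≤ topologicalKrullDim ↥(Set.range (a.orbitMap x).left) := by
  set O := Set.range (a.orbitMap x).left with hOdef
  obtain ⟨W, hW, hOW⟩ := exists_open_orbit a x
  haveI : IsLocallyNoetherian X.left := LocallyOfFiniteType.isLocallyNoetherian X.hom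
  have hξW : ξ ∈ W := (hOW.subset hξ).1
  let U : X.left.Opens := ⟨W, hW⟩
  have e1 := Groth.L07.Equidim.fdim_comp U.ι X.hom (U.ι ≫ X.hom) rfl ⟨ξ, hξW⟩
  rw [Groth.L06.NoetherDense.fdim_eq_dim_closure, Groth.L06.NoetherDense.fdim_eq_dim_closure] at e1
  refine e1.symm.le.trans ?_
  have hmem : ∀ w ∈ closure ({⟨ξ, hξW⟩} : Set ↥(U : Scheme.{u})), U.ι w ∈ O := fun w hw => by
    refine hOW.symm.subset ⟨w.2, ?_⟩
    have hsp := (specializes_iff_mem_closure.2 hw).map U.ι.continuous
    exact hsp.mem_closed isClosed_closure (subset_closure hξ)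
  let ι' : ↥(closure ({⟨ξ, hξW⟩} : Set ↥(U : Scheme.{u}))) → O := fun w => ⟨U.ι w.1, hmem w.1 w.2⟩
  have hι : IsInducing ι' := (U.ι.isEmbedding.isInducing.comp IsInducing.subtypeVal).codRestrict _
  exact hι.topologicalKrullDim_le

/-- The closure of an orbit has the same dimension as the orbit. -/
theorem dim_closure_orbit (a : AlgGrp.Action G X) (x : 𝟙_ (Over (Spec (CommRingCat.of K))) ⟶ X) :
    topologicalKrullDim ↥(closure (Set.range (a.orbitMap x).left)) =
      topologicalKrullDim ↥(Set.range (a.orbitMap x).left) := by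
  refine le_antisymm ?_ (Groth.L03.Euler.topologicalKrullDim_set_mono subset_closure)
  haveI : CompactSpace G.left := QuasiCompact.compactSpace_of_compactSpace G.hom
  haveI : IsLocallyNoetherian X.left := LocallyOfFiniteType.isLocallyNoetherian X.hom
  haveI : QuasiCompact ((a.orbitMap x).left ≫ X.hom) := by rw [Over.w]; infer_instance
  haveI : QuasiSeparated X.hom := inferInstance
  haveI : QuasiCompact (a.orbitMap x).left := QuasiCompact.of_comp (a.orbitMap x).left X.hom
  haveI : QuasiSober ↥(closure (Set.range (a.orbitMap x).left)) :=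
    isClosed_closure.isClosedEmbedding_subtypeVal.quasiSober
  refine Groth.L07.EquidimQF.dim_le_of_dim_closure_le fun b => ?_
  obtain ⟨g, hg⟩ := exists_specializes_of_mem_closure_range (a.orbitMap x).left b.2
  refine le_trans ?_ ((Groth.L03.Euler.topologicalKrullDim_set_mono (S := closure ({b.1} : Set X.left))
    (closure_minimal (Set.singleton_subset_iff.2 (specializes_iff_mem_closure.1 hg)) isClosed_closure)).trans
    (dim_closure_le_dim_orbit a x _ ⟨g, rfl⟩))
  let ι' : ↥(closure ({b} : Set ↥(closure (Set.range (a.orbitMap x).left)))) → ↥(closure ({b.1} : Set X.left)) :=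
    fun w => ⟨w.1.1, specializes_iff_mem_closure.1 ((specializes_iff_mem_closure.2 w.2).map continuous_subtype_val)⟩
  have hι : IsInducing ι' := (IsInducing.subtypeVal.comp IsInducing.subtypeVal).codRestrict _
  exact hι.topologicalKrullDim_le

/-- The boundary of an orbit has smaller dimension than the orbit. -/
theorem dim_boundary_lt (a : AlgGrp.Action G X) (x : 𝟙_ (Over (Spec (CommRingCat.of K))) ⟶ X) :
    topologicalKrullDim ↥(closure (Set.range (a.orbitMap x).left) \ Set.range (a.orbitMap x).left) <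
      topologicalKrullDim ↥(Set.range (a.orbitMap x).left) := by
  set O := Set.range (a.orbitMap x).left with hOdef
  set B := closure O \ O
  obtain ⟨W, hW, hOW⟩ := exists_open_orbit a x
  haveI : IsLocallyNoetherian X.left := LocallyOfFiniteType.isLocallyNoetherian X.hom
  haveI : CompactSpace G.left := QuasiCompact.compactSpace_of_compactSpace G.hom
  haveI : CompactSpace X.left := QuasiCompact.compactSpace_of_compactSpace X.hom
  haveI : QuasiCompact ((a.orbitMap x).left ≫ X.hom) := by rw [Over.w]; infer_instance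
  haveI : QuasiSeparated X.hom := inferInstance
  haveI : QuasiCompact (a.orbitMap x).left := QuasiCompact.of_comp (a.orbitMap x).left X.hom
  have hOne : O.Nonempty := ⟨_, (1 : 𝟙_ (Over (Spec (CommRingCat.of K))) ⟶ G).left (IsLocalRing.closedPoint K), rfl⟩
  obtain ⟨N, hN⟩ := exists_dim_bound X.hom
  obtain ⟨n, hn⟩ : ∃ n : ℕ, topologicalKrullDim ↥O = (n : WithBot ℕ∞) := by
    have h1 : topologicalKrullDim ↥O ≤ (N : WithBot ℕ∞) :=
      IsEmbedding.subtypeVal.isInducing.topologicalKrullDim_le.trans hN
    have h2 := Groth.L03.Euler.zero_le_topologicalKrullDim hOne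
    generalize topologicalKrullDim ↥O = t at h1 h2
    induction t using WithBot.recBotCoe with
    | bot => simp at h2
    | coe t =>
      obtain ⟨n, rfl⟩ := ENat.ne_top_iff_exists.1 (ne_top_of_le_ne_top (ENat.natCast_ne_top N) (WithBot.coe_le_coe.1 h1))
      exact ⟨n, rfl⟩
  have hcl : ∀ ξ ∈ O, topologicalKrullDim ↥(closure ({ξ} : Set X.left)) ≤ topologicalKrullDim ↥O := fun ξ hξ =>
    dim_closure_le_dim_orbit a x ξ hξ
  have hBc : IsClosed B := isClosed_boundary a x
  have key : ∀ b : ↥B, topologicalKrullDim ↥(closure ({(b : X.left)} : Set X.left)) + 1 ≤ (n : WithBot ℕ∞) := by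
    intro b
    obtain ⟨g, hg⟩ := exists_specializes_of_mem_closure_range (a.orbitMap x).left b.2.1
    rw [← hn]
    refine le_trans (Groth.L03.Euler.topologicalKrullDim_add_one_le isClosed_closure
      isIrreducible_singleton.closure (closure_minimal (Set.singleton_subset_iff.2 (specializes_iff_mem_closure.1 hg))
        isClosed_closure) fun he => ?_) (hcl _ ⟨g, rfl⟩)
    have : (a.orbitMap x).left g ∈ B := by
      refine closure_minimal (Set.singleton_subset_iff.2 b.2) hBc ?_
      rw [he]
      exact subset_closure rfl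
    exact this.2 ⟨g, rfl⟩
  rw [hn]
  haveI : QuasiSober ↥B := hBc.isClosedEmbedding_subtypeVal.quasiSober
  rcases B.eq_empty_or_nonempty with hB | ⟨b₀, hb₀⟩
  · rw [Groth.L03.Euler.topologicalKrullDim_of_empty hB]
    exact WithBot.bot_lt_coe _
  obtain ⟨m, rfl⟩ : ∃ m, n = m + 1 := by
    rcases n with _ | m
    · refine absurd ((key ⟨b₀, hb₀⟩).trans' (add_le_add_left ?_ 1)) (by norm_num : ¬ ((0 : WithBot ℕ∞) + 1 ≤ 0))
      exact Groth.L03.Euler.zero_le_topologicalKrullDim ⟨b₀, subset_closure rfl⟩
    · exact ⟨m, rfl⟩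
  refine lt_of_le_of_lt (Groth.L07.EquidimQF.dim_le_of_dim_closure_le (c := (m : WithBot ℕ∞)) fun b => ?_)
    (Nat.cast_lt.2 m.lt_succ_self)
  have h1 := key b
  refine le_trans ?_ (le_of_add_one_le h1)
  let ι' : ↥(closure ({b} : Set ↥B)) → ↥(closure ({(b : X.left)} : Set X.left)) := fun w =>
    ⟨w.1.1, specializes_iff_mem_closure.1 ((specializes_iff_mem_closure.2 w.2).map continuous_subtype_val)⟩
  have hι : IsInducing ι' := (IsInducing.subtypeVal.comp IsInducing.subtypeVal).codRestrict _
  exact hι.topologicalKrullDim_le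

end Groth.L19.AlgGrpBasic
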