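import Groth.Agent.L19.AlgGrpBasic.ActKernel
import Groth.Agent.L08.HomLocus
import Groth.Prelude.Def_ActBC

/-!
# Base change of orbit maps
-/

set_option autoImplicit false
set_option linter.style.haveILetI false
set_option backward.isDefEq.respectTransparency.types false

universe u

open CategoryTheory CategoryTheory.Limits MonoidalCategory CartesianMonoidalCategory MonObj AlgebraicGeometry

namespace Groth.L19.AlgGrpBasic

variable {S S' : Scheme.{u}} (t : S' ⟶ S) {G X : Over S} [GrpObj G]

/-- The base change of a section. -/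
noncomputable abbrev bcPt (x : 𝟙_ (Over S) ⟶ X) : 𝟙_ (Over S') ⟶ Red.bc t X :=
  (Over.mapPullbackAdj t).homEquiv (𝟙_ (Over S')) X (toUnit _ ≫ x)

theorem bc_orbitMap (a : AlgGrp.Action G X) (x : 𝟙_ (Over S) ⟶ X) :
    (a.bc t).orbitMap (bcPt t x) = (Over.pullback t).map (a.orbitMap x) := by
  let eq := fun (T : Over S') (Y : Over S) => (Over.mapPullbackAdj t).homEquiv T Y
  let G' := Red.bc t G
  let g : (Over.map t).obj G' ⟶ G := (eq G' G).symm (𝟙 G')
  have h1 : eq G' G g = 𝟙 G' := (eq G' G).apply_symm_apply _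
  have h2 : eq G' X (toUnit _ ≫ x) = toUnit G' ≫ bcPt t x := by
    rw [← Adjunction.homEquiv_naturality_left, ← Category.assoc,
      toUnit_unique ((Over.map t).map (toUnit G') ≫ toUnit _) (toUnit _)]
  have h3 := AlgGrp.Action.lift_homEquiv_bc_act t a g (toUnit _ ≫ x)
  rw [h1, h2, ← orbitMap_apply a x g, Adjunction.homEquiv_naturality_right, h1, ← orbitMap_apply,
    Category.id_comp, Category.id_comp] at h3
  exact h3

theorem range_bc_orbitMap (a : AlgGrp.Action G X) (x : 𝟙_ (Over S) ⟶ X) :
    Set.range ((a.bc t).orbitMap (bcPt t x)).left = pullback.fst X.hom t ⁻¹' Set.range (a.orbitMap x).left := by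
  have h := Scheme.image_preimage_eq_of_isPullback (Groth.L08.HomLocus.isPullback_bc t (a.orbitMap x)) Set.univ
  rw [Set.preimage_univ, Set.image_univ, Set.image_univ] at h
  rw [bc_orbitMap]
  exact h

end Groth.L19.AlgGrpBasic
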