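import Groth.Agent.L19.AlgGrpBasic.OrbitClosure
import Groth.Agent.L19.AlgGrpBasic.OrbitBC
import Groth.Agent.L19.ImmLift
import Groth.Agent.L26.AV.SmoothField
import Mathlib.AlgebraicGeometry.Morphisms.SchemeTheoreticallyDominant
import Mathlib.AlgebraicGeometry.Group.Smooth

/-!
# Reduced orbits of smooth groups are smooth
-/

set_option autoImplicit false
set_option linter.style.haveILetI false
set_option backward.isDefEq.respectTransparency.types false
set_option backward.defeqAttrib.useBackward true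

universe u

open CategoryTheory CategoryTheory.Limits MonoidalCategory CartesianMonoidalCategory MonObj AlgebraicGeometry
open Topology

namespace Groth.L19.AlgGrpBasic

/-- Over an algebraically closed field a reduced orbit is smooth. -/
theorem smooth_orbit_algClosed {K : Type u} [Field K] [IsAlgClosed K] {G X : Over (Spec (CommRingCat.of K))}
    [GrpObj G] [LocallyOfFiniteType G.hom] [LocallyOfFiniteType X.hom] (a : AlgGrp.Action G X)
    (x : 𝟙_ (Over (Spec (CommRingCat.of K))) ⟶ X) {O : Scheme.{u}} (i : O ⟶ X.left) [IsImmersion i] [IsReduced O]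
    (hO : Set.range i = Set.range (a.orbitMap x).left) : Smooth (i ≫ X.hom) := by
  have := LocallyOfFiniteType.jacobsonSpace (i ≫ X.hom)
  have := LocallyOfFiniteType.jacobsonSpace X.hom
  have : LocallyOfFinitePresentation (i ≫ X.hom) := inferInstance
  rw [← Scheme.Hom.smoothLocus_eq_top_iff, ← TopologicalSpace.Opens.coe_eq_univ, ← not_ne_iff, ← Set.nonempty_compl]
  intro H
  obtain ⟨p, hp, hpc⟩ := nonempty_inter_closedPoints H (i ≫ X.hom).smoothLocus.2.isClosed_compl.isLocallyClosed
  haveI : Nonempty O := ⟨p⟩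
  obtain ⟨q, hq, hqc⟩ := nonempty_inter_closedPoints
    (i ≫ X.hom).dense_smoothLocus_of_perfectField.nonempty (i ≫ X.hom).smoothLocus.2.isLocallyClosed
  have hclosed : ∀ z : O, IsClosed ({z} : Set O) → IsClosed ({i z} : Set X.left) := by
    intro z hz
    let s : Over.mk (𝟙 (Spec (CommRingCat.of K))) ⟶ X :=
      Over.homMk (pointOfClosedPoint (i ≫ X.hom) z hz ≫ i) (by
        rw [Category.assoc, pointOfClosedPoint_comp]; rfl)
    have := ((pointEquivClosedPoint X.hom) ⟨s.left, Over.w s⟩).2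
    have hz' : s.left (IsLocalRing.closedPoint K) = i z := by
      show i (pointOfClosedPoint (i ≫ X.hom) z hz (IsLocalRing.closedPoint K)) = i z
      rw [pointOfClosedPoint_apply]
    rw [← hz']
    exact this
  obtain ⟨φ, hφ, hφp⟩ : ∃ φ : X ⟶ X, (∃ ψ : X ⟶ X, φ ≫ ψ = 𝟙 X ∧ ψ ≫ φ = 𝟙 X ∧
      φ.left ⁻¹' Set.range i = Set.range i) ∧ φ.left (i p) = i q := by
    haveI := LocallyOfFiniteType.jacobsonSpace G.hom
    have hrat : ∀ z : O, IsClosed ({z} : Set O) → ∃ s : 𝟙_ (Over (Spec (CommRingCat.of K))) ⟶ G,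
        (a.orbitMap x).left (Groth.L08.ProfiniteImage.pt s) = i z := by
      intro z hz
      obtain ⟨γ, hγ⟩ := hO.subset ⟨z, rfl⟩
      obtain ⟨c, hc, hcc⟩ := nonempty_inter_closedPoints (Z := (a.orbitMap x).left ⁻¹' {i z}) ⟨γ, hγ⟩
        ((hclosed z hz).preimage (a.orbitMap x).left.continuous).isLocallyClosed
      obtain ⟨s, rfl⟩ := exists_point_of_closed hcc
      exact ⟨s, hc⟩
    obtain ⟨c, hc⟩ := hrat p hpc
    obtain ⟨d, hd⟩ := hrat q hqc
    have hinv : ∀ h : 𝟙_ (Over (Spec (CommRingCat.of K))) ⟶ G,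
        Groth.L08.Homog.A a h ≫ Groth.L08.Homog.A a h⁻¹ = 𝟙 X := fun h => by
      rw [Groth.L08.Homog.comp_A, GrpObj.comp_inv]
      exact Groth.L25.Actions.inv_act a _ _
    have hcomm : ∀ h g, (Groth.L08.Homog.A a h).left ((a.orbitMap x).left g) =
        (a.orbitMap x).left ((Groth.L08.ProfiniteImage.lt h).left g) := fun h g =>
      (congr(($(Groth.L08.Homog.orbit_lt a x h)).left g)).symm
    refine ⟨Groth.L08.Homog.A a (d * c⁻¹), ⟨Groth.L08.Homog.A a (d * c⁻¹)⁻¹, hinv _, ?_, ?_⟩, ?_⟩
    · have := hinv (d * c⁻¹)⁻¹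
      rwa [inv_inv] at this
    · rw [hO]
      ext y
      constructor
      · rintro ⟨g, hg⟩
        refine ⟨(Groth.L08.ProfiniteImage.lt (d * c⁻¹)⁻¹).left g, ?_⟩
        rw [← hcomm, hg, ← Scheme.Hom.comp_apply, ← Over.comp_left, hinv]
        rfl
      · rintro ⟨g, rfl⟩
        exact ⟨_, (hcomm _ g).symm⟩
    · rw [← hc, hcomm, Groth.L08.ProfiniteImage.pt_lt, inv_mul_cancel_right, hd]
  obtain ⟨ψ, h1, h2, hrange⟩ := hφ
  have hψrange : Set.range (i ≫ ψ.left) ⊆ Set.range i := by
    rintro _ ⟨z, rfl⟩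
    refine hrange.subset ?_
    show φ.left (ψ.left (i z)) ∈ Set.range i
    rw [← Scheme.Hom.comp_apply ψ.left, ← Over.comp_left, h2]
    exact ⟨z, rfl⟩
  have hφrange : Set.range (i ≫ φ.left) ⊆ Set.range i := by
    rintro _ ⟨z, rfl⟩
    exact (hrange.symm.subset ⟨z, rfl⟩ : i z ∈ φ.left ⁻¹' Set.range i)
  obtain ⟨α, hα⟩ := Groth.L19.exists_lift_of_isImmersion i (i ≫ φ.left) hφrange
  obtain ⟨β, hβ⟩ := Groth.L19.exists_lift_of_isImmersion i (i ≫ ψ.left) hψrange
  haveI : Mono i := inferInstance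
  haveI : IsIso α := ⟨β, by
    rw [← cancel_mono i, Category.assoc, hβ, reassoc_of% hα, ← Over.comp_left, h1, Category.id_comp]
    exact Category.comp_id _, by
    rw [← cancel_mono i, Category.assoc, hα, reassoc_of% hβ, ← Over.comp_left, h2, Category.id_comp]
    exact Category.comp_id _⟩
  have hαp : α p = q := i.isEmbedding.injective (by
    rw [← Scheme.Hom.comp_apply, hα]
    exact hφp)
  have hαs : α ≫ i ≫ X.hom = i ≫ X.hom := by rw [← Category.assoc, hα, Category.assoc, Over.w]
  rw [← hαp] at hq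
  have hq' : p ∈ α ⁻¹ᵁ (i ≫ X.hom).smoothLocus := hq
  rw! [Scheme.Hom.preimage_smoothLocus_eq, show α ≫ i ≫ X.hom = i ≫ X.hom from hαs] at hq'
  exact hp hq'

/-- The reduced orbit of a rational point under a smooth group is smooth. -/
theorem smooth_orbit {k : Type u} [Field k] {G X : Over (Spec (CommRingCat.of k))} [GrpObj G]
    [Smooth G.hom] [QuasiCompact G.hom] [LocallyOfFiniteType X.hom] (a : AlgGrp.Action G X)
    (x : 𝟙_ (Over (Spec (CommRingCat.of k))) ⟶ X) {O : Scheme.{u}} (i : O ⟶ X.left) [IsImmersion i] [IsReduced O]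
    (hO : Set.range i = Set.range (a.orbitMap x).left) : Smooth (i ≫ X.hom) := by
  let L : Type u := AlgebraicClosure k
  let t : Spec (CommRingCat.of L) ⟶ Spec (CommRingCat.of k) := Spec.map (CommRingCat.ofHom (algebraMap k L))
  haveI : Surjective t := ⟨fun s => ⟨IsLocalRing.closedPoint L, Subsingleton.elim (α := PrimeSpectrum k) _ _⟩⟩
  haveI : Flat t := inferInstance
  haveI : QuasiCompact t := inferInstance
  refine MorphismProperty.of_pullback_snd_of_descendsAlong (P := @Smooth)
    (Q := @Surjective ⊓ @Flat ⊓ @QuasiCompact) (g := t) ⟨⟨‹_›, ‹_›⟩, ‹_›⟩ ?_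
  let G' : Over (Spec (CommRingCat.of L)) := Red.bc t G
  let X' : Over (Spec (CommRingCat.of L)) := Red.bc t X
  letI : GrpObj G' := inferInstanceAs (GrpObj (Red.bc t G))
  haveI : Smooth G'.hom := inferInstanceAs (Smooth (pullback.snd G.hom t))
  haveI : LocallyOfFiniteType X'.hom := inferInstanceAs (LocallyOfFiniteType (pullback.snd X.hom t))
  haveI : LocallyOfFiniteType G'.hom := inferInstance
  let i' : pullback (i ≫ X.hom) t ⟶ X'.left :=
    pullback.map (i ≫ X.hom) t X.hom t i (𝟙 _) (𝟙 _) (by simp) (by simp)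
  have sq : IsPullback i' (pullback.fst (i ≫ X.hom) t) (pullback.fst X.hom t) i := by
    refine (IsPullback.of_bot (v₂₁ := pullback.snd X.hom t) (v₂₂ := X.hom) (h₃₁ := t) ?_ ?_
      (IsPullback.of_hasPullback X.hom t).flip.flip).flip
    · rw [show i' ≫ pullback.snd X.hom t = pullback.snd (i ≫ X.hom) t from
        (pullback.lift_snd _ _ _).trans (Category.comp_id _)]
      exact IsPullback.of_hasPullback (i ≫ X.hom) t
    · exact (pullback.lift_fst _ _ _).symm
  haveI : IsImmersion i' := MorphismProperty.of_isPullback sq.flip ‹IsImmersion i›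
  haveI : Flat (pullback.fst (i ≫ X.hom) t) := MorphismProperty.pullback_fst _ _ ‹Flat t›
  -- the orbit map factors through `O`, dominantly
  haveI : IsReduced G.left := Groth.Agent.AV.isReduced_of_smooth_field G.hom
  obtain ⟨h, hh⟩ := Groth.L19.exists_lift_of_isImmersion i (a.orbitMap x).left hO.symm.subset
  haveI : Surjective h := ⟨fun z => by
    obtain ⟨g, hg⟩ := hO.subset ⟨z, rfl⟩
    exact ⟨g, i.isEmbedding.injective (by rw [← Scheme.Hom.comp_apply, hh, hg])⟩⟩
  haveI : IsLocallyNoetherian X.left := LocallyOfFiniteType.isLocallyNoetherian X.hom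
  haveI : IsLocallyNoetherian O := LocallyOfFiniteType.isLocallyNoetherian (i ≫ X.hom)
  haveI : CompactSpace G.left := QuasiCompact.compactSpace_of_compactSpace G.hom
  haveI : QuasiCompact (h ≫ i ≫ X.hom) := by rw [reassoc_of% hh, Over.w]; infer_instance
  haveI : QuasiSeparated (i ≫ X.hom) := inferInstance
  haveI : QuasiCompact h := QuasiCompact.of_comp h (i ≫ X.hom)
  haveI : IsSchemeTheoreticallyDominant h := by
    rw [isSchemeTheoreticallyDominant_iff_isDominant]
    infer_instance
  haveI : IsReduced (pullback h (pullback.fst (i ≫ X.hom) t)) := by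
    have sqG : IsPullback (pullback.fst h (pullback.fst (i ≫ X.hom) t))
        (pullback.snd h (pullback.fst (i ≫ X.hom) t) ≫ pullback.snd (i ≫ X.hom) t) G.hom t := by
      have := (IsPullback.of_hasPullback h (pullback.fst (i ≫ X.hom) t)).paste_vert (IsPullback.of_hasPullback (i ≫ X.hom) t)
      rwa [reassoc_of% hh, Over.w] at this
    haveI : IsReduced G'.left := Groth.Agent.AV.isReduced_of_smooth_field G'.hom
    haveI : IsReduced (pullback G.hom t) := this
    exact isReduced_of_isOpenImmersion sqG.isoPullback.hom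
  haveI : IsReduced (pullback (i ≫ X.hom) t) :=
    IsSchemeTheoreticallyDominant.isReduced (pullback.snd h (pullback.fst (i ≫ X.hom) t))
  have hrange : Set.range i' = Set.range ((a.bc t).orbitMap (bcPt t x)).left := by
    rw [range_bc_orbitMap, ← hO]
    have h' := Scheme.image_preimage_eq_of_isPullback sq.flip Set.univ
    rw [Set.preimage_univ, Set.image_univ, Set.image_univ] at h'
    exact h'
  have := smooth_orbit_algClosed (a.bc t) (bcPt t x) i' hrange
  rwa [show i' ≫ X'.hom = pullback.snd (i ≫ X.hom) t from (pullback.lift_snd _ _ _).trans (Category.comp_id _)] at this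

end Groth.L19.AlgGrpBasic
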