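import Groth.Agent.L19.AlgGrpBasic.Descent
import Groth.Agent.L26.AV.GroupSep
import Groth.Agent.L19.ImmLift

/-!
# Equalizers and lifts into closed subschemes
-/

set_option autoImplicit false
set_option linter.style.haveILetI false
set_option backward.isDefEq.respectTransparency.types false

universe u

open CategoryTheory CategoryTheory.Limits MonoidalCategory CartesianMonoidalCategory MonObj AlgebraicGeometry

namespace Groth.L19.AlgGrpBasic

variable {S : Scheme.{u}}

theorem exists_eqLocus {G H : Over S} [IsSeparated H.hom] (φ₁ φ₂ : G ⟶ H) :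
    ∃ (Z : Over S) (c : Z ⟶ G), IsClosedImmersion c.left ∧ c ≫ φ₁ = c ≫ φ₂ ∧
      ∀ (T : Over S) (t : T ⟶ G), t ≫ φ₁ = t ≫ φ₂ → ∃ z : T ⟶ Z, z ≫ c = t := by
  let d : G.left ⟶ pullback H.hom H.hom := pullback.lift φ₁.left φ₂.left (by rw [Over.w, Over.w])
  have d1 : d ≫ pullback.fst _ _ = φ₁.left := pullback.lift_fst _ _ _
  have d2 : d ≫ pullback.snd _ _ = φ₂.left := pullback.lift_snd _ _ _
  let Z : Over S := Over.mk (pullback.fst d (pullback.diagonal H.hom) ≫ G.hom)
  let c : Z ⟶ G := Over.homMk (pullback.fst d (pullback.diagonal H.hom)) rfl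
  refine ⟨Z, c, inferInstanceAs (IsClosedImmersion (pullback.fst d (pullback.diagonal H.hom))), ?_, fun T t h => ?_⟩
  · apply Over.OverMorphism.ext
    have h1 := congrArg (fun f => f ≫ pullback.fst H.hom H.hom) (pullback.condition (f := d) (g := pullback.diagonal H.hom))
    have h2 := congrArg (fun f => f ≫ pullback.snd H.hom H.hom) (pullback.condition (f := d) (g := pullback.diagonal H.hom))
    simp only [Category.assoc, d1, d2, pullback.diagonal_fst, pullback.diagonal_snd, Category.comp_id] at h1 h2
    exact h1.trans h2.symm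
  · have hh : t.left ≫ d = (t ≫ φ₁).left ≫ pullback.diagonal H.hom := by
      apply pullback.hom_ext
      · simp [d1]
      · simp only [Category.assoc, d2, pullback.diagonal_snd, Category.comp_id]
        rw [h, Over.comp_left]
    refine ⟨Over.homMk (pullback.lift t.left (t ≫ φ₁).left hh) ?_, Over.OverMorphism.ext (pullback.lift_fst _ _ _)⟩
    show pullback.lift t.left (t ≫ φ₁).left hh ≫ pullback.fst _ _ ≫ G.hom = T.hom
    rw [pullback.lift_fst_assoc, Over.w]

/-- A morphism from a reduced scheme lifts through a closed immersion if it does on points. -/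
theorem exists_lift_of_range {Y X T : Over S} (c : Y ⟶ X) [IsClosedImmersion c.left] [IsReduced T.left] (g : T ⟶ X)
    (h : Set.range g.left ⊆ Set.range c.left) : ∃ l : T ⟶ Y, l ≫ c = g := by
  obtain ⟨l, hl⟩ := Groth.L19.exists_lift_of_isImmersion c.left g.left h
  exact ⟨Over.homMk l (by rw [← Over.w c, reassoc_of% hl, Over.w g]), Over.OverMorphism.ext hl⟩

theorem mono_of_closed {Y X : Over S} (c : Y ⟶ X) [IsClosedImmersion c.left] : Mono c :=
  haveI : Mono c.left := inferInstance
  Over.mono_of_mono_left c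

end Groth.L19.AlgGrpBasic

namespace Groth.L19.AlgGrpBasic

theorem isMonHom_of_points' {C : Type*} [Category C] [CartesianMonoidalCategory C] {G G' : C} [GrpObj G] [GrpObj G']
    (φ : G ⟶ G') (h : ∀ (T : C) (a b : T ⟶ G), (a * b) ≫ φ = (a ≫ φ) * (b ≫ φ)) : IsMonHom φ where
  one_hom := by
    rw [MonObj.one_eq_one, MonObj.one_eq_one]
    have := h (𝟙_ C) 1 1
    rw [_root_.one_mul] at this
    exact left_eq_mul.1 this
  mul_hom := by
    rw [MonObj.mul_eq_mul, MonObj.mul_eq_mul, h, MonObj.comp_mul, tensorHom_fst, tensorHom_snd]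

end Groth.L19.AlgGrpBasic
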