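import Groth.Agent.L19.AlgGrpBasic.Descent

/-!
# The kernel of the action on a homogeneous space
-/

set_option autoImplicit false
set_option linter.style.haveILetI false
set_option backward.isDefEq.respectTransparency.types false

universe u

open CategoryTheory CategoryTheory.Limits MonoidalCategory CartesianMonoidalCategory MonObj AlgebraicGeometry

namespace Groth.L19.AlgGrpBasic

variable {S : Scheme.{u}} {G H Q N : Over S} [GrpObj G] [GrpObj H] (i : H ⟶ G) (a : AlgGrp.Action G Q)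
  (o : 𝟙_ (Over S) ⟶ Q)

theorem orbitMap_apply {T : Over S} (g : T ⟶ G) :
    g ≫ a.orbitMap o = lift g (toUnit T ≫ o) ≫ a.act := by
  rw [AlgGrp.Action.orbitMap, comp_lift_assoc, Category.comp_id, ← Category.assoc, toUnit_unique (g ≫ toUnit G) (toUnit T)]

theorem core_of_kernel [IsMonHom i]
    (hsq : IsPullback (fst G H) ((G ◁ i) ≫ μ[G]) (a.orbitMap o) (a.orbitMap o))
    [GrpObj N] (n : N ⟶ G)
    (hN : ∀ (T : Over S) (g : T ⟶ G), (∃ m : T ⟶ N, m ≫ n = g) ↔
      ∀ (T' : Over S) (s : T' ⟶ T) (x : T' ⟶ Q), lift (s ≫ g) x ≫ a.act = x)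
    (hepi : ∀ {Y Z : Over S} (f g : Y ⊗ Q ⟶ Z),
      (Y ◁ a.orbitMap o) ≫ f = (Y ◁ a.orbitMap o) ≫ g → f = g) :
    AlgGrp.IsNormalHom n ∧ (∃ m : N ⟶ H, m ≫ i = n) ∧
      ∀ (N' : Over S) [GrpObj N'] (n' : N' ⟶ G) [IsMonHom n'],
        AlgGrp.IsNormalHom n' → (∃ m' : N' ⟶ H, m' ≫ i = n') → ∃ r : N' ⟶ N, r ≫ n = n' := by
  have triv : ∀ (T' : Over S) (m : T' ⟶ N) (x : T' ⟶ Q), lift (m ≫ n) x ≫ a.act = x := fun T' m x => by
    have := (hN T' (m ≫ n)).1 ⟨m, rfl⟩ T' (𝟙 T') x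
    rwa [Category.id_comp] at this
  refine ⟨fun T g m => ?_, ?_, fun N' _ n' _ hn hm => ?_⟩
  · obtain ⟨m', hm'⟩ := (hN T (g * (m ≫ n) * g⁻¹)).2 fun T' s x => by
      rw [MonObj.comp_mul, MonObj.comp_mul, GrpObj.comp_inv, act_mul, act_mul, ← Category.assoc s m n, triv,
        ← act_mul, mul_inv_cancel, act_one]
    exact ⟨m', hm'.symm⟩
  · have h : (1 : N ⟶ G) ≫ a.orbitMap o = n ≫ a.orbitMap o := by
      rw [orbitMap_apply, orbitMap_apply, act_one]
      have := triv N (𝟙 N) (toUnit N ≫ o)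
      rw [Category.id_comp] at this
      exact this.symm
    let l := hsq.lift 1 n h
    have l1 : l ≫ fst G H = 1 := hsq.lift_fst _ _ _
    have l2 : l ≫ (G ◁ i) ≫ μ[G] = n := hsq.lift_snd _ _ _
    refine ⟨l ≫ snd G H, ?_⟩
    conv_rhs => rw [← l2, MonObj.mul_eq_mul, MonObj.comp_mul, whiskerLeft_fst, whiskerLeft_snd, MonObj.comp_mul, l1,
      _root_.one_mul, ← Category.assoc]
  · obtain ⟨m', hm'⟩ := hm
    -- every point of `N'` fixes every translate of `o`
    have fix' : ∀ (T : Over S) (c : T ⟶ N') (g : T ⟶ G),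
        lift (c ≫ n') (g ≫ a.orbitMap o) ≫ a.act = g ≫ a.orbitMap o := fun T c g => by
      obtain ⟨d, hd⟩ := hn T g⁻¹ c
      rw [inv_inv] at hd
      let l : T ⟶ G ⊗ H := lift 1 (d ≫ m')
      have hl := congrArg (fun f => l ≫ f) hsq.w
      have e1 : l ≫ fst G H = 1 := lift_fst _ _
      have e2 : l ≫ (G ◁ i) ≫ μ[G] = d ≫ n' := by
        rw [MonObj.mul_eq_mul, MonObj.comp_mul, whiskerLeft_fst, whiskerLeft_snd, MonObj.comp_mul, e1,
          lift_snd_assoc, Category.assoc, hm', _root_.one_mul]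
      simp only [← Category.assoc] at hl
      rw [e1, Category.assoc l, e2, orbitMap_apply, orbitMap_apply, act_one] at hl
      have hd' : (c ≫ n') * g = g * (d ≫ n') := by
        rw [← hd, _root_.mul_assoc g⁻¹, mul_inv_cancel_left]
      rw [orbitMap_apply, ← act_mul, hd', act_mul, ← hl]
    refine (hN N' n').2 fun T' s x => ?_
    have key : lift (fst N' Q ≫ n') (snd N' Q) ≫ a.act = snd N' Q := hepi _ _ (by
      rw [comp_lift_assoc, whiskerLeft_fst_assoc, whiskerLeft_snd]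
      exact fix' _ (fst N' G) (snd N' G))
    calc lift (s ≫ n') x ≫ a.act = lift s x ≫ lift (fst N' Q ≫ n') (snd N' Q) ≫ a.act := by
          rw [comp_lift_assoc, lift_fst_assoc, lift_snd]
      _ = x := by rw [key, lift_snd]

end Groth.L19.AlgGrpBasic
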