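import Groth.Agent.L08.HomogFibre
import Groth.Agent.L06.Constr
import Mathlib.Topology.JacobsonSpace

/-!
# Orbits of rational points are open in their closure
-/

set_option autoImplicit false
set_option linter.style.haveILetI false
set_option backward.isDefEq.respectTransparency.types false

universe u

open CategoryTheory CategoryTheory.Limits MonoidalCategory CartesianMonoidalCategory MonObj AlgebraicGeometry
open Topology TopologicalSpace

namespace Groth.L19.AlgGrpBasic

section Top

variable {X : Type*} [TopologicalSpace X]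

/-- A constructible set contains a dense open of its closure. -/
theorem exists_open_dense_of_constructible {E : Set X} (hE : IsConstructible E) :
    ∃ U : Set X, IsOpen U ∧ closure E ⊆ closure (U ∩ closure E) ∧ U ∩ closure E ⊆ E := by
  classical
  obtain ⟨n, L, hL, rfl⟩ := Groth.L06.Constr.exists_finite_isLocallyClosed hE
  let Y := ↥(closure (⋃ i, L i))
  let L' : Fin n → Set Y := fun i => Subtype.val ⁻¹' L i
  have key : ∀ F : Finset (Fin n), IsOpen (⋂ i ∈ F, coborder (L' i)) ∧ Dense (⋂ i ∈ F, coborder (L' i)) := by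
    intro F
    induction F using Finset.induction with
    | empty => simp
    | insert i F hi ih =>
      rw [Finset.set_biInter_insert]
      exact ⟨((hL i).preimage continuous_subtype_val).isOpen_coborder.inter ih.1,
        dense_coborder.inter_of_isOpen_right ih.2 ih.1⟩
  obtain ⟨U, hU, hUe⟩ := isOpen_induced_iff.1 (key Finset.univ).1
  refine ⟨U, hU, ?_, ?_⟩
  · rw [← Groth.L06.Constr.dense_subtype_iff, hUe]
    exact (key Finset.univ).2
  · rintro x ⟨hx, hxZ⟩
    have hd : Dense (⋃ i, L' i) := by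
      rw [← Set.preimage_iUnion, Groth.L06.Constr.dense_subtype_iff, Set.inter_eq_left.2 subset_closure]
    have hy : (⟨x, hxZ⟩ : Y) ∈ closure (⋃ i, L' i) := hd _
    obtain ⟨i, hi⟩ := Set.mem_iUnion.1 ((closure_iUnion_of_finite (f := L')).subset hy)
    have hc : (⟨x, hxZ⟩ : Y) ∈ coborder (L' i) := by
      have : (⟨x, hxZ⟩ : Y) ∈ Subtype.val ⁻¹' U := hx
      rw [hUe] at this
      exact Set.mem_iInter₂.1 this i (Finset.mem_univ i)
    have : (⟨x, hxZ⟩ : Y) ∈ L' i := closure_inter_coborder.subset ⟨hi, hc⟩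
    exact Set.mem_iUnion.2 ⟨i, this⟩

/-- A constructible set in a Jacobson space without closed points is empty. -/
theorem eq_empty_of_constructible [JacobsonSpace X] {E : Set X} (hE : IsConstructible E)
    (h : ∀ p ∈ E, IsClosed ({p} : Set X) → False) : E = ∅ := by
  obtain ⟨n, L, hL, rfl⟩ := Groth.L06.Constr.exists_finite_isLocallyClosed hE
  rw [Set.iUnion_eq_empty]
  intro i
  by_contra hne
  obtain ⟨p, hp, hpc⟩ := nonempty_inter_closedPoints (Set.nonempty_iff_ne_empty.2 hne) (hL i)
  exact h p (Set.mem_iUnion.2 ⟨i, hp⟩) hpc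

/-- A constructible set whose closed points are permuted transitively is open in its closure. -/
theorem exists_eq_inter_closure [JacobsonSpace X] [NoetherianSpace X] {E : Set X} (hE : IsConstructible E)
    (htr : ∀ p ∈ E, IsClosed ({p} : Set X) → ∀ q ∈ E, IsClosed ({q} : Set X) →
      ∃ φ : X ≃ₜ X, φ ⁻¹' E = E ∧ φ p = q) :
    ∃ W : Set X, IsOpen W ∧ E = W ∩ closure E := by
  obtain ⟨U, hU, hUd, hUE⟩ := exists_open_dense_of_constructible hE
  rcases E.eq_empty_or_nonempty with rfl | ⟨e, he⟩
  · exact ⟨∅, isOpen_empty, by simp⟩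
  have hne : (U ∩ closure E).Nonempty := by
    by_contra hne
    rw [Set.not_nonempty_iff_eq_empty] at hne
    rw [hne, closure_empty] at hUd
    exact hUd (subset_closure he)
  obtain ⟨q, hq, hqc⟩ := nonempty_inter_closedPoints hne (hU.isLocallyClosed.inter isClosed_closure.isLocallyClosed)
  let W : Set X := ⋃ φ ∈ {φ : X ≃ₜ X | φ ⁻¹' E = E}, φ ⁻¹' U
  have hW : IsOpen W := isOpen_biUnion fun φ _ => hU.preimage φ.continuous
  refine ⟨W, hW, Set.Subset.antisymm (fun x hx => ⟨?_, subset_closure hx⟩) ?_⟩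
  · by_contra hxW
    have : E \ W = ∅ := eq_empty_of_constructible (hE.sdiff (Groth.L06.Constr.isConstructible_of_isOpen hW))
      fun p hp hpc => by
        obtain ⟨φ, hφ, hφp⟩ := htr p hp.1 hpc q (hUE hq) hqc
        exact hp.2 (Set.mem_biUnion (show φ ∈ {φ : X ≃ₜ X | φ ⁻¹' E = E} from hφ)
          (show φ p ∈ U from hφp ▸ hq.1))
    exact (this.subset ⟨hx, hxW⟩ : x ∈ (∅ : Set X))
  · rintro x ⟨hxW, hxZ⟩
    obtain ⟨φ, hφ, hxU⟩ := Set.mem_iUnion₂.1 hxW
    have hφ' : φ ⁻¹' E = E := hφ
    have : φ x ∈ closure E := by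
      rw [← hφ', ← φ.preimage_closure] at hxZ
      exact hxZ
    exact hφ'.subset (hUE ⟨hxU, this⟩)

end Top

variable {K : Type u} [Field K] [IsAlgClosed K] {G X : Over (Spec (CommRingCat.of K))} [GrpObj G]
  [LocallyOfFiniteType G.hom]

omit [GrpObj G] in
theorem exists_point_of_closed {p : G.left} (hp : IsClosed ({p} : Set G.left)) :
    ∃ s : 𝟙_ (Over (Spec (CommRingCat.of K))) ⟶ G, Groth.L08.ProfiniteImage.pt s = p :=
  ⟨Over.homMk _ ((pointEquivClosedPoint G.hom).symm ⟨p, hp⟩).2,
    congrArg Subtype.val ((pointEquivClosedPoint G.hom).apply_symm_apply ⟨p, hp⟩)⟩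

/-- Translations permute an orbit, transitively on closed points. -/
theorem exists_homeo_orbit (a : AlgGrp.Action G X) (x : 𝟙_ (Over (Spec (CommRingCat.of K))) ⟶ X)
    (p : X.left) (hp : p ∈ Set.range (a.orbitMap x).left) (hpc : IsClosed ({p} : Set X.left))
    (q : X.left) (hq : q ∈ Set.range (a.orbitMap x).left) (hqc : IsClosed ({q} : Set X.left)) :
    ∃ φ : X.left ≃ₜ X.left, φ ⁻¹' Set.range (a.orbitMap x).left = Set.range (a.orbitMap x).left ∧ φ p = q := by
  haveI := LocallyOfFiniteType.jacobsonSpace G.hom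
  let o := (a.orbitMap x).left
  have hrat : ∀ r : X.left, r ∈ Set.range o → IsClosed ({r} : Set X.left) →
      ∃ s : 𝟙_ (Over (Spec (CommRingCat.of K))) ⟶ G, o (Groth.L08.ProfiniteImage.pt s) = r := by
    rintro r ⟨γ, hγ⟩ hr
    obtain ⟨c, hc, hcc⟩ := nonempty_inter_closedPoints (Z := o ⁻¹' {r}) ⟨γ, hγ⟩ (hr.preimage o.continuous).isLocallyClosed
    obtain ⟨s, rfl⟩ := exists_point_of_closed hcc
    exact ⟨s, hc⟩
  obtain ⟨c, rfl⟩ := hrat p hp hpc
  obtain ⟨d, rfl⟩ := hrat q hq hqc
  haveI := Groth.L08.Homog.isIso_A a (d * c⁻¹)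
  let φ := (Groth.L08.Homog.A a (d * c⁻¹)).left.homeomorph
  have hcomm : ∀ g, φ (o g) = o ((Groth.L08.ProfiniteImage.lt (d * c⁻¹)).left g) := fun g =>
    (congr(($(Groth.L08.Homog.orbit_lt a x (d * c⁻¹))).left g)).symm
  refine ⟨φ, ?_, ?_⟩
  · ext y
    constructor
    · rintro ⟨g, hg⟩
      obtain ⟨g', hg'⟩ := (Groth.L08.ProfiniteImage.lt (d * c⁻¹)).left.homeomorph.surjective g
      refine ⟨g', φ.injective ((hcomm g').trans ?_)⟩
      rw [← hg]
      exact congrArg o hg'
    · rintro ⟨g, rfl⟩
      exact ⟨_, (hcomm g).symm⟩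
  · refine (hcomm _).trans ?_
    rw [Groth.L08.ProfiniteImage.pt_lt, inv_mul_cancel_right]

variable [LocallyOfFiniteType X.hom] [QuasiCompact X.hom] [QuasiCompact G.hom]

omit [GrpObj G] [IsAlgClosed K] in
theorem isConstructible_range (f : G ⟶ X) : IsConstructible (Set.range f.left) := by
  haveI : IsLocallyNoetherian X.left := LocallyOfFiniteType.isLocallyNoetherian X.hom
  haveI : CompactSpace X.left := QuasiCompact.compactSpace_of_compactSpace X.hom
  haveI : CompactSpace G.left := QuasiCompact.compactSpace_of_compactSpace G.hom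
  haveI : LocallyOfFiniteType (f.left ≫ X.hom) := by rw [Over.w]; infer_instance
  haveI : QuasiCompact (f.left ≫ X.hom) := by rw [Over.w]; infer_instance
  haveI : LocallyOfFiniteType f.left := locallyOfFiniteType_of_comp f.left X.hom
  haveI : QuasiSeparatedSpace X.left := inferInstance
  haveI : QuasiSeparated X.hom := inferInstance
  haveI : QuasiCompact f.left := QuasiCompact.of_comp f.left X.hom
  rw [← Set.image_univ]
  exact Scheme.Hom.isConstructible_image f.left .univ

omit [GrpObj G] [IsAlgClosed K] [LocallyOfFiniteType G.hom] [QuasiCompact G.hom] in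
theorem noetherianSpace_left : NoetherianSpace X.left := by
  haveI : IsLocallyNoetherian X.left := LocallyOfFiniteType.isLocallyNoetherian X.hom
  haveI : CompactSpace X.left := QuasiCompact.compactSpace_of_compactSpace X.hom
  haveI : IsNoetherian X.left := { }
  infer_instance

/-- The orbit of a rational point is open in its closure. -/
theorem exists_open_orbit (a : AlgGrp.Action G X) (x : 𝟙_ (Over (Spec (CommRingCat.of K))) ⟶ X) :
    ∃ W : Set X.left, IsOpen W ∧ Set.range (a.orbitMap x).left = W ∩ closure (Set.range (a.orbitMap x).left) := by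
  haveI := noetherianSpace_left (X := X)
  haveI := LocallyOfFiniteType.jacobsonSpace X.hom
  exact exists_eq_inter_closure (isConstructible_range _) (exists_homeo_orbit a x)

/-- The boundary of an orbit is closed. -/
theorem isClosed_boundary (a : AlgGrp.Action G X) (x : 𝟙_ (Over (Spec (CommRingCat.of K))) ⟶ X) :
    IsClosed (closure (Set.range (a.orbitMap x).left) \ Set.range (a.orbitMap x).left) := by
  obtain ⟨W, hW, he⟩ := exists_open_orbit a x
  nth_rw 2 [he]
  rw [Set.sdiff_inter_self_eq_sdiff]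
  exact isClosed_closure.sdiff hW

/-- The orbit of a rational point of the boundary lies in the boundary. -/
theorem orbit_subset_boundary (a : AlgGrp.Action G X) (x y : 𝟙_ (Over (Spec (CommRingCat.of K))) ⟶ X)
    (hy : y.left (IsLocalRing.closedPoint K) ∈ closure (Set.range (a.orbitMap x).left) \ Set.range (a.orbitMap x).left) :
    Set.range (a.orbitMap y).left ⊆ closure (Set.range (a.orbitMap x).left) \ Set.range (a.orbitMap x).left := by
  haveI := noetherianSpace_left (X := X)
  haveI := LocallyOfFiniteType.jacobsonSpace X.hom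
  haveI := LocallyOfFiniteType.jacobsonSpace G.hom
  refine Set.sdiff_eq_empty.1 (eq_empty_of_constructible
    ((isConstructible_range _).sdiff (Groth.L06.Constr.isConstructible_of_isClosed (isClosed_boundary a x))) ?_)
  rintro p ⟨⟨γ, hγ⟩, hp⟩ hpc
  obtain ⟨c, hc, hcc⟩ := nonempty_inter_closedPoints (Z := (a.orbitMap y).left ⁻¹' {p}) ⟨γ, hγ⟩
    (hpc.preimage (a.orbitMap y).left.continuous).isLocallyClosed
  obtain ⟨s, rfl⟩ := exists_point_of_closed hcc
  obtain rfl : (a.orbitMap y).left (Groth.L08.ProfiniteImage.pt s) = p := hc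
  haveI := Groth.L08.Homog.isIso_A a s
  let φ := (Groth.L08.Homog.A a s).left.homeomorph
  have e : s ≫ a.orbitMap y = y ≫ Groth.L08.Homog.A a s := by
    rw [Groth.L08.Homog.comp_A, AlgGrp.Action.orbitMap, comp_lift_assoc, Category.comp_id]
    rw [← Category.assoc s (toUnit G) y, toUnit_unique (s ≫ toUnit G) (toUnit _)]
    rfl
  have hφy : φ (y.left (IsLocalRing.closedPoint K)) = (a.orbitMap y).left (Groth.L08.ProfiniteImage.pt s) :=
    (congr(($e).left (IsLocalRing.closedPoint K))).symm
  have hO : φ ⁻¹' Set.range (a.orbitMap x).left = Set.range (a.orbitMap x).left := by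
    have hcomm : ∀ g, φ ((a.orbitMap x).left g) = (a.orbitMap x).left ((Groth.L08.ProfiniteImage.lt s).left g) :=
      fun g => (congr(($(Groth.L08.Homog.orbit_lt a x s)).left g)).symm
    ext z
    constructor
    · rintro ⟨g, hg⟩
      obtain ⟨g', hg'⟩ := (Groth.L08.ProfiniteImage.lt s).left.homeomorph.surjective g
      refine ⟨g', φ.injective ((hcomm g').trans ?_)⟩
      rw [← hg]
      exact congrArg (a.orbitMap x).left hg'
    · rintro ⟨g, rfl⟩
      exact ⟨_, (hcomm g).symm⟩
  refine hp ?_
  rw [← hφy]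
  have : φ ⁻¹' (closure (Set.range (a.orbitMap x).left) \ Set.range (a.orbitMap x).left) =
      closure (Set.range (a.orbitMap x).left) \ Set.range (a.orbitMap x).left := by
    rw [Set.preimage_sdiff, φ.preimage_closure, hO]
  exact this.symm.subset hy

end Groth.L19.AlgGrpBasic
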