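import Groth.Agent.L19.AlgGrpBasic.OrbitProper
import Groth.Agent.L19.AlgGrpBasic.OrbitBC
import Groth.Agent.L00.ReducedSub
import Groth.Agent.S7984

/-!
The orbit map onto a reduced orbit is flat over an algebraically closed field; a monomorphism through
which the orbit map factors surjectively is an immersion.
-/

universe u

open CategoryTheory CategoryTheory.Limits MonoidalCategory CartesianMonoidalCategory MonObj AlgebraicGeometry

namespace Groth.L19.OrbitFlat

set_option linter.style.haveILetI false
set_option backward.isDefEq.respectTransparency.types false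
set_option backward.defeqAttrib.useBackward true

variable {k : Type u} [Field k] {G X : Over (Spec (CommRingCat.of k))}

/-- Closed points of a locally closed subscheme are closed. -/
theorem isClosed_point_of_lft [LocallyOfFiniteType X.hom] {O : Scheme.{u}} (i : O ⟶ X.left) [IsImmersion i]
    (z : O) (hz : IsClosed ({z} : Set O)) : IsClosed ({i z} : Set X.left) := by
  haveI := LocallyOfFiniteType.jacobsonSpace X.hom
  have h : IsLocallyClosed ({i z} : Set X.left) := by
    rw [← Set.image_singleton]
    exact hz.isLocallyClosed.image i.isEmbedding.isInducing i.isLocallyClosed_range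
  obtain ⟨w, rfl, hw⟩ := nonempty_inter_closedPoints (Set.singleton_nonempty _) h
  exact hw

variable [IsAlgClosed k] [GrpObj G] [LocallyOfFiniteType G.hom] [QuasiCompact G.hom] [LocallyOfFiniteType X.hom]

/-- The orbit map onto the reduced orbit is flat. -/
theorem flat_orbit (a : AlgGrp.Action G X) (x : 𝟙_ (Over (Spec (CommRingCat.of k))) ⟶ X)
    {O R : Scheme.{u}} (ιO : O ⟶ X.left) [IsImmersion ιO] [IsReduced O] (j : R ⟶ G.left) [IsClosedImmersion j]
    [IsReduced R] [Surjective j] (π₀ : R ⟶ O) (hπ₀ : π₀ ≫ ιO = j ≫ (a.orbitMap x).left)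
    (hιO : Set.range ιO = Set.range (a.orbitMap x).left) : Flat π₀ := by
  let π := a.orbitMap x
  change π₀ ≫ ιO = j ≫ π.left at hπ₀
  change Set.range ιO = Set.range π.left at hιO
  have hj : Set.range j = Set.univ := Set.range_eq_univ.2 j.surjective
  haveI : CompactSpace G.left := QuasiCompact.compactSpace_of_compactSpace G.hom
  haveI : CompactSpace R := j.isClosedEmbedding.compactSpace
  haveI : IsLocallyNoetherian X.left := LocallyOfFiniteType.isLocallyNoetherian X.hom
  haveI : LocallyOfFiniteType (π₀ ≫ ιO) := by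
    rw [hπ₀]
    haveI : LocallyOfFiniteType (π.left ≫ X.hom) := by rw [Over.w]; infer_instance
    haveI : LocallyOfFiniteType π.left := locallyOfFiniteType_of_comp π.left X.hom
    infer_instance
  haveI : LocallyOfFiniteType π₀ := locallyOfFiniteType_of_comp π₀ ιO
  haveI : IsLocallyNoetherian O := LocallyOfFiniteType.isLocallyNoetherian ιO
  haveI : QuasiCompact π₀ := quasiCompact_of_compactSpace π₀
  obtain ⟨V, hV, hVflat, -⟩ := Groth.L20.GFR.exists_dense_flat_lfp π₀
  haveI : JacobsonSpace O := LocallyOfFiniteType.jacobsonSpace (ιO ≫ X.hom)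
  haveI : JacobsonSpace G.left := LocallyOfFiniteType.jacobsonSpace G.hom
  let C : Set O.Opens := {U | Flat (π₀ ∣_ U)}
  suffices hC : sSup C = ⊤ by
    refine IsZariskiLocalAtTarget.of_iSup_eq_top (P := @Flat) (fun U : C => U.1) ?_ fun U => U.2
    rw [← hC, sSup_eq_iSup']
  by_contra hne
  have hne' : ((sSup C : O.Opens) : Set O)ᶜ.Nonempty := by
    rw [Set.nonempty_compl]
    exact fun h => hne (TopologicalSpace.Opens.ext h)
  obtain ⟨p, hp, hpc⟩ := nonempty_inter_closedPoints hne' (sSup C).2.isClosed_compl.isLocallyClosed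
  obtain ⟨q, hqV, hqc⟩ := nonempty_inter_closedPoints
    (hV.nonempty_iff.2 ⟨p⟩) V.2.isLocallyClosed
  have hrat : ∀ z : O, IsClosed ({z} : Set O) → ∃ s : 𝟙_ (Over (Spec (CommRingCat.of k))) ⟶ G,
      π.left (Groth.L08.ProfiniteImage.pt s) = ιO z := by
    intro z hz
    have hzc : IsClosed ({ιO z} : Set X.left) := by
      exact isClosed_point_of_lft ιO z hz
    obtain ⟨γ, hγ⟩ := hιO.subset ⟨z, rfl⟩
    obtain ⟨c, hc, hcc⟩ := nonempty_inter_closedPoints (Z := π.left ⁻¹' {ιO z}) ⟨γ, hγ⟩
      (hzc.preimage π.left.continuous).isLocallyClosed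
    obtain ⟨s, rfl⟩ := Groth.L19.AlgGrpBasic.exists_point_of_closed hcc
    exact ⟨s, hc⟩
  obtain ⟨c, hc⟩ := hrat p hpc
  obtain ⟨d, hd⟩ := hrat q hqc
  set h := d * c⁻¹
  have hinv : ∀ h : 𝟙_ (Over (Spec (CommRingCat.of k))) ⟶ G,
      (Groth.L08.Homog.A a h).left ≫ (Groth.L08.Homog.A a h⁻¹).left = 𝟙 X.left := fun h => by
    rw [← Over.comp_left, Groth.L08.Homog.comp_A, GrpObj.comp_inv]
    exact congrArg CommaMorphism.left (Groth.L25.Actions.inv_act a _ _)
  have hlt : ∀ h, (Groth.L08.ProfiniteImage.lt h).left ≫ π.left = π.left ≫ (Groth.L08.Homog.A a h).left := fun h => by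
    rw [← Over.comp_left, ← Over.comp_left, Groth.L08.Homog.orbit_lt]
  have hα : ∀ h, ∃ α : O ⟶ O, α ≫ ιO = ιO ≫ (Groth.L08.Homog.A a h).left := fun h =>
    Groth.L19.exists_lift_of_isImmersion ιO _ (by
      rintro _ ⟨z, rfl⟩
      obtain ⟨g, hg⟩ := hιO.subset ⟨z, rfl⟩
      rw [hιO, Scheme.Hom.comp_apply, ← hg, ← Scheme.Hom.comp_apply, ← hlt]
      exact ⟨_, rfl⟩)
  have hβ : ∀ h, ∃ β : R ⟶ R, β ≫ j = j ≫ (Groth.L08.ProfiniteImage.lt h).left := fun h =>
    Groth.L19.exists_lift_of_isImmersion j _ (hj ▸ Set.subset_univ _)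
  choose α hα using hα
  choose β hβ using hβ
  haveI : IsIso (α h) := by
    refine ⟨α h⁻¹, ?_, ?_⟩ <;> rw [← cancel_mono ιO, Category.assoc, hα, reassoc_of% hα, Category.id_comp]
    · rw [hinv]; exact Category.comp_id _
    · conv_lhs => enter [2, 2]; rw [← inv_inv h]
      rw [hinv]; exact Category.comp_id _
  haveI : IsIso (β h) := by
    have hb : ∀ h, β h ≫ β h⁻¹ = 𝟙 R := fun h => by
      rw [← cancel_mono j, Category.assoc, hβ, reassoc_of% hβ, Category.id_comp, ← Over.comp_left,
        Groth.L08.ProfiniteImage.comp_lt, Groth.L08.ProfiniteImage.lt, ← _root_.mul_assoc, ← MonObj.comp_mul,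
        inv_mul_cancel, MonObj.comp_one, _root_.one_mul]
      exact Category.comp_id _
    exact ⟨β h⁻¹, hb h, by simpa using hb h⁻¹⟩
  have hcomm : π₀ ≫ α h = β h ≫ π₀ := by
    rw [← cancel_mono ιO, Category.assoc, hα, reassoc_of% hπ₀, Category.assoc, hπ₀, reassoc_of% hβ, hlt]
  have hflatU : Flat (π₀ ∣_ (α h ⁻¹ᵁ V)) := by
    have h1 : Flat ((β h ≫ π₀) ∣_ V) := by
      rw [morphismRestrict_comp]
      haveI : Flat (β h ∣_ (π₀ ⁻¹ᵁ V)) := IsZariskiLocalAtTarget.restrict (P := @Flat) inferInstance _
      exact MorphismProperty.comp_mem _ _ _ inferInstance hVflat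
    rw [← hcomm, morphismRestrict_comp] at h1
    exact (MorphismProperty.cancel_right_of_respectsIso (P := @Flat) _ _).1 h1
  refine hp (le_sSup (show (α h ⁻¹ᵁ V) ∈ C from hflatU) ?_)
  show α h p ∈ V
  suffices α h p = q by rw [this]; exact hqV
  apply ιO.isEmbedding.injective
  rw [← Scheme.Hom.comp_apply, hα, Scheme.Hom.comp_apply, ← hc, ← Scheme.Hom.comp_apply, ← hlt,
    Scheme.Hom.comp_apply, Groth.L08.ProfiniteImage.pt_lt, inv_mul_cancel_right, hd]
/-- Over an algebraically closed field, a monomorphism through which the orbit map factors surjectively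
is an immersion. -/
theorem isImmersion_of_orbit_algClosed [QuasiCompact X.hom] (a : AlgGrp.Action G X)
    (x : 𝟙_ (Over (Spec (CommRingCat.of k))) ⟶ X) {Y : Over (Spec (CommRingCat.of k))} (q : G ⟶ Y)
    [Surjective q.left] (f : Y ⟶ X) [Mono f.left] [LocallyOfFiniteType f.left]
    (hqf : q ≫ f = a.orbitMap x) : IsImmersion f.left := by
  set π := a.orbitMap x
  have hqf' : q.left ≫ f.left = π.left := congrArg CommaMorphism.left hqf
  have hf : Set.range f.left = Set.range π.left := by
    rw [← hqf', Scheme.Hom.comp_base, TopCat.coe_comp, Set.range_comp, q.left.surjective.range_eq,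
      Set.image_univ]
  obtain ⟨W, hW, hE⟩ := Groth.L19.AlgGrpBasic.exists_open_orbit a x
  change Set.range π.left = W ∩ closure (Set.range π.left) at hE
  obtain ⟨O, iO, _, _, hι⟩ := Groth.L00.ReducedSub.exists_reduced (Set.range π.left)
    ⟨W, _, hW, isClosed_closure, hE⟩
  let R := (Scheme.IdealSheafData.vanishingIdeal (X := G.left) ⊤).subscheme
  let j : R ⟶ G.left := (Scheme.IdealSheafData.vanishingIdeal (X := G.left) ⊤).subschemeι
  haveI : IsReduced R := Groth.L18.isReduced_vanishingIdeal_subscheme _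
  haveI : Surjective j := ⟨Set.range_eq_univ.1 ((Scheme.IdealSheafData.range_subschemeι _).trans (by simp))⟩
  obtain ⟨π₀, hπ₀⟩ := Groth.L19.exists_lift_of_isImmersion iO (j ≫ π.left) (by
    rintro _ ⟨r, rfl⟩
    rw [hι]
    exact ⟨j r, rfl⟩)
  haveI : Surjective π₀ := ⟨fun z => by
    obtain ⟨g, hg⟩ := hι.subset ⟨z, rfl⟩
    obtain ⟨r, rfl⟩ := j.surjective g
    exact ⟨r, iO.isEmbedding.injective (by rw [← Scheme.Hom.comp_apply, hπ₀, Scheme.Hom.comp_apply, hg])⟩⟩
  haveI : Flat π₀ := flat_orbit a x iO j π₀ hπ₀ hι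
  haveI : IsLocallyNoetherian X.left := LocallyOfFiniteType.isLocallyNoetherian X.hom
  haveI : IsLocallyNoetherian O := LocallyOfFiniteType.isLocallyNoetherian iO
  haveI : CompactSpace G.left := QuasiCompact.compactSpace_of_compactSpace G.hom
  haveI : CompactSpace R := j.isClosedEmbedding.compactSpace
  haveI : QuasiCompact π₀ := quasiCompact_of_compactSpace π₀
  haveI : IsIso (pullback.fst iO f.left) := by
    show MorphismProperty.isomorphisms Scheme _
    refine MorphismProperty.of_pullback_fst_of_descendsAlong (P := MorphismProperty.isomorphisms Scheme)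
      (Q := @Surjective ⊓ @Flat ⊓ @QuasiCompact) (f := π₀) ⟨⟨‹_›, ‹_›⟩, ‹_›⟩ ?_
    let s : R ⟶ pullback π₀ (pullback.fst iO f.left) := pullback.lift (𝟙 R)
      (pullback.lift π₀ (j ≫ q.left) (by rw [hπ₀, Category.assoc, hqf']))
      (by rw [Category.id_comp, pullback.lift_fst])
    haveI : IsSplitEpi (pullback.fst π₀ (pullback.fst iO f.left)) := IsSplitEpi.mk' ⟨s, pullback.lift_fst _ _ _⟩
    exact isIso_of_mono_of_isSplitEpi _
  let l : O ⟶ Y.left := inv (pullback.fst iO f.left) ≫ pullback.snd iO f.left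
  have hl : l ≫ f.left = iO := by
    rw [Category.assoc, ← pullback.condition, IsIso.inv_hom_id_assoc]
  haveI : Surjective l := ⟨fun y => by
    obtain ⟨z, hz⟩ := (hι.symm.subset (hf.subset ⟨y, rfl⟩) : f.left y ∈ Set.range iO)
    exact ⟨z, f.left.injective (by rw [← Scheme.Hom.comp_apply, hl, hz])⟩⟩
  let U : X.left.Opens := ⟨W, hW⟩
  have hU : Set.range f.left ⊆ Set.range U.ι := by
    rw [Scheme.Opens.range_ι, hf, hE]
    exact Set.inter_subset_left
  let f' : Y.left ⟶ U := IsOpenImmersion.lift U.ι f.left hU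
  have hf' : f' ≫ U.ι = f.left := IsOpenImmersion.lift_fac _ _ _
  haveI : Mono (f' ≫ U.ι) := hf'.symm ▸ ‹Mono f.left›
  haveI : Mono f' := mono_of_mono f' U.ι
  haveI : LocallyOfFiniteType (f' ≫ U.ι) := hf'.symm ▸ ‹LocallyOfFiniteType f.left›
  haveI : LocallyOfFiniteType f' := locallyOfFiniteType_of_comp f' U.ι
  haveI : IsImmersion ((l ≫ f') ≫ U.ι) := by rw [Category.assoc, hf', hl]; infer_instance
  haveI : IsImmersion (l ≫ f') := IsImmersion.of_comp _ U.ι
  haveI : IsClosedImmersion (l ≫ f') := by
    refine IsClosedImmersion.of_isPreimmersion _ ?_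
    have : Set.range (l ≫ f') = U.ι ⁻¹' closure (Set.range π.left) := by
      ext u
      constructor
      · rintro ⟨z, rfl⟩
        show U.ι ((l ≫ f') z) ∈ closure (Set.range π.left)
        rw [← Scheme.Hom.comp_apply, Category.assoc, hf', hl]
        exact subset_closure (hι.subset ⟨z, rfl⟩)
      · intro hu
        have hu' : U.ι u ∈ W ∩ closure (Set.range π.left) := ⟨u.2, hu⟩
        rw [← hE, ← hι] at hu'
        obtain ⟨z, hz⟩ := hu'
        exact ⟨z, U.ι.isOpenEmbedding.injective (by
          rw [← Scheme.Hom.comp_apply, Category.assoc, hf', hl, hz])⟩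
    rw [this]
    exact isClosed_closure.preimage U.ι.continuous
  haveI : UniversallyClosed f' := UniversallyClosed.of_comp_surjective l f'
  haveI : IsClosedImmersion f' := (IsClosedImmersion.iff_isProper_and_mono f').2 ⟨{}, inferInstance⟩
  rw [← hf']
  infer_instance

omit [IsAlgClosed k] in
/-- A monomorphism through which the orbit map factors surjectively is an immersion. -/
theorem isImmersion_of_orbit [QuasiCompact X.hom] (a : AlgGrp.Action G X)
    (x : 𝟙_ (Over (Spec (CommRingCat.of k))) ⟶ X) {Y : Over (Spec (CommRingCat.of k))} (q : G ⟶ Y)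
    [Surjective q.left] (f : Y ⟶ X) [Mono f.left] [LocallyOfFiniteType f.left]
    (hqf : q ≫ f = a.orbitMap x) : IsImmersion f.left := by
  set π := a.orbitMap x
  have hqf' : q.left ≫ f.left = π.left := congrArg CommaMorphism.left hqf
  have hf : Set.range f.left = Set.range π.left := by
    rw [← hqf', Scheme.Hom.comp_base, TopCat.coe_comp, Set.range_comp, q.left.surjective.range_eq,
      Set.image_univ]
  have hlc : IsLocallyClosed (Set.range π.left) := Groth.Agent.S7984.result k G X a x
  let U : X.left.Opens := ⟨coborder (Set.range π.left), hlc.isOpen_coborder⟩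
  have hU : Set.range f.left ⊆ Set.range U.ι := by
    rw [Scheme.Opens.range_ι, hf]
    exact subset_coborder
  let f' : Y.left ⟶ U := IsOpenImmersion.lift U.ι f.left hU
  have hf' : f' ≫ U.ι = f.left := IsOpenImmersion.lift_fac _ _ _
  haveI : Mono (f' ≫ U.ι) := hf'.symm ▸ ‹Mono f.left›
  haveI : Mono f' := mono_of_mono f' U.ι
  haveI : LocallyOfFiniteType (f' ≫ U.ι) := hf'.symm ▸ ‹LocallyOfFiniteType f.left›
  haveI : LocallyOfFiniteType f' := locallyOfFiniteType_of_comp f' U.ι
  have hclosed : IsClosed (Set.range f') := by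
    have : Set.range f' = U.ι ⁻¹' closure (Set.range π.left) := by
      ext u
      constructor
      · rintro ⟨z, rfl⟩
        show U.ι (f' z) ∈ closure (Set.range π.left)
        rw [← Scheme.Hom.comp_apply, hf']
        exact subset_closure (hf.subset ⟨z, rfl⟩)
      · intro hu
        have hu' : U.ι u ∈ coborder (Set.range π.left) ∩ closure (Set.range π.left) := ⟨u.2, hu⟩
        rw [coborder_inter_closure, ← hf] at hu'
        obtain ⟨z, hz⟩ := hu'
        exact ⟨z, U.ι.isOpenEmbedding.injective (by rw [← Scheme.Hom.comp_apply, hf', hz])⟩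
    rw [this]
    exact isClosed_closure.preimage U.ι.continuous
  haveI : UniversallyClosed f' := by
    let L : Type u := AlgebraicClosure k
    let t : Spec (CommRingCat.of L) ⟶ Spec (CommRingCat.of k) := Spec.map (CommRingCat.ofHom (algebraMap k L))
    haveI : Surjective t := ⟨fun s => ⟨IsLocalRing.closedPoint L, Subsingleton.elim (α := PrimeSpectrum k) _ _⟩⟩
    haveI : Flat t := inferInstance
    haveI : QuasiCompact t := inferInstance
    let G' : Over (Spec (CommRingCat.of L)) := Red.bc t G
    let X' : Over (Spec (CommRingCat.of L)) := Red.bc t X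
    let Y' : Over (Spec (CommRingCat.of L)) := Red.bc t Y
    letI : GrpObj G' := inferInstanceAs (GrpObj (Red.bc t G))
    haveI : LocallyOfFiniteType G'.hom := inferInstanceAs (LocallyOfFiniteType (pullback.snd G.hom t))
    haveI : LocallyOfFiniteType X'.hom := inferInstanceAs (LocallyOfFiniteType (pullback.snd X.hom t))
    haveI : QuasiCompact G'.hom := inferInstanceAs (QuasiCompact (pullback.snd G.hom t))
    haveI : QuasiCompact X'.hom := inferInstanceAs (QuasiCompact (pullback.snd X.hom t))
    let fL : Y' ⟶ X' := (Over.pullback t).map f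
    let qL : G' ⟶ Y' := (Over.pullback t).map q
    have sqf : IsPullback (pullback.fst Y.hom t) fL.left f.left (pullback.fst X.hom t) :=
      Groth.L08.HomLocus.isPullback_bc t f
    haveI : Mono fL.left := sqf.mono_snd_of_mono
    haveI : LocallyOfFiniteType fL.left := MorphismProperty.of_isPullback sqf ‹LocallyOfFiniteType f.left›
    haveI : Surjective qL.left :=
      MorphismProperty.of_isPullback (Groth.L08.HomLocus.isPullback_bc t q) ‹Surjective q.left›
    have himm : IsImmersion fL.left := isImmersion_of_orbit_algClosed (a.bc t)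
      (Groth.L19.AlgGrpBasic.bcPt t x) qL fL (by
        rw [Groth.L19.AlgGrpBasic.bc_orbitMap, ← Functor.map_comp, hqf])
    let p : X'.left ⟶ X.left := pullback.fst X.hom t
    haveI : Surjective p := MorphismProperty.pullback_fst _ _ ‹Surjective t›
    haveI : Flat p := MorphismProperty.pullback_fst _ _ ‹Flat t›
    haveI : QuasiCompact p := MorphismProperty.pullback_fst _ _ ‹QuasiCompact t›
    refine MorphismProperty.of_pullback_snd_of_descendsAlong (P := @UniversallyClosed)
      (Q := @Surjective ⊓ @Flat ⊓ @QuasiCompact) (g := pullback.fst U.ι p)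
      ⟨⟨MorphismProperty.pullback_fst _ _ ‹Surjective p›, MorphismProperty.pullback_fst _ _ ‹Flat p›⟩,
        MorphismProperty.pullback_fst _ _ ‹QuasiCompact p›⟩ ?_
    set g := pullback.fst U.ι p
    set h := pullback.snd f' g
    have sq : IsPullback (pullback.fst f' g) (h ≫ pullback.snd U.ι p) f.left p := by
      have := (IsPullback.of_hasPullback f' g).paste_vert (IsPullback.of_hasPullback U.ι p)
      rwa [hf'] at this
    haveI : IsImmersion (h ≫ pullback.snd U.ι p) := by
      rw [← IsPullback.isoIsPullback_hom_snd _ _ sq sqf]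
      infer_instance
    haveI : IsImmersion h := IsImmersion.of_comp h (pullback.snd U.ι p)
    haveI : IsClosedImmersion h := by
      refine IsClosedImmersion.of_isPreimmersion _ ?_
      have h' := Scheme.image_preimage_eq_of_isPullback (IsPullback.of_hasPullback f' g) Set.univ
      rw [Set.preimage_univ, Set.image_univ, Set.image_univ] at h'
      rw [h']
      exact hclosed.preimage g.continuous
    infer_instance
  haveI : IsClosedImmersion f' := (IsClosedImmersion.iff_isProper_and_mono f').2 ⟨{}, inferInstance⟩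
  rw [← hf']
  infer_instance

end Groth.L19.OrbitFlat
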