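import Groth.Agent.L19.AlgGrpBasic.OrbitClosure
import Groth.Agent.L25.Actions
import Mathlib.AlgebraicGeometry.Geometrically.Integral
import Mathlib.AlgebraicGeometry.Morphisms.Flat
import Mathlib.AlgebraicGeometry.AlgClosed.Basic

/-!
# Points with values in an algebraically closed extension, and transitivity of actions on them
-/

set_option autoImplicit false
set_option linter.style.haveILetI false
set_option backward.isDefEq.respectTransparency.types false

universe u

open CategoryTheory CategoryTheory.Limits MonoidalCategory CartesianMonoidalCategory MonObj AlgebraicGeometry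
open Topology

namespace Groth.L19.AlgGrpBasic

variable {k : Type u} [Field k]

theorem lft_tensor (X Y : Over (Spec (CommRingCat.of k))) [LocallyOfFiniteType X.hom] [LocallyOfFiniteType Y.hom] :
    LocallyOfFiniteType (X ⊗ Y).hom :=
  inferInstanceAs (LocallyOfFiniteType (pullback.fst X.hom Y.hom ≫ X.hom))

theorem qc_tensor (X Y : Over (Spec (CommRingCat.of k))) [QuasiCompact X.hom] [QuasiCompact Y.hom] :
    QuasiCompact (X ⊗ Y).hom :=
  inferInstanceAs (QuasiCompact (pullback.fst X.hom Y.hom ≫ X.hom))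

theorem irreducibleSpace_tensor (X Y : Over (Spec (CommRingCat.of k))) [GeometricallyIrreducible X.hom]
    [LocallyOfFiniteType X.hom] [IrreducibleSpace Y.left] : IrreducibleSpace (X ⊗ Y).left :=
  inferInstanceAs (IrreducibleSpace ↥(pullback X.hom Y.hom))

theorem universallyOpen_snd (X Y : Over (Spec (CommRingCat.of k))) [LocallyOfFiniteType X.hom] :
    UniversallyOpen (snd X Y).left :=
  inferInstanceAs (UniversallyOpen (pullback.snd X.hom Y.hom))

variable (k) in
/-- The spectrum of an extension field, over the base field. -/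
noncomputable abbrev gT (K : Type u) [Field K] [Algebra k K] : Over (Spec (CommRingCat.of k)) :=
  Over.mk (Spec.map (CommRingCat.ofHom (algebraMap k K)))

variable {K : Type u} [Field K] [Algebra k K]

/-- The image point of a point with values in `K`. -/
noncomputable abbrev gpt {X : Over (Spec (CommRingCat.of k))} (z : gT k K ⟶ X) : X.left :=
  z.left (IsLocalRing.closedPoint K)

theorem gpt_comp {X Y : Over (Spec (CommRingCat.of k))} (z : gT k K ⟶ X) (f : X ⟶ Y) :
    gpt (z ≫ f) = f.left (gpt z) := rfl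

variable [IsAlgClosed K]

/-- A `K`-point lifts along a morphism to any nonempty locally closed subset of the fibre. -/
theorem exists_lift_gpt' {X Y : Over (Spec (CommRingCat.of k))} (f : X ⟶ Y) [LocallyOfFiniteType f.left]
    (z : gT k K ⟶ Y) {O : Set X.left} (hO : IsLocallyClosed O) (q : X.left) (hq : q ∈ O)
    (hfq : f.left q = gpt z) : ∃ w : gT k K ⟶ X, w ≫ f = z ∧ gpt w ∈ O := by
  let pf : pullback f.left z.left ⟶ X.left := pullback.fst f.left z.left
  let pr : pullback f.left z.left ⟶ Spec (CommRingCat.of K) := pullback.snd f.left z.left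
  haveI : LocallyOfFiniteType pr := inferInstanceAs (LocallyOfFiniteType (pullback.snd f.left z.left))
  haveI : JacobsonSpace ↥(pullback f.left z.left) := LocallyOfFiniteType.jacobsonSpace pr
  obtain ⟨p, hp, -⟩ := Scheme.Pullback.exists_preimage_pullback (f := f.left) (g := z.left) q (IsLocalRing.closedPoint K : Spec (CommRingCat.of K)) hfq
  obtain ⟨c, hc, hcc⟩ := nonempty_inter_closedPoints (Z := pf ⁻¹' O) ⟨p, show pf p ∈ O from hp.symm ▸ hq⟩
    (hO.preimage pf.continuous)
  let s := (pointEquivClosedPoint pr).symm ⟨c, hcc⟩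
  have hs : s.1 (IsLocalRing.closedPoint K) = c :=
    congrArg Subtype.val ((pointEquivClosedPoint pr).apply_symm_apply ⟨c, hcc⟩)
  have h : (s.1 ≫ pf) ≫ f.left = z.left := by
    rw [Category.assoc, pullback.condition, reassoc_of% (show s.1 ≫ pr = 𝟙 _ from s.2)]
  refine ⟨Over.homMk (s.1 ≫ pf) ?_, Over.OverMorphism.ext h, ?_⟩
  · rw [← Over.w f, ← Category.assoc, h, Over.w]
  · show pf (s.1 (IsLocalRing.closedPoint K)) ∈ O
    rw [hs]
    exact hc

/-- A `K`-point lifts along a morphism of schemes locally of finite type over the base field. -/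
theorem exists_lift_gpt {X Y : Over (Spec (CommRingCat.of k))} [LocallyOfFiniteType X.hom] (f : X ⟶ Y)
    (z : gT k K ⟶ Y) {O : Set X.left} (hO : IsLocallyClosed O) (q : X.left) (hq : q ∈ O)
    (hfq : f.left q = gpt z) : ∃ w : gT k K ⟶ X, w ≫ f = z ∧ gpt w ∈ O := by
  haveI : LocallyOfFiniteType (f.left ≫ Y.hom) := by rw [Over.w]; infer_instance
  haveI : LocallyOfFiniteType f.left := locallyOfFiniteType_of_comp f.left Y.hom
  exact exists_lift_gpt' f z hO q hq hfq

/-- A nonempty locally closed subset contains the image of a `K`-point. -/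
theorem exists_gpt_mem {X : Over (Spec (CommRingCat.of k))} [LocallyOfFiniteType X.hom] {O : Set X.left}
    (hO : IsLocallyClosed O) (hne : O.Nonempty) : ∃ w : gT k K ⟶ X, gpt w ∈ O := by
  obtain ⟨q, hq⟩ := hne
  haveI : Subsingleton (𝟙_ (Over (Spec (CommRingCat.of k)))).left :=
    inferInstanceAs (Subsingleton (Spec (CommRingCat.of k)))
  obtain ⟨w, -, hw⟩ := exists_lift_gpt (toUnit X) (toUnit (gT k K)) hO q hq (Subsingleton.elim _ _)
  exact ⟨w, hw⟩

/-- A constructible set containing the image of no `K`-point is empty. -/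
theorem eq_empty_of_gpt {X : Over (Spec (CommRingCat.of k))} [LocallyOfFiniteType X.hom] {E : Set X.left}
    (hE : IsConstructible E) (h : ∀ w : gT k K ⟶ X, gpt w ∈ E → False) : E = ∅ := by
  obtain ⟨n, L, hL, rfl⟩ := Groth.L06.Constr.exists_finite_isLocallyClosed hE
  rw [Set.iUnion_eq_empty]
  intro i
  by_contra hne
  obtain ⟨w, hw⟩ := exists_gpt_mem (K := K) (hL i) (Set.nonempty_iff_ne_empty.2 hne)
  exact h w (Set.mem_iUnion.2 ⟨i, hw⟩)

/-- Two nonempty open slices meet at a common `K`-point. -/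
theorem exists_common_slice {X Y : Over (Spec (CommRingCat.of k))} [GeometricallyIrreducible X.hom]
    [LocallyOfFiniteType X.hom] (v v' : gT k K ⟶ Y) {O O' : Set (X ⊗ Y).left} (hO : IsOpen O) (hO' : IsOpen O')
    (hne : ∃ x : gT k K ⟶ X, gpt (lift x v) ∈ O) (hne' : ∃ x : gT k K ⟶ X, gpt (lift x v') ∈ O') :
    ∃ x : gT k K ⟶ X, gpt (lift x v) ∈ O ∧ gpt (lift x v') ∈ O' := by
  haveI : IrreducibleSpace (gT k K).left := inferInstanceAs (IrreducibleSpace ↥(Spec (CommRingCat.of K)))
  haveI := irreducibleSpace_tensor X (gT k K)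
  haveI : LocallyOfFiniteType (snd X (gT k K)).left :=
    inferInstanceAs (LocallyOfFiniteType (pullback.snd X.hom (gT k K).hom))
  let e : X ⊗ gT k K ⟶ X ⊗ Y := X ◁ v
  let e' : X ⊗ gT k K ⟶ X ⊗ Y := X ◁ v'
  have key : ∀ (v : gT k K ⟶ Y) (x : gT k K ⟶ X), lift x (𝟙 _) ≫ (X ◁ v) = lift x v := fun v x => by simp
  obtain ⟨x, hx⟩ := hne
  obtain ⟨x', hx'⟩ := hne'
  obtain ⟨q, hq, hq'⟩ := nonempty_preirreducible_inter (hO.preimage e.left.continuous)
    (hO'.preimage e'.left.continuous)
    ⟨gpt (lift x (𝟙 _)), show gpt (lift x (𝟙 _) ≫ e) ∈ O by rw [key]; exact hx⟩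
    ⟨gpt (lift x' (𝟙 _)), show gpt (lift x' (𝟙 _) ≫ e') ∈ O' by rw [key]; exact hx'⟩
  have hopen := (hO.preimage e.left.continuous).inter (hO'.preimage e'.left.continuous)
  haveI : Subsingleton (gT k K).left := inferInstanceAs (Subsingleton (Spec (CommRingCat.of K)))
  obtain ⟨w, hw, hwO, hwO'⟩ : ∃ w : gT k K ⟶ X ⊗ gT k K, w ≫ snd _ _ = 𝟙 _ ∧ gpt w ∈ e.left ⁻¹' O ∧
      gpt w ∈ e'.left ⁻¹' O' := by
    haveI : LocallyOfFiniteType (snd X (gT k K)).left := ‹_›
    let pr : (X ⊗ gT k K).left ⟶ Spec (CommRingCat.of K) := (snd X (gT k K)).left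
    haveI : LocallyOfFiniteType pr := ‹_›
    haveI : JacobsonSpace (X ⊗ gT k K).left := LocallyOfFiniteType.jacobsonSpace pr
    obtain ⟨c, hc, hcc⟩ := nonempty_inter_closedPoints (Z := e.left ⁻¹' O ∩ e'.left ⁻¹' O') ⟨q, hq, hq'⟩ hopen.isLocallyClosed
    let s := (pointEquivClosedPoint pr).symm ⟨c, hcc⟩
    have hs : s.1 (IsLocalRing.closedPoint K) = c :=
      congrArg Subtype.val ((pointEquivClosedPoint pr).apply_symm_apply ⟨c, hcc⟩)
    have h1 : s.1 ≫ (snd X (gT k K)).left = 𝟙 _ := s.2
    refine ⟨Over.homMk s.1 ?_, Over.OverMorphism.ext h1, ?_, ?_⟩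
    · rw [← Over.w (snd X (gT k K)), reassoc_of% h1]
    · show e.left (s.1 (IsLocalRing.closedPoint K)) ∈ O
      rw [hs]
      exact hc.1
    · show e'.left (s.1 (IsLocalRing.closedPoint K)) ∈ O'
      rw [hs]
      exact hc.2
  have hw' : lift (w ≫ fst _ _) (𝟙 _) = w := by rw [← hw, lift_comp_fst_snd]
  refine ⟨w ≫ fst _ _, ?_, ?_⟩
  · rw [← key v, hw']
    exact hwO
  · rw [← key v', hw']
    exact hwO'

section Action

variable {G X : Over (Spec (CommRingCat.of k))} [GrpObj G] (a : AlgGrp.Action G X)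

/-- The graph morphism of an action. -/
noncomputable abbrev graph : G ⊗ X ⟶ X ⊗ X := lift (snd G X) a.act

theorem comp_graph {T : Over (Spec (CommRingCat.of k))} (g : T ⟶ G) (x : T ⟶ X) :
    lift g x ≫ graph a = lift x (lift g x ≫ a.act) := by rw [comp_lift, lift_snd]

variable (K) in
/-- Transitivity on the `K`-points of a subset. -/
def TransOn (U : Set X.left) : Prop :=
  ∀ x y : gT k K ⟶ X, gpt x ∈ U → gpt y ∈ U → ∃ g : gT k K ⟶ G, lift g x ≫ a.act = y

omit [IsAlgClosed K] in
theorem TransOn.mono {U V : Set X.left} (h : TransOn K a U) (hVU : V ⊆ U) : TransOn K a V :=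
  fun x y hx hy => h x y (hVU hx) (hVU hy)

variable [LocallyOfFiniteType G.hom] [LocallyOfFiniteType X.hom]

/-- A pair of `K`-points in the range of the graph is related by the action. -/
theorem exists_act_of_mem_range (x y : gT k K ⟶ X) (h : gpt (lift x y) ∈ Set.range (graph a).left) :
    ∃ g : gT k K ⟶ G, lift g x ≫ a.act = y := by
  haveI := lft_tensor G X
  obtain ⟨q, hq⟩ := h
  obtain ⟨w, hw, -⟩ := exists_lift_gpt (graph a) (lift x y) isOpen_univ.isLocallyClosed q (Set.mem_univ q) hq
  rw [comp_lift] at hw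
  have h1 : w ≫ snd G X = x := by simpa using congr($hw ≫ fst X X)
  have h2 : w ≫ a.act = y := by simpa using congr($hw ≫ snd X X)
  exact ⟨w ≫ fst _ _, by rw [← h1, lift_comp_fst_snd, h2]⟩

theorem transOn_of_surjective (h : Surjective (graph a).left) : TransOn K a Set.univ :=
  fun x y _ _ => exists_act_of_mem_range a x y (h.surj _)

variable [QuasiCompact G.hom] [QuasiCompact X.hom]

/-- If the action is transitive on the `K`-points of an open subset `U`, the graph covers `U × U`. -/
theorem subset_range_graph {U : Set X.left} (hU : IsOpen U) (h : TransOn K a U) :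
    (fst X X).left ⁻¹' U ∩ (snd X X).left ⁻¹' U ⊆ Set.range (graph a).left := by
  haveI := lft_tensor X X
  haveI := lft_tensor G X
  haveI := qc_tensor X X
  haveI := qc_tensor G X
  haveI := noetherianSpace_left (X := X ⊗ X)
  rw [← Set.sdiff_eq_empty]
  refine eq_empty_of_gpt (K := K) ((Groth.L06.Constr.isConstructible_of_isOpen
    ((hU.preimage (fst X X).left.continuous).inter (hU.preimage (snd X X).left.continuous))).sdiff
      (isConstructible_range (graph a))) ?_
  rintro w ⟨⟨h1, h2⟩, hw⟩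
  obtain ⟨g, hg⟩ := h (w ≫ fst _ _) (w ≫ snd _ _) h1 h2
  refine hw ⟨gpt (lift g (w ≫ fst _ _)), ?_⟩
  rw [← gpt_comp, comp_graph, hg, lift_comp_fst_snd]

/-- If the graph is dominant, the action is transitive on the `K`-points of a nonempty open subset. -/
theorem exists_transOn_of_isDominant [GeometricallyIrreducible X.hom] (h : IsDominant (graph a).left) :
    ∃ V : X.left.Opens, (V : Set X.left).Nonempty ∧ TransOn K a V := by
  haveI := lft_tensor X X
  haveI := lft_tensor G X
  haveI := qc_tensor X X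
  haveI := qc_tensor G X
  haveI := universallyOpen_snd X X
  haveI := h
  haveI : IrreducibleSpace X.left := GeometricallyIrreducible.irreducibleSpace X.hom X.hom.isOpenMap
  haveI := irreducibleSpace_tensor X X
  obtain ⟨W, hW, hWd, hWs⟩ := exists_open_dense_of_constructible (isConstructible_range (graph a))
  rw [h.1.closure_range, Set.inter_univ] at hWs hWd
  have hWne : W.Nonempty := by
    by_contra hne
    rw [Set.not_nonempty_iff_eq_empty.1 hne, closure_empty] at hWd
    exact Set.univ_nonempty.ne_empty (Set.subset_empty_iff.1 hWd)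
  refine ⟨⟨(snd X X).left '' W, (snd X X).left.isOpenMap _ hW⟩, hWne.image _, fun v v' hv hv' => ?_⟩
  have hsl : ∀ v : gT k K ⟶ X, gpt v ∈ (snd X X).left '' W → ∃ x : gT k K ⟶ X, gpt (lift x v) ∈ W := by
    rintro v ⟨q, hq, hqv⟩
    obtain ⟨w, rfl, hw⟩ := exists_lift_gpt (snd X X) v hW.isLocallyClosed q hq hqv
    exact ⟨w ≫ fst _ _, by rw [lift_comp_fst_snd]; exact hw⟩
  obtain ⟨x, hx, hx'⟩ := exists_common_slice v v' hW hW (hsl v hv) (hsl v' hv')
  have hlift : ∀ v : gT k K ⟶ X, gpt (lift x v) ∈ W → ∃ g : gT k K ⟶ G, lift g x ≫ a.act = v :=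
    fun v hv => exists_act_of_mem_range a x v (hWs hv)
  obtain ⟨g, hg⟩ := hlift v hx
  obtain ⟨g', hg'⟩ := hlift v' hx'
  refine ⟨g' * g⁻¹, ?_⟩
  rw [Groth.L25.Actions.mul_act, ← hg, Groth.L25.Actions.inv_act, hg']

end Action

end Groth.L19.AlgGrpBasic
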