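import Groth.Agent.L13.GeomRedSub.Main
import Mathlib.AlgebraicGeometry.AffineScheme

/-!
# Reduced schemes with dense rational points are geometrically reduced
-/

set_option autoImplicit false
set_option linter.style.haveILetI false
set_option backward.isDefEq.respectTransparency.types false

universe u

open CategoryTheory CategoryTheory.Limits AlgebraicGeometry TopologicalSpace TensorProduct

namespace Groth.L19.AlgGrpBasic

variable {k : Type u} [Field k]

/-- A reduced scheme with dense rational points is geometrically reduced. -/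
theorem geometricallyReduced_of_dense_points {Z : Scheme.{u}} (g : Z ⟶ Spec (CommRingCat.of k)) [IsReduced Z]
    {ι : Type u} (s : ι → (Spec (CommRingCat.of k) ⟶ Z)) (hs : ∀ i, s i ≫ g = 𝟙 _)
    (hd : Dense (Set.range fun i => s i (IsLocalRing.closedPoint k))) : GeometricallyReduced g := by
  refine Groth.L13.GeomRedSub.geometricallyReduced_of_good g fun U hU => ?_
  letI : Algebra k Γ(Z, U) := (Groth.L13.GeomRedSub.sectMap g hU).hom.toAlgebra
  let J := {i : ι // s i (IsLocalRing.closedPoint k) ∈ U}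
  have hr : ∀ j : J, Set.range (s j.1) ⊆ Set.range hU.fromSpec := by
    rintro j _ ⟨q, rfl⟩
    rw [hU.range_fromSpec, show q = IsLocalRing.closedPoint k from Subsingleton.elim (α := PrimeSpectrum k) _ _]
    exact j.2
  let ψ : J → (Γ(Z, U) ⟶ CommRingCat.of k) := fun j => Spec.preimage (IsOpenImmersion.lift hU.fromSpec (s j.1) (hr j))
  have hψ : ∀ j : J, Spec.map (ψ j) ≫ hU.fromSpec = s j.1 := fun j => by
    simp only [ψ, Spec.map_preimage, IsOpenImmersion.lift_fac]
  have hψc : ∀ j : J, Groth.L13.GeomRedSub.sectMap g hU ≫ ψ j = 𝟙 _ := fun j => by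
    apply Spec.map_injective
    rw [Spec.map_comp, Spec.map_id]
    simp only [Groth.L13.GeomRedSub.sectMap, Spec.map_preimage]
    rw [← Category.assoc, hψ, hs]
  let ρ : J → (Γ(Z, U) →ₐ[k] k) := fun j =>
    { (ψ j).hom with commutes' := fun c => DFunLike.congr_fun (congrArg CommRingCat.Hom.hom (hψc j)) c }
  have hk : Groth.L13.GeomRedSub.Good k k := fun K _ _ =>
    isReduced_of_injective (Algebra.TensorProduct.lid k K).toRingHom (Algebra.TensorProduct.lid k K).injective
  refine Groth.L13.GeomRedSub.good_of_separating (fun _ : J => k) (fun _ => hk) ρ fun a ha => ?_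
  haveI : _root_.IsReduced Γ(Z, U) := IsReduced.component_reduced U
  refine (?_ : IsNilpotent a).eq_zero
  rw [← mem_nilradical, nilradical_eq_sInf, Submodule.mem_sInf]
  intro (p : Ideal Γ(Z, U)) (hp : p.IsPrime)
  have hd' : Dense (hU.fromSpec ⁻¹' Set.range fun i => s i (IsLocalRing.closedPoint k)) :=
    hd.preimage hU.fromSpec.isOpenEmbedding.isOpenMap
  have hsub : hU.fromSpec ⁻¹' (Set.range fun i => s i (IsLocalRing.closedPoint k)) ⊆
      PrimeSpectrum.zeroLocus {a} := by
    rintro P ⟨i, hi⟩
    have hmem : s i (IsLocalRing.closedPoint k) ∈ U := by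
      rw [show s i (IsLocalRing.closedPoint k) = hU.fromSpec P from hi, ← SetLike.mem_coe, ← hU.range_fromSpec]
      exact ⟨P, rfl⟩
    have hP : P = Spec.map (ψ ⟨i, hmem⟩) (IsLocalRing.closedPoint k) := hU.fromSpec.isOpenEmbedding.injective (by
      rw [← Scheme.Hom.comp_apply, hψ]
      exact hi.symm)
    refine (PrimeSpectrum.mem_zeroLocus (R := Γ(Z, U)) P {a}).2 ?_
    rw [Set.singleton_subset_iff, hP]
    show (ψ ⟨i, hmem⟩).hom a ∈ (IsLocalRing.closedPoint k).asIdeal
    rw [show (ψ ⟨i, hmem⟩).hom a = 0 from ha ⟨i, hmem⟩]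
    exact Ideal.zero_mem _
  have := closure_minimal hsub (PrimeSpectrum.isClosed_zeroLocus {a}) (hd' (⟨p, hp⟩ : PrimeSpectrum Γ(Z, U)))
  have h' := (PrimeSpectrum.mem_zeroLocus (R := Γ(Z, U)) ⟨p, hp⟩ {a}).1 this
  exact Set.singleton_subset_iff.1 h'

end Groth.L19.AlgGrpBasic
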