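import Groth.Prelude.Def_AlgGrp
import Mathlib.AlgebraicGeometry.Sites.Fpqc
import Mathlib.AlgebraicGeometry.Morphisms.Flat
import Mathlib.AlgebraicGeometry.Morphisms.UnderlyingMap

/-!
# Points of group schemes after a flat cover
-/

set_option autoImplicit false
set_option linter.style.haveILetI false
set_option backward.isDefEq.respectTransparency.types false

universe u

open CategoryTheory CategoryTheory.Limits MonoidalCategory CartesianMonoidalCategory MonObj AlgebraicGeometry

namespace Groth.L19.AlgGrpBasic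

variable {S : Scheme.{u}}

theorem qc_left {X Y : Over S} (f : X ⟶ Y) [QuasiCompact X.hom] [QuasiSeparated Y.hom] : QuasiCompact f.left :=
  haveI : QuasiCompact (f.left ≫ Y.hom) := (Over.w f).symm ▸ ‹QuasiCompact X.hom›
  QuasiCompact.of_comp f.left Y.hom

theorem quasiSeparated_of_lft {k : Type u} [Field k] (Y : Over (Spec (CommRingCat.of k)))
    [LocallyOfFiniteType Y.hom] : QuasiSeparated Y.hom := by
  haveI : IsLocallyNoetherian Y.left := LocallyOfFiniteType.isLocallyNoetherian Y.hom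
  exact (HasAffineProperty.iff_of_isAffine (P := @QuasiSeparated)).2 inferInstance

theorem qc_left_field {k : Type u} [Field k] {X Y : Over (Spec (CommRingCat.of k))} (f : X ⟶ Y)
    [QuasiCompact X.hom] [LocallyOfFiniteType Y.hom] : QuasiCompact f.left :=
  haveI := quasiSeparated_of_lft Y
  qc_left f

theorem isPullback_left (X Y : Over S) : IsPullback (fst X Y).left (snd X Y).left X.hom Y.hom := by
  simp only [Over.fst_left, Over.snd_left]
  exact .of_hasPullback _ _

theorem isPullback_whiskerRight {X X' : Over S} (f : X ⟶ X') (Y : Over S) :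
    IsPullback (f ▷ Y).left (fst X Y).left (fst X' Y).left f.left := by
  refine IsPullback.of_right ?_ ?_ (isPullback_left X' Y).flip
  · rw [← Over.comp_left, whiskerRight_snd, Over.w f]
    exact (isPullback_left X Y).flip
  · rw [← Over.comp_left, whiskerRight_fst, Over.comp_left]

theorem isPullback_whiskerLeft (Y : Over S) {X X' : Over S} (f : X ⟶ X') :
    IsPullback (Y ◁ f).left (snd Y X).left (snd Y X').left f.left := by
  refine IsPullback.of_right ?_ ?_ (isPullback_left Y X')
  · rw [← Over.comp_left, whiskerLeft_fst, Over.w f]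
    exact isPullback_left Y X
  · rw [← Over.comp_left, whiskerLeft_snd, Over.comp_left]

section Cover

variable {T T' : Over S} (p : T' ⟶ T) [Flat p.left] [Surjective p.left] [QuasiCompact p.left]

theorem epi_cover : Epi p :=
  haveI : Epi p.left := inferInstance
  Over.epi_of_epi_left p

/-- Morphisms descend along flat covers. -/
theorem existsUnique_desc {Z : Over S} (f : T' ⟶ Z)
    (h : ∀ (W : Over S) (a b : W ⟶ T'), a ≫ p = b ≫ p → a ≫ f = b ≫ f) : ∃! g : T ⟶ Z, p ≫ g = f := by
  have hc : ∀ {W : Scheme.{u}} (a b : W ⟶ T'.left), a ≫ p.left = b ≫ p.left → a ≫ f.left = b ≫ f.left := by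
    intro W a b e
    have hw : b ≫ T'.hom = a ≫ T'.hom := by rw [← Over.w p, ← Category.assoc, ← e, Category.assoc]
    exact congrArg (fun m => m.left) (h (Over.mk (a ≫ T'.hom)) (Over.homMk a) (Over.homMk b hw)
      (Over.OverMorphism.ext e))
  haveI := epi_cover p
  haveI : Epi p.left := inferInstance
  obtain ⟨d, hd⟩ : ∃ d : T.left ⟶ Z.left, p.left ≫ d = f.left := ⟨_, EffectiveEpi.fac p.left f.left hc⟩
  have hw : d ≫ Z.hom = T.hom := by rw [← cancel_epi p.left, reassoc_of% hd, Over.w f, Over.w p]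
  refine ⟨Over.homMk d hw, Over.OverMorphism.ext hd, fun g hg => ?_⟩
  rw [← cancel_epi p, hg]
  exact (Over.OverMorphism.ext hd).symm

/-- A point factors through a monomorphism if it does so after a flat cover. -/
theorem exists_lift_of_cover {H G : Over S} (i : H ⟶ G) [Mono i] (g : T ⟶ G) (h : T' ⟶ H) (e : h ≫ i = p ≫ g) :
    ∃ h₀ : T ⟶ H, h₀ ≫ i = g := by
  obtain ⟨h₀, hh₀, -⟩ := existsUnique_desc p h fun W a b hab => by
    rw [← cancel_mono i, Category.assoc, Category.assoc, e, reassoc_of% hab]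
  haveI := epi_cover p
  exact ⟨h₀, by rw [← cancel_epi p, reassoc_of% hh₀, e]⟩

end Cover

/-- Points lift along flat surjective quasi-compact morphisms after a flat cover. -/
theorem exists_cover_lift {G Q T : Over S} (π : G ⟶ Q) [Flat π.left] [Surjective π.left] [QuasiCompact π.left]
    (q : T ⟶ Q) :
    ∃ (T' : Over S) (c : T' ⟶ T) (g : T' ⟶ G), Flat c.left ∧ Surjective c.left ∧ QuasiCompact c.left ∧
      g ≫ π = c ≫ q := by
  refine ⟨Over.mk (pullback.fst q.left π.left ≫ T.hom), Over.homMk (pullback.fst q.left π.left),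
    Over.homMk (pullback.snd q.left π.left) ?_, MorphismProperty.pullback_fst _ _ ‹Flat π.left›,
    MorphismProperty.pullback_fst _ _ ‹Surjective π.left›, MorphismProperty.pullback_fst _ _ ‹QuasiCompact π.left›,
    Over.OverMorphism.ext pullback.condition.symm⟩
  show pullback.snd q.left π.left ≫ G.hom = pullback.fst q.left π.left ≫ T.hom
  rw [← Over.w π, ← Over.w q, pullback.condition_assoc]

section Group

variable {C : Type*} [Category C] [CartesianMonoidalCategory C]

theorem comp_eq_one {X Y Q : C} [GrpObj Q] (f : X ⟶ 𝟙_ C) (g : Y ⟶ X) : g ≫ f ≫ η[Q] = 1 := by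
  rw [MonObj.one_eq_one, MonObj.comp_one, MonObj.comp_one]

theorem hom_mul_comp {X M N : C} [MonObj M] [MonObj N] (a b : X ⟶ M) (f : M ⟶ N) [IsMonHom f] :
    (a * b) ≫ f = (a ≫ f) * (b ≫ f) := by
  rw [Hom.mul_def, Hom.mul_def, Category.assoc, IsMonHom.mul_hom f, ← Category.assoc, lift_map]

theorem hom_one_comp {X M N : C} [MonObj M] [MonObj N] (f : M ⟶ N) [IsMonHom f] :
    (1 : X ⟶ M) ≫ f = 1 := by
  rw [Hom.one_def, Hom.one_def, Category.assoc, IsMonHom.one_hom f]

theorem hom_inv_comp {X M N : C} [GrpObj M] [GrpObj N] (a : X ⟶ M) (f : M ⟶ N) [IsMonHom f] :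
    a⁻¹ ≫ f = (a ≫ f)⁻¹ := by
  apply eq_inv_of_mul_eq_one_left
  rw [← hom_mul_comp, inv_mul_cancel, hom_one_comp]

theorem mono_of_trivial {G H : C} [GrpObj G] [GrpObj H] (f : G ⟶ H) [IsMonHom f]
    (h : ∀ (T : C) (g : T ⟶ G), g ≫ f = 1 → g = 1) : Mono f :=
  ⟨fun a b e => eq_of_mul_inv_eq_one (h _ _ (by rw [hom_mul_comp, hom_inv_comp, e, mul_inv_cancel]))⟩

end Group

/-- A point killed by a homomorphism factors through its kernel. -/
theorem exists_of_isKernel {N G Q T : Over S} [GrpObj Q] {i : N ⟶ G} {q : G ⟶ Q}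
    (h : AlgGrp.IsKernel i q) (g : T ⟶ G) (hg : g ≫ q = 1) : ∃ n : T ⟶ N, n ≫ i = g :=
  ⟨h.lift g (toUnit T) (by rw [hg, Hom.one_def]), h.lift_fst _ _ _⟩

theorem comp_of_isKernel {N G Q : Over S} [GrpObj Q] {i : N ⟶ G} {q : G ⟶ Q}
    (h : AlgGrp.IsKernel i q) : i ≫ q = 1 := by
  rw [h.w, Hom.one_def]

theorem isKernel_of_points {N G Q : Over S} [GrpObj Q] (i : N ⟶ G) [Mono i] (q : G ⟶ Q) (hi : i ≫ q = 1)
    (h : ∀ (T : Over S) (t : T ⟶ G), t ≫ q = 1 → ∃ g : T ⟶ N, g ≫ i = t) : AlgGrp.IsKernel i q := by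
  have hone : ∀ (X : Over S) (a : X ⟶ 𝟙_ (Over S)), a ≫ η[Q] = 1 := fun X a => by
    rw [MonObj.one_eq_one, MonObj.comp_one]
  exact ⟨⟨by rw [hi, hone]⟩, ⟨PullbackCone.IsLimit.mk _
    (fun s => (h _ s.fst (s.condition.trans (hone _ _))).choose)
    (fun s => (h _ s.fst (s.condition.trans (hone _ _))).choose_spec)
    (fun s => toUnit_unique _ _)
    (fun s m hm _ => (cancel_mono i).1
      (hm.trans (h _ s.fst (s.condition.trans (hone _ _))).choose_spec.symm))⟩⟩

end Groth.L19.AlgGrpBasic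

namespace Groth.L19.AlgGrpBasic

variable {S : Scheme.{u}} {G X T : Over S} [GrpObj G]

theorem act_one (a : AlgGrp.Action G X) (x : T ⟶ X) : lift (1 : T ⟶ G) x ≫ a.act = x := by
  have h : lift (1 : T ⟶ G) x = lift (toUnit T) x ≫ (η[G] ▷ X) := by
    rw [lift_whiskerRight, Hom.one_def]
  rw [h, Category.assoc, a.one_act]
  simp

theorem act_mul (a : AlgGrp.Action G X) (g h : T ⟶ G) (x : T ⟶ X) :
    lift (g * h) x ≫ a.act = lift g (lift h x ≫ a.act) ≫ a.act := by
  have e : lift (g * h) x = lift (lift g h) x ≫ (μ[G] ▷ X) := by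
    rw [lift_whiskerRight, Hom.mul_def]
  rw [e, Category.assoc, a.mul_act, lift_lift_associator_hom_assoc, lift_whiskerLeft_assoc]

end Groth.L19.AlgGrpBasic
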