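import Groth.Agent.L19.AlgGrpBasic.GeomRedClosure
import Groth.Agent.L19.AlgGrpBasic.GeomPoint
import Groth.Agent.L19.AlgGrpBasic.Points
import Groth.Agent.L19.AlgGrpBasic.Descent
import Groth.Agent.L08.SubgroupObj

/-!
# The closure of the words in the image of a geometrically reduced scheme
-/

set_option autoImplicit false
set_option linter.style.haveILetI false
set_option backward.isDefEq.respectTransparency.types false

universe u

open CategoryTheory CategoryTheory.Limits MonoidalCategory CartesianMonoidalCategory MonObj GrpObj AlgebraicGeometry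

namespace Groth.L19.AlgGrpBasic

variable {k : Type u} [Field k] {G X : Over (Spec (CommRingCat.of k))} [GrpObj G]

/-- Powers of a scheme over the base. -/
noncomputable def pw (X : Over (Spec (CommRingCat.of k))) : ℕ → Over (Spec (CommRingCat.of k))
  | 0 => 𝟙_ _
  | n + 1 => X ⊗ pw X n

/-- The projections of a power. -/
noncomputable def prs (X : Over (Spec (CommRingCat.of k))) : (n : ℕ) → List (pw X n ⟶ X)
  | 0 => []
  | n + 1 => fst X (pw X n) :: (prs X n).map (fun p => snd X (pw X n) ≫ p)

variable (φ : X ⟶ G)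

/-- The product of the images of a list of points. -/
noncomputable def word {T : Over (Spec (CommRingCat.of k))} (l : List (T ⟶ X)) : T ⟶ G :=
  (l.map (fun x => x ≫ φ)).prod

theorem comp_word {T T' : Over (Spec (CommRingCat.of k))} (v : T' ⟶ T) (l : List (T ⟶ X)) :
    v ≫ word φ l = word φ (l.map (fun x => v ≫ x)) := by
  induction l with
  | nil => simp only [word, List.map_nil, List.prod_nil, MonObj.comp_one]
  | cons x l ih =>
    simp only [word, List.map_cons, List.prod_cons, MonObj.comp_mul, Category.assoc] at ih ⊢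
    rw [ih]

theorem exists_eq_map_prs {T : Over (Spec (CommRingCat.of k))} (l : List (T ⟶ X)) :
    ∃ v : T ⟶ pw X l.length, (prs X l.length).map (fun p => v ≫ p) = l := by
  induction l with
  | nil => exact ⟨toUnit T, rfl⟩
  | cons x l ih =>
    obtain ⟨v, hv⟩ := ih
    refine ⟨lift x v, ?_⟩
    show (lift x v ≫ fst X (pw X l.length)) ::
      ((prs X l.length).map fun p => snd X (pw X l.length) ≫ p).map (fun p => lift x v ≫ p) = _
    rw [lift_fst, List.map_map]
    congr 1
    conv_rhs => rw [← hv]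
    exact List.map_congr_left fun p _ => lift_snd_assoc _ _ _

theorem pw_lft [LocallyOfFiniteType X.hom] : ∀ n, LocallyOfFiniteType (pw X n).hom
  | 0 => inferInstanceAs (LocallyOfFiniteType (𝟙 _))
  | n + 1 => haveI := pw_lft n; lft_tensor X (pw X n)

theorem pw_geomRed [LocallyOfFiniteType X.hom] [GeometricallyReduced X.hom] :
    ∀ n, GeometricallyReduced (pw X n).hom
  | 0 => geometricallyReduced_unit
  | n + 1 => haveI := pw_geomRed n; geometricallyReduced_tensor X (pw X n)

/-- The points of `G` hit by words. -/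
def wordSet : Set G.left :=
  {p | ∃ (T : Over (Spec (CommRingCat.of k))) (l : List (T ⟶ X)) (t : T.left), (word φ l).left t = p}

theorem range_word_subset {T : Over (Spec (CommRingCat.of k))} (l : List (T ⟶ X)) :
    Set.range (word φ l).left ⊆ wordSet φ := by
  rintro _ ⟨t, rfl⟩
  exact ⟨T, l, t, rfl⟩

theorem exists_prs_of_mem {p : G.left} (hp : p ∈ wordSet φ) :
    ∃ n, p ∈ Set.range (word φ (prs X n)).left := by
  obtain ⟨T, l, t, rfl⟩ := hp
  obtain ⟨v, hv⟩ := exists_eq_map_prs l
  refine ⟨l.length, v.left t, ?_⟩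
  rw [← Scheme.Hom.comp_apply, ← Over.comp_left, comp_word, hv]

/-- The closure of the words is a geometrically reduced closed subgroup, when the image is stable under inversion. -/
theorem exists_wordSubgroup [LocallyOfFiniteType G.hom] [LocallyOfFiniteType X.hom] [GeometricallyReduced X.hom]
    (hinv : Set.range (φ ≫ ι[G]).left.base ⊆ Set.range φ.left.base) :
    ∃ (E : Over (Spec (CommRingCat.of k))) (_ : GrpObj E) (j : E ⟶ G), IsMonHom j ∧ IsClosedImmersion j.left ∧
      IsReduced E.left ∧ Set.range j.left = closure (wordSet φ) ∧ ∃ φ' : X ⟶ E, φ' ≫ j = φ := by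
  let K := AlgebraicClosure k
  obtain ⟨Z, z, hz, hZr, hZg, hZrange⟩ := exists_geometricallyReduced_closure G.hom
    (Groth.L13.GeomRedSub.sepPts G.hom ∩ wordSet φ) Set.inter_subset_left
  let E : Over (Spec (CommRingCat.of k)) := Over.mk (z ≫ G.hom)
  let j : E ⟶ G := Over.homMk z rfl
  haveI : GeometricallyReduced E.hom := hZg
  haveI : IsReduced E.left := hZr
  haveI : IsClosedImmersion j.left := hz
  haveI : LocallyOfFiniteType E.hom := inferInstanceAs (LocallyOfFiniteType (z ≫ G.hom))
  haveI : Mono j := mono_of_closed j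
  haveI := lft_tensor E E
  haveI := geometricallyReduced_tensor E E
  haveI := isReduced_left (E ⊗ E)
  have hrange : Set.range j.left = closure (wordSet φ) := by
    refine Set.Subset.antisymm (hZrange.subset.trans (closure_mono Set.inter_subset_right))
      (closure_minimal ?_ j.left.isClosedEmbedding.isClosed_range)
    intro p hp
    obtain ⟨n, hn⟩ := exists_prs_of_mem φ hp
    haveI := pw_lft (X := X) n
    haveI := pw_geomRed (X := X) n
    haveI := isReduced_left (pw X n)
    refine hZrange.symm.subset ?_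
    refine closure_mono (Set.inter_subset_inter_right _ (range_word_subset φ (prs X n))) ?_
    exact range_subset_closure_sepPts G.hom (pw X n).hom _ (Over.w (word φ (prs X n))) hn
  have hsubW : wordSet φ ⊆ Set.range j.left := subset_closure.trans hrange.symm.subset
  have hψ : ∀ n, ∃ ψ : pw X n ⟶ E, ψ ≫ j = word φ (prs X n) := fun n => by
    haveI := pw_lft (X := X) n
    haveI := pw_geomRed (X := X) n
    haveI := isReduced_left (pw X n)
    exact exists_lift_of_range j _ ((range_word_subset φ _).trans hsubW)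
  choose ψ hψ using hψ
  have hmeet : ∀ O : Set E.left, IsOpen O → O.Nonempty → ∃ n, ((ψ n).left ⁻¹' O).Nonempty := by
    intro O hO ⟨x, hx⟩
    obtain ⟨U, hU, rfl⟩ := j.left.isEmbedding.isInducing.isOpen_iff.1 hO
    obtain ⟨p, hpU, hp⟩ := mem_closure_iff.1 (hrange.subset ⟨x, rfl⟩) U hU hx
    obtain ⟨n, q, rfl⟩ := exists_prs_of_mem φ hp
    refine ⟨n, q, ?_⟩
    show j.left ((ψ n).left q) ∈ U
    rw [← Scheme.Hom.comp_apply, ← Over.comp_left, hψ]
    exact hpU
  obtain ⟨e, he⟩ : ∃ e : 𝟙_ _ ⟶ E, e ≫ j = η[G] := by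
    refine ⟨ψ 0, (hψ 0).trans ?_⟩
    show word φ ([] : List (𝟙_ _ ⟶ X)) = η[G]
    rw [word, List.map_nil, List.prod_nil, Hom.one_def, toUnit_unique (toUnit _) (𝟙 _), Category.id_comp]
  have hmul : Set.range ((fst E E ≫ j) * (snd E E ≫ j)).left ⊆ Set.range j.left := by
    let m := (fst E E ≫ j) * (snd E E ≫ j)
    by_contra hne
    obtain ⟨_, ⟨q, rfl⟩, hq⟩ := Set.not_subset.1 hne
    let O : Set (E ⊗ E).left := m.left ⁻¹' (Set.range j.left)ᶜ
    have hO : IsOpen O := j.left.isClosedEmbedding.isClosed_range.isOpen_compl.preimage m.left.continuous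
    haveI := universallyOpen_snd E E
    obtain ⟨b, y, q1, hq1, hq1y⟩ := hmeet _ ((snd E E).left.isOpenMap _ hO) ⟨_, q, hq, rfl⟩
    obtain ⟨r1, hr1, hr1'⟩ := Scheme.exists_preimage_of_isPullback
      (Groth.L25.Actions.isPullback_whiskerLeft_left E (ψ b)) q1 y hq1y
    haveI := pw_lft (X := X) b
    have hfo : IsOpenMap (fst E (pw X b)).left := by
      haveI : UniversallyOpen (fst E (pw X b)).left :=
        inferInstanceAs (UniversallyOpen (pullback.fst E.hom (pw X b).hom))
      exact Scheme.Hom.isOpenMap _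
    have hO1 := hO.preimage (E ◁ ψ b).left.continuous
    obtain ⟨a, x, q2, hq2, hq2x⟩ := hmeet _ (hfo _ hO1)
      ⟨_, r1, (by show (E ◁ ψ b).left r1 ∈ O; rw [hr1]; exact hq1), rfl⟩
    obtain ⟨r2, hr2, hr2'⟩ := Scheme.exists_preimage_of_isPullback
      (Groth.L25.Actions.isPullback_whiskerRight_left (ψ a) (pw X b)) q2 x hq2x
    have hmem : ((ψ a ▷ pw X b) ≫ (E ◁ ψ b) ≫ m).left r2 ∈ (Set.range j.left)ᶜ := by
      show m.left ((E ◁ ψ b).left ((ψ a ▷ pw X b).left r2)) ∈ _
      rw [hr2]
      exact hq2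
    have hword : (ψ a ▷ pw X b) ≫ (E ◁ ψ b) ≫ m = word φ ((prs X a).map (fun p => fst _ (pw X b) ≫ p) ++
        (prs X b).map (fun p => snd (pw X a) _ ≫ p)) := by
      have e1 : word φ ((prs X a).map (fun p => fst _ (pw X b) ≫ p) ++
          (prs X b).map (fun p => snd (pw X a) _ ≫ p)) =
          word φ ((prs X a).map (fun p => fst _ (pw X b) ≫ p)) * word φ ((prs X b).map (fun p => snd (pw X a) _ ≫ p)) := by
        simp only [word, List.map_append, List.prod_append]
      rw [e1, ← comp_word, ← comp_word, ← hψ, ← hψ]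
      simp only [m, MonObj.comp_mul, whiskerLeft_fst_assoc, whiskerLeft_snd_assoc, whiskerRight_fst_assoc,
        whiskerRight_snd_assoc]
    exact hmem (hsubW (range_word_subset φ _ ⟨r2, congr(($hword).left r2).symm⟩))
  have hinv' : Set.range j⁻¹.left ⊆ Set.range j.left := by
    by_contra hne
    obtain ⟨_, ⟨q, rfl⟩, hq⟩ := Set.not_subset.1 hne
    let O : Set E.left := j⁻¹.left ⁻¹' (Set.range j.left)ᶜ
    have hO : IsOpen O := j.left.isClosedEmbedding.isClosed_range.isOpen_compl.preimage j⁻¹.left.continuous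
    obtain ⟨n, x, hx⟩ := hmeet O hO ⟨q, hq⟩
    haveI := pw_lft (X := X) n
    obtain ⟨w, hw⟩ := exists_gpt_mem (K := K) (hO.preimage (ψ n).left.continuous).isLocallyClosed ⟨x, hx⟩
    have key : ∀ l : List (gT k K ⟶ X), ∃ l' : List (gT k K ⟶ X), word φ l' = (word φ l)⁻¹ := by
      intro l
      induction l with
      | nil => exact ⟨[], by simp only [word, List.map_nil, List.prod_nil, inv_one]⟩
      | cons x l ih =>
        obtain ⟨l', hl'⟩ := ih
        obtain ⟨s, hs⟩ := hinv ⟨gpt x, rfl⟩
        obtain ⟨y, hy, -⟩ := exists_lift_gpt φ (x ≫ φ ≫ ι[G]) isOpen_univ.isLocallyClosed s (Set.mem_univ s) hs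
        refine ⟨l' ++ [y], ?_⟩
        simp only [word, List.map_append, List.prod_append, List.map_cons, List.map_nil, List.prod_cons,
          List.prod_nil, _root_.mul_one, _root_.mul_inv_rev] at hl' ⊢
        rw [hl', hy, ← Category.assoc, Hom.inv_def (x ≫ φ)]
    obtain ⟨l', hl'⟩ := key ((prs X n).map (fun p => w ≫ p))
    rw [← comp_word, ← hψ, ← GrpObj.comp_inv, ← GrpObj.comp_inv] at hl'
    refine hw (hsubW (range_word_subset φ l' ⟨IsLocalRing.closedPoint K, ?_⟩))
    rw [hl']
    rfl
  obtain ⟨inst, hj⟩ := Groth.L08.exists_grpObj_of_mono j ⟨e, he⟩ (exists_lift_of_range j _ hmul)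
    (exists_lift_of_range j _ hinv')
  haveI := isReduced_left X
  refine ⟨E, inst, j, hj, inferInstance, inferInstance, hrange, exists_lift_of_range j φ fun p hp => hsubW ?_⟩
  have e1 : word φ [𝟙 X] = φ := by
    simp only [word, List.map_cons, List.map_nil, List.prod_cons, List.prod_nil, _root_.mul_one, Category.id_comp]
  exact range_word_subset φ [𝟙 X] (e1.symm ▸ hp)

end Groth.L19.AlgGrpBasic
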