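import Groth.Agent.L19.AlgGrpBasic.Descent
import Groth.Agent.L21.Smooth.SepPoints
import Mathlib.AlgebraicGeometry.Morphisms.Smooth
import Mathlib.AlgebraicGeometry.Morphisms.LocalFlatDescent

/-!
# Lifting separable points along smooth surjective morphisms
-/

set_option autoImplicit false
set_option linter.style.haveILetI false
set_option backward.isDefEq.respectTransparency.types false

universe u

open CategoryTheory CategoryTheory.Limits MonoidalCategory CartesianMonoidalCategory MonObj AlgebraicGeometry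

namespace Groth.L19.AlgGrpBasic

variable {S : Scheme.{u}}

/-- Points with values in a separably closed field lift along smooth surjective morphisms. -/
theorem exists_lift_sepClosed {ks : Type u} [Field ks] [IsSepClosed ks] {T G Q : Over S}
    (e : T.left ≅ Spec (CommRingCat.of ks)) (q : G ⟶ Q) [Smooth q.left] [Surjective q.left] (x : T ⟶ Q) :
    ∃ g : T ⟶ G, g ≫ q = x := by
  let F := pullback q.left (e.inv ≫ x.left)
  let π : F ⟶ Spec (CommRingCat.of ks) := pullback.snd _ _
  letI : F.Over (Spec (CommRingCat.of ks)) := ⟨π⟩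
  haveI : Smooth (F ↘ Spec (CommRingCat.of ks)) := inferInstanceAs (Smooth (pullback.snd _ _))
  haveI : Surjective π := inferInstanceAs (Surjective (pullback.snd _ _))
  obtain ⟨z, -⟩ := π.surjective (IsLocalRing.closedPoint ks)
  obtain ⟨s, hs⟩ := Groth.L21.SepPoints.exists_section (k := ks) F (W := ⊤) (x := z) trivial
  have h : (e.hom ≫ s ≫ pullback.fst _ _) ≫ q.left = x.left := by
    rw [Category.assoc, Category.assoc, pullback.condition,
      reassoc_of% (show s ≫ pullback.snd q.left (e.inv ≫ x.left) = 𝟙 _ from hs), Iso.hom_inv_id_assoc]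
  exact ⟨Over.homMk (e.hom ≫ s ≫ pullback.fst _ _) (by rw [← Over.w q, ← Category.assoc, h, Over.w x]),
    Over.OverMorphism.ext h⟩

/-- Translates of the kernel exhaust the fibres of a homomorphism. -/
theorem isPullback_of_isKernel {N G Q : Over S} [GrpObj G] [GrpObj Q] (i : N ⟶ G) (q : G ⟶ Q)
    [IsMonHom q] (h : AlgGrp.IsKernel i q) : IsPullback ((G ◁ i) ≫ μ[G]) (fst G N) q q := by
  have hi : i ≫ q = 1 := comp_of_isKernel h
  refine IsPullback.mk' ?_ (fun T φ ψ h₁ h₂ => ?_) (fun T u v e => ?_)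
  · rw [Category.assoc, IsMonHom.mul_hom, ← Category.assoc]
    rw [show ((G ◁ i) ≫ (q ⊗ₘ q)) = lift (fst G N ≫ q) (snd G N ≫ i ≫ q) by
      apply CartesianMonoidalCategory.hom_ext <;> simp]
    rw [hi, MonObj.comp_one, ← Hom.mul_def, _root_.mul_one]
  · have e1 : ∀ χ : T ⟶ G ⊗ N, χ ≫ (G ◁ i) ≫ μ[G] = (χ ≫ fst _ _) * ((χ ≫ snd _ _) ≫ i) := fun χ => by
      rw [MonObj.mul_eq_mul, MonObj.comp_mul, MonObj.comp_mul, whiskerLeft_fst, whiskerLeft_snd, Category.assoc]
    apply CartesianMonoidalCategory.hom_ext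
    · exact h₂
    · apply h.hom_ext
      · rw [e1, e1, h₂] at h₁
        exact mul_left_cancel h₁
      · exact toUnit_unique _ _
  · obtain ⟨n, hn⟩ := exists_of_isKernel h (v⁻¹ * u) (by rw [hom_mul_comp, hom_inv_comp, e, inv_mul_cancel])
    refine ⟨lift v n, ?_, lift_fst _ _⟩
    rw [lift_whiskerLeft_assoc, ← Hom.mul_def, hn, mul_inv_cancel_left]

/-- A faithfully flat quotient map by a smooth subgroup is smooth. -/
theorem smooth_of_isKernel {N G Q : Over S} [GrpObj N] [GrpObj G] [GrpObj Q] (i : N ⟶ G) (q : G ⟶ Q)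
    [IsMonHom q] (h : AlgGrp.IsKernel i q) [Smooth N.hom] [Flat q.left] [Surjective q.left] [QuasiCompact q.left] :
    Smooth q.left := by
  have sq := isPullback_of_isKernel i q h
  have hfst : Smooth (fst G N).left := MorphismProperty.of_isPullback (isPullback_left G N).flip ‹Smooth N.hom›
  exact MorphismProperty.of_isPullback_of_descendsAlong (P := @Smooth) (Q := @Surjective ⊓ @Flat ⊓ @QuasiCompact)
    (sq.map (Over.forget S)).flip ⟨⟨‹_›, ‹_›⟩, ‹_›⟩ hfst

end Groth.L19.AlgGrpBasic
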