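import Groth.Agent.L13.GeomRedSub.Main
import Mathlib.AlgebraicGeometry.Morphisms.Flat
import Mathlib.CategoryTheory.Monoidal.Cartesian.Over

/-!
# Reduced closures of sets of points with separable residue fields
-/

set_option autoImplicit false
set_option linter.style.haveILetI false
set_option backward.isDefEq.respectTransparency.types false

universe u

open CategoryTheory CategoryTheory.Limits MonoidalCategory CartesianMonoidalCategory AlgebraicGeometry TopologicalSpace

namespace Groth.L19.AlgGrpBasic

open Groth.L13.GeomRedSub

variable {k : Type u} [Field k] {X : Scheme.{u}} (f : X ⟶ Spec (CommRingCat.of k))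

/-- The reduced closure of a set of points with separable residue fields is geometrically reduced. -/
theorem exists_geometricallyReduced_closure (D : Set X) (hD : D ⊆ sepPts f) :
    ∃ (Z : Scheme.{u}) (z : Z ⟶ X), IsClosedImmersion z ∧ IsReduced Z ∧ GeometricallyReduced (z ≫ f) ∧
      Set.range z = closure D := by
  let C : Closeds X := ⟨closure D, isClosed_closure⟩
  let I := Scheme.IdealSheafData.vanishingIdeal C
  let z := I.subschemeι
  haveI : IsReduced I.subscheme := Groth.L18.isReduced_vanishingIdeal_subscheme C
  have hrange : Set.range z = closure D := by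
    rw [Scheme.IdealSheafData.range_subschemeι, Scheme.IdealSheafData.coe_support_vanishingIdeal]
    rfl
  refine ⟨I.subscheme, z, inferInstance, inferInstance, ?_, hrange⟩
  refine geometricallyReduced_of_good _ fun U hU => ?_
  letI : Algebra k Γ(I.subscheme, U) := (sectMap (z ≫ f) hU).hom.toAlgebra
  let ι := {u : I.subscheme // u ∈ U ∧ z u ∈ D}
  letI : ∀ i : ι, Algebra k (I.subscheme.residueField i.1) := fun i => (kappaMap (z ≫ f) i.1).hom.toAlgebra
  refine good_of_separating (fun i : ι => I.subscheme.residueField i.1)
    (fun i => (good_residueField_of_mem f z i.1).2 (hD i.2.2))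
    (fun i => { (I.subscheme.evaluation U i.1 i.2.1).hom with
      commutes' := fun r => DFunLike.congr_fun (congrArg CommRingCat.Hom.hom (sectMap_evaluation (z ≫ f) hU i.1 i.2.1)) r })
    fun a ha => ?_
  refine (basicOpen_eq_bot_iff a).1 ?_
  rw [eq_bot_iff]
  intro u hu
  exfalso
  have h2 : z u ∈ closure D := hrange ▸ ⟨u, rfl⟩
  obtain ⟨O, hO, hOe⟩ := z.isEmbedding.isInducing.isOpen_iff.1 (I.subscheme.basicOpen a).2
  obtain ⟨p, hpO, hp⟩ := mem_closure_iff.1 h2 O hO (show u ∈ z ⁻¹' O by rw [hOe]; exact hu)
  obtain ⟨v, rfl⟩ := hrange.symm.subset (subset_closure hp)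
  have hv : v ∈ I.subscheme.basicOpen a := hOe.subset hpO
  exact (Scheme.evaluation_eq_zero_iff_notMem_basicOpen _ v (I.subscheme.basicOpen_le a hv) a).1
    (ha ⟨v, I.subscheme.basicOpen_le a hv, hp⟩) hv

variable {T : Scheme.{u}} (t : T ⟶ Spec (CommRingCat.of k)) [GeometricallyReduced t] [IsReduced T]

/-- The image of a geometrically reduced scheme lies in the closure of its separable points. -/
theorem range_subset_closure_sepPts (g : T ⟶ X) (hg : g ≫ f = t) :
    Set.range g ⊆ closure (sepPts f ∩ Set.range g) := by
  rintro _ ⟨u, rfl⟩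
  have hη := irreducibleComponent_mem_irreducibleComponents u
  let p0 := hη.1.genericPoint
  have hcl : closure {p0} = irreducibleComponent u := hη.1.closure_genericPoint isClosed_irreducibleComponent
  letI : Algebra k (T.residueField p0) := (kappaMap t p0).hom.toAlgebra
  have hgood := good_residueField_generic t p0 (hcl ▸ hη)
  have hmem : g p0 ∈ sepPts f :=
    mem_sepPts_of_map f (T.residueField p0) (g.residueFieldMap p0) (by
      rw [Scheme.Hom.SpecMap_residueFieldMap_fromSpecResidueField_assoc, hg]
      exact (Spec.map_preimage _).symm) hgood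
  have h2 : p0 ⤳ u := specializes_iff_mem_closure.2 (hcl ▸ mem_irreducibleComponent)
  exact (h2.map g.continuous).mem_closed isClosed_closure (subset_closure ⟨hmem, p0, rfl⟩)

theorem geometricallyReduced_tensor (X Y : Over (Spec (CommRingCat.of k))) [GeometricallyReduced X.hom]
    [GeometricallyReduced Y.hom] [LocallyOfFiniteType X.hom] : GeometricallyReduced (X ⊗ Y).hom := by
  show GeometricallyReduced (pullback.fst X.hom Y.hom ≫ X.hom)
  refine ⟨geometrically_iff_of_isClosedUnderIsomorphisms.mpr fun K _ y => ?_⟩
  let W := pullback X.hom y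
  haveI : IsLocallyNoetherian W := LocallyOfFiniteType.isLocallyNoetherian (pullback.snd X.hom y)
  haveI : IsReduced W := GeometricallyReduced.geometrically_isReduced (f := X.hom) y _ _ (.of_hasPullback _ _)
  haveI : IsReduced (pullback (pullback.fst X.hom Y.hom) (pullback.fst X.hom y)) := inferInstance
  exact isReduced_of_isOpenImmersion (pullbackRightPullbackFstIso X.hom y (pullback.fst X.hom Y.hom)).inv

theorem geometricallyReduced_unit : GeometricallyReduced (𝟙_ (Over (Spec (CommRingCat.of k)))).hom := by
  show GeometricallyReduced (𝟙 _)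
  refine ⟨geometrically_iff_of_isClosedUnderIsomorphisms.mpr fun K _ y => ?_⟩
  exact isReduced_of_isOpenImmersion (pullback.snd (𝟙 _) y)

theorem isReduced_left (X : Over (Spec (CommRingCat.of k))) [GeometricallyReduced X.hom] : IsReduced X.left :=
  GeometricallyReduced.isReduced_of_flat_of_isLocallyNoetherian X.hom

end Groth.L19.AlgGrpBasic
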