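import Groth.Agent.L19.AlgGrpBasic.DimStrict
import Groth.Agent.L19.AlgGrpBasic.Descent
import Groth.Agent.L19.AlgGrpBasic.Points
import Groth.Agent.L08.AbelianGrp
import Groth.Agent.L08.AffHull.AntiAffine
import Groth.Agent.L08.GrpDim
import Groth.Agent.L16.SecComp.Smooth
import Groth.Agent.L20.GeomFibre
import Groth.Agent.S7982

/-!
# Extensions and images of smooth connected normal subgroups
-/

set_option autoImplicit false
set_option linter.style.haveILetI false
set_option backward.isDefEq.respectTransparency.types false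

universe u

open CategoryTheory CategoryTheory.Limits MonoidalCategory CartesianMonoidalCategory MonObj AlgebraicGeometry

namespace Groth.L19.AlgGrpBasic

variable {k : Type u} [Field k]

theorem smooth_of_cover {A B : Over (Spec (CommRingCat.of k))} [GrpObj B] [LocallyOfFiniteType B.hom] [Smooth A.hom]
    (p : A ⟶ B) [Surjective p.left] [Flat p.left] : Smooth B.hom := by
  haveI : GeometricallyReduced B.hom := by
    refine ⟨geometrically_iff_of_isClosedUnderIsomorphisms.mpr fun K _ y => ?_⟩
    let B' := pullback B.hom y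
    let π : pullback p.left (pullback.fst B.hom y) ⟶ B' := pullback.snd _ _
    haveI : Surjective π := MorphismProperty.pullback_snd _ _ ‹Surjective p.left›
    haveI : Flat π := MorphismProperty.pullback_snd _ _ ‹Flat p.left›
    haveI : IsReduced (pullback p.left (pullback.fst B.hom y)) := by
      haveI : Smooth (pullback.snd (p.left ≫ B.hom) y) := by rw [Over.w]; infer_instance
      haveI := Groth.L16.SecComp.isReduced_of_smooth (pullback.snd (p.left ≫ B.hom) y)
      exact isReduced_of_isOpenImmersion (pullbackRightPullbackFstIso B.hom y p.left).hom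
    exact Groth.L20.isReduced_of_surjective_of_flat π
  letI : GrpObj (Over.mk B.hom) := ‹GrpObj B›
  exact smooth_of_grpObj B.hom

variable {G Q : Over (Spec (CommRingCat.of k))} [GrpObj G] [GrpObj Q] [LocallyOfFiniteType G.hom] [QuasiCompact G.hom]
  [LocallyOfFiniteType Q.hom] [QuasiCompact Q.hom]

omit [LocallyOfFiniteType G.hom] [QuasiCompact G.hom] [LocallyOfFiniteType Q.hom] [QuasiCompact Q.hom] in
/-- The image of a normal subgroup under a faithfully flat homomorphism is normal. -/
theorem isNormalHom_image {H C : Over (Spec (CommRingCat.of k))} [GrpObj H] [GrpObj C] (q : G ⟶ Q) [IsMonHom q]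
    [Surjective q.left] [Flat q.left] [LocallyOfFinitePresentation q.left]
    (j : H ⟶ G) [IsMonHom j] (hN : AlgGrp.IsNormalHom j)
    (p : H ⟶ C) [Surjective p.left] [Flat p.left] [LocallyOfFinitePresentation p.left]
    (i : C ⟶ Q) [Mono i] (hfac : p ≫ i = j ≫ q) : AlgGrp.IsNormalHom i := by
  obtain ⟨n', hn'⟩ := hN (H ⊗ G) (snd H G) (fst H G)
  let c : C ⊗ Q ⟶ Q := snd C Q * (fst C Q ≫ i) * (snd C Q)⁻¹
  have hcov := Groth.L08.GQuot.cover_tensor p G
  obtain ⟨⟨_, _, _⟩, -⟩ := hcov
  obtain ⟨-, ⟨_, _, _⟩⟩ := Groth.L08.GQuot.cover_tensor q C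
  let Φ : H ⊗ G ⟶ C ⊗ Q := (p ▷ G) ≫ (C ◁ q)
  haveI : Surjective Φ.left := by rw [Over.comp_left]; infer_instance
  haveI : Flat Φ.left := by rw [Over.comp_left]; infer_instance
  haveI : LocallyOfFinitePresentation Φ.left := by rw [Over.comp_left]; infer_instance
  have hΦ : Φ ≫ c = (n' ≫ p) ≫ i := by
    rw [Category.assoc n', hfac, ← Category.assoc n', ← hn']
    simp only [Φ, c, Category.assoc, MonObj.comp_mul, GrpObj.comp_inv, whiskerLeft_fst_assoc, whiskerLeft_snd,
      whiskerRight_fst_assoc, whiskerRight_snd_assoc, hfac, hom_mul_comp, hom_inv_comp]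
  obtain ⟨g, hg⟩ := Groth.L08.AffHull.exists_desc_cover Φ (n' ≫ p) (fun a b e => by
    rw [← cancel_mono i, Category.assoc a, Category.assoc b, ← hΦ, reassoc_of% e])
  have hgc : g ≫ i = c := by
    haveI : Epi Φ := Groth.L08.GQuot.epi_of_cover Φ
    rw [← cancel_epi Φ, reassoc_of% hg, hΦ, Category.assoc]
  intro T x n
  refine ⟨lift n x ≫ g, ?_⟩
  rw [Category.assoc, hgc]
  simp only [c, MonObj.comp_mul, GrpObj.comp_inv, lift_fst_assoc, lift_snd]

omit [LocallyOfFiniteType G.hom] [QuasiCompact Q.hom] in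
/-- The image of a smooth connected normal subgroup. -/
theorem exists_image_normal (q : G ⟶ Q) [IsMonHom q] [Surjective q.left] [Flat q.left]
    [LocallyOfFinitePresentation q.left] {H : Over (Spec (CommRingCat.of k))} [GrpObj H]
    (j : H ⟶ G) [IsMonHom j] [IsClosedImmersion j.left] [Smooth H.hom] [ConnectedSpace H.left]
    (hN : AlgGrp.IsNormalHom j) :
    ∃ (C : Over (Spec (CommRingCat.of k))) (_ : GrpObj C) (p : H ⟶ C) (i : C ⟶ Q), IsMonHom p ∧ IsMonHom i ∧
      p ≫ i = j ≫ q ∧ Flat p.left ∧ Surjective p.left ∧ IsClosedImmersion i.left ∧ Smooth C.hom ∧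
      ConnectedSpace C.left ∧ AlgGrp.IsNormalHom i := by
  haveI : QuasiCompact H.hom := by rw [← Over.w j]; infer_instance
  obtain ⟨C, gC, p, i, hp, hi, hfac, hpf, hps, hpl, hic⟩ := Groth.L08.AbelianGrp.exists_image (j ≫ q)
  haveI := hpf
  haveI := hps
  haveI := hpl
  haveI := hic
  haveI : LocallyOfFiniteType C.hom := by rw [← Over.w i]; infer_instance
  haveI : Mono i := mono_of_closed i
  exact ⟨C, gC, p, i, hp, hi, hfac, hpf, hps, hic, smooth_of_cover p,
    p.left.surjective.connectedSpace p.left.continuous, isNormalHom_image q j hN p i hfac⟩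

omit [LocallyOfFiniteType G.hom] [QuasiCompact G.hom] [LocallyOfFiniteType Q.hom] [QuasiCompact Q.hom] in
/-- The preimage of a normal subgroup of a quotient. -/
theorem exists_preimage_normal {N C : Over (Spec (CommRingCat.of k))} [GrpObj N] [GrpObj C]
    (j : N ⟶ G) [IsMonHom j] [IsClosedImmersion j.left] (q : G ⟶ Q) [IsMonHom q] [Surjective q.left] [Flat q.left]
    (hker : AlgGrp.IsKernel j q) (i : C ⟶ Q) [IsMonHom i] [IsClosedImmersion i.left] (hN : AlgGrp.IsNormalHom i) :
    ∃ (H : Over (Spec (CommRingCat.of k))) (_ : GrpObj H) (h : H ⟶ G) (p : H ⟶ C) (f : N ⟶ H), IsMonHom h ∧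
      IsMonHom p ∧ IsMonHom f ∧ IsClosedImmersion h.left ∧ AlgGrp.IsNormalHom h ∧ f ≫ h = j ∧ h ≫ q = p ≫ i ∧
      Flat p.left ∧ Surjective p.left ∧ AlgGrp.IsKernel f p := by
  haveI : Mono i := mono_of_closed i
  haveI : Mono j := mono_of_closed j
  let H := pullback q i
  let h : H ⟶ G := pullback.fst q i
  let p : H ⟶ C := pullback.snd q i
  have sq : IsPullback h p q i := IsPullback.of_hasPullback q i
  have sql := sq.map (Over.forget _)
  haveI : IsClosedImmersion h.left := MorphismProperty.of_isPullback (P := @IsClosedImmersion) sql.flip ‹IsClosedImmersion i.left›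
  haveI : Mono h := mono_of_closed h
  obtain ⟨gH, hh⟩ := Groth.L08.exists_grpObj_of_mono h
    ⟨sq.lift η[G] η[C] (by rw [IsMonHom.one_hom, IsMonHom.one_hom]), sq.lift_fst _ _ _⟩
    ⟨sq.lift _ ((fst H H ≫ p) * (snd H H ≫ p)) (by
      simp only [hom_mul_comp, Category.assoc, sq.w]), sq.lift_fst _ _ _⟩
    ⟨sq.lift _ p⁻¹ (by rw [hom_inv_comp, hom_inv_comp, sq.w]), sq.lift_fst _ _ _⟩
  haveI := hh
  haveI : IsMonHom p := by
    refine isMonHom_of_points' p fun T a b => ?_
    rw [← cancel_mono i, Category.assoc, ← sq.w, ← Category.assoc, hom_mul_comp, hom_mul_comp, hom_mul_comp]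
    simp only [Category.assoc, sq.w]
  let f : N ⟶ H := sq.lift j 1 (by rw [hom_one_comp, comp_of_isKernel hker])
  have hf1 : f ≫ h = j := sq.lift_fst _ _ _
  have hf2 : f ≫ p = 1 := sq.lift_snd _ _ _
  haveI : IsMonHom f := by
    refine isMonHom_of_points' f fun T a b => ?_
    rw [← cancel_mono h, Category.assoc, hf1, hom_mul_comp, hom_mul_comp, Category.assoc, Category.assoc, hf1]
  haveI : Mono f := mono_of_mono_fac hf1
  refine ⟨H, gH, h, p, f, hh, inferInstance, inferInstance, inferInstance, fun T g n => ?_, hf1, sq.w,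
    MorphismProperty.of_isPullback (P := @Flat) sql ‹Flat q.left›,
    MorphismProperty.of_isPullback (P := @Surjective) sql ‹Surjective q.left›,
    isKernel_of_points f p hf2 fun T t ht => ?_⟩
  · obtain ⟨c, hc⟩ := hN T (g ≫ q) (n ≫ p)
    refine ⟨sq.lift (g * (n ≫ h) * g⁻¹) c ?_, (sq.lift_fst _ _ _).symm⟩
    rw [hom_mul_comp, hom_mul_comp, hom_inv_comp, Category.assoc, sq.w, ← Category.assoc n, hc]
  · obtain ⟨n, hn⟩ := exists_of_isKernel hker (t ≫ h) (by
      rw [Category.assoc, sq.w, ← Category.assoc, ht, hom_one_comp])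
    exact ⟨n, by rw [← cancel_mono h, Category.assoc, hf1, hn]⟩

/-- A closed subgroup containing another with the same dimension, in a smooth connected group, is equal to it. -/
theorem isIso_of_dim_eq {N H : Over (Spec (CommRingCat.of k))} [GrpObj H] [Smooth H.hom] [ConnectedSpace H.left]
    (f : N ⟶ H) [IsClosedImmersion f.left]
    (hd : topologicalKrullDim N.left = topologicalKrullDim H.left) : IsIso f := by
  haveI : Mono f := mono_of_closed f
  haveI : IsLocallyNoetherian H.left := LocallyOfFiniteType.isLocallyNoetherian H.hom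
  haveI : IrreducibleSpace H.left := by
    have h := Groth.L16.SecComp.isIrreducible_connectedComponent
      (fun z => Groth.L21.Smooth.isDomain_stalk H.hom z) (η[H].left (IsLocalRing.closedPoint k))
    rw [PreconnectedSpace.connectedComponent_eq_univ] at h
    exact (irreducibleSpace_def _).2 h
  obtain ⟨n, -, hn⟩ := Groth.L08.GrpDim.exists_dim (G := H)
  have hr : Set.range f.left = Set.univ :=
    eq_of_subset_of_dim_eq f.left.isClosedEmbedding.isClosed_range (IrreducibleSpace.isIrreducible_univ _)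
      (Set.subset_univ _) (n := n) (by rw [(Homeomorph.Set.univ H.left).isHomeomorph.topologicalKrullDim_eq, hn])
      (by rw [Groth.L22.SchemeDim.topologicalKrullDim_eq_of_isEmbedding f.left.isClosedEmbedding.isEmbedding rfl,
        hd, hn])
  haveI : IsReduced H.left := Groth.L16.SecComp.isReduced_of_smooth H.hom
  obtain ⟨l, hl⟩ := exists_lift_of_range f (𝟙 H) (by rw [hr]; exact Set.subset_univ _)
  exact ⟨l, by rw [← cancel_mono f, Category.assoc, hl, Category.id_comp, Category.comp_id], hl⟩

/-- A closed subgroup of a quotient with trivial preimage is trivial. -/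
theorem isIso_η_of_preimage {N C H : Over (Spec (CommRingCat.of k))} [GrpObj C] [GrpObj H]
    (p : H ⟶ C) [IsMonHom p] [Surjective p.left] [Flat p.left] [LocallyOfFinitePresentation p.left]
    (f : N ⟶ H) [IsIso f] (hker : AlgGrp.IsKernel f p) : IsIso η[C] := by
  have hp : p = 1 := by rw [← cancel_epi f, comp_of_isKernel hker, MonObj.comp_one]
  haveI : Epi p := Groth.L08.GQuot.epi_of_cover p
  have h1 : (1 : C ⟶ C) = 𝟙 C := by
    rw [← cancel_epi p, MonObj.comp_one, Category.comp_id, hp]
  exact ⟨toUnit C, toUnit_unique _ _, by rw [← Hom.one_def, h1]⟩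

end Groth.L19.AlgGrpBasic
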