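import Groth.Agent.L25.DSPts
import Groth.Agent.L26.AV.SmoothField
import Groth.Agent.L25.Locus.FixedConn
import Mathlib.AlgebraicGeometry.ValuativeCriterion
import Mathlib.RingTheory.PowerSeries.Inverse
import Mathlib.RingTheory.Localization.FractionRing

/-!
# Homomorphisms from tori to proper groups are trivial

The proof is elementary: the `K((t))`-point `t ↦ φ(t)` of a torus maps to a point of the proper group which extends
over `K[[t]]`; rescaling `t` multiplies it by a constant point, and evaluation at `t = 0` shows that this constant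
point maps to the unit.
-/

set_option autoImplicit false
set_option linter.style.haveILetI false
set_option backward.isDefEq.respectTransparency.types false

universe u

open CategoryTheory CategoryTheory.Limits MonoidalCategory CartesianMonoidalCategory MonObj AlgebraicGeometry

noncomputable section

namespace Groth.L19.AlgGrpBasic

section Core

variable {S : Scheme.{u}} {K : Type u} [Field K] (u₀ : Spec (CommRingCat.of K) ⟶ S)

/-- The spectrum of a `K`-algebra, over `S`. -/
abbrev sT (R : Type u) [CommRing R] [Algebra K R] : Over S :=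
  Over.mk (Spec.map (CommRingCat.ofHom (algebraMap K R)) ≫ u₀)

/-- The map of spectra of an algebra map, over `S`. -/
abbrev sMap {R R' : Type u} [CommRing R] [Algebra K R] [CommRing R'] [Algebra K R'] (φ : R →ₐ[K] R') :
    sT u₀ R' ⟶ sT u₀ R :=
  Over.homMk (Spec.map (CommRingCat.ofHom φ.toRingHom)) (by
    show Spec.map _ ≫ Spec.map _ ≫ u₀ = _
    rw [← Spec.map_comp_assoc, ← CommRingCat.ofHom_comp,
      show φ.toRingHom.comp (algebraMap K R) = algebraMap K R' from φ.comp_algebraMap]
    rfl)

theorem sMap_comp {R R' R'' : Type u} [CommRing R] [Algebra K R] [CommRing R'] [Algebra K R']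
    [CommRing R''] [Algebra K R''] (φ : R →ₐ[K] R') (ψ : R' →ₐ[K] R'') :
    sMap u₀ ψ ≫ sMap u₀ φ = sMap u₀ (ψ.comp φ) := by
  apply Over.OverMorphism.ext
  show Spec.map _ ≫ Spec.map _ = Spec.map _
  rw [← Spec.map_comp]
  rfl

theorem sMap_id (R : Type u) [CommRing R] [Algebra K R] : sMap u₀ (AlgHom.id K R) = 𝟙 (sT u₀ R) := by
  apply Over.OverMorphism.ext
  show Spec.map _ = 𝟙 _
  rw [← Spec.map_id]
  rfl

/-- A point of a proper group which extends to `K[[t]]` up to a constant under an endomorphism of `K[[t]]`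
fixing the constant term has trivial constant. -/
theorem eq_one_of_translate {A : Over S} [GrpObj A] [IsProper A.hom]
    (ξ : sT u₀ (FractionRing (PowerSeries K)) ⟶ A) (c : sT u₀ K ⟶ A)
    (σ : PowerSeries K →ₐ[K] PowerSeries K) (hσ : ∀ f, PowerSeries.constantCoeff (σ f) = PowerSeries.constantCoeff f)
    (σL : FractionRing (PowerSeries K) →ₐ[K] FractionRing (PowerSeries K))
    (hσL : σL.comp (IsScalarTower.toAlgHom K _ _) = (IsScalarTower.toAlgHom K _ _).comp σ)
    (h : sMap u₀ σL ≫ ξ = sMap u₀ (Algebra.ofId K _) ≫ c * ξ) : c = 1 := by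
  let R := PowerSeries K
  let L := FractionRing R
  let gen : sT u₀ L ⟶ sT u₀ R := sMap u₀ (IsScalarTower.toAlgHom K R L)
  let sq : ValuativeCommSq A.hom :=
    { R := R, K := L, i₁ := ξ.left, i₂ := (sT u₀ R).hom
      commSq := ⟨(Over.w ξ).trans (Over.w gen).symm⟩ }
  have hex : ValuativeCriterion.Existence A.hom := (UniversallyClosed.eq_valuativeCriterion ▸
    (inferInstance : UniversallyClosed A.hom)).1
  haveI := hex sq
  let ρ : sT u₀ R ⟶ A := Over.homMk sq.commSq.lift sq.commSq.fac_right
  have hρ : gen ≫ ρ = ξ := Over.OverMorphism.ext sq.commSq.fac_left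
  have key : sMap u₀ σ ≫ ρ = sMap u₀ (Algebra.ofId K R) ≫ c * ρ := by
    apply Over.OverMorphism.ext
    haveI : IsDominant gen.left := by
      refine ⟨?_⟩
      show DenseRange (PrimeSpectrum.comap (algebraMap R L))
      exact (PrimeSpectrum.denseRange_comap_iff_ker_le_nilRadical _).2
        (by rw [(RingHom.injective_iff_ker_eq_bot _).1 (IsFractionRing.injective R L)]; exact bot_le)
    haveI : IsReduced (sT u₀ R).left := inferInstanceAs (IsReduced (Spec (CommRingCat.of R)))
    refine ext_of_isDominant_of_isSeparated A.hom ((Over.w _).trans (Over.w _).symm) gen.left ?_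
    rw [← Over.comp_left, ← Over.comp_left]
    congr 1
    rw [MonObj.comp_mul, hρ, ← Category.assoc, ← Category.assoc, sMap_comp, sMap_comp, ← hσL, ← sMap_comp,
      Category.assoc, hρ, h]
    rfl
  let ev : R →ₐ[K] K := { PowerSeries.constantCoeff with commutes' := fun r => PowerSeries.constantCoeff_C r }
  have h0 := congrArg (sMap u₀ ev ≫ ·) key
  simp only [MonObj.comp_mul] at h0
  rw [← Category.assoc, ← Category.assoc, sMap_comp, sMap_comp, show ev.comp σ = ev from AlgHom.ext hσ,
    show ev.comp (Algebra.ofId K R) = AlgHom.id K K from Subsingleton.elim _ _, sMap_id, Category.id_comp] at h0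
  exact (mul_eq_right (M := (sT u₀ K ⟶ A))).1 h0.symm

/-- Rescaling the parameter of `K[[t]]` by a unit. -/
theorem exists_scaling (a : Kˣ) :
    ∃ (σ : PowerSeries K →ₐ[K] PowerSeries K)
      (σL : FractionRing (PowerSeries K) →ₐ[K] FractionRing (PowerSeries K)) (τ : (FractionRing (PowerSeries K))ˣ),
      (∀ f, PowerSeries.constantCoeff (σ f) = PowerSeries.constantCoeff f) ∧
      σL.comp (IsScalarTower.toAlgHom K _ _) = (IsScalarTower.toAlgHom K _ _).comp σ ∧
      Units.map σL.toRingHom.toMonoidHom τ =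
        Units.map (algebraMap K (FractionRing (PowerSeries K))).toMonoidHom a * τ ∧
      (τ : FractionRing (PowerSeries K)) = algebraMap (PowerSeries K) _ PowerSeries.X := by
  let σ : PowerSeries K →ₐ[K] PowerSeries K :=
    { PowerSeries.rescale (a : K) with
      commutes' := fun r => by
        show PowerSeries.rescale (a : K) (PowerSeries.C r) = PowerSeries.C r
        ext n
        rw [PowerSeries.coeff_rescale, PowerSeries.coeff_C]
        split <;> simp_all }
  have hinj : Function.Injective σ := by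
    intro x y hxy
    have := congrArg (PowerSeries.rescale ((a⁻¹ : Kˣ) : K)) hxy
    change PowerSeries.rescale _ (PowerSeries.rescale (a : K) x) =
      PowerSeries.rescale _ (PowerSeries.rescale (a : K) y) at this
    rwa [PowerSeries.rescale_rescale, PowerSeries.rescale_rescale, Units.mul_inv, PowerSeries.rescale_one] at this
  have hinjL : Function.Injective ((IsScalarTower.toAlgHom K (PowerSeries K) (FractionRing (PowerSeries K))).comp σ) :=
    (IsFractionRing.injective (PowerSeries K) (FractionRing (PowerSeries K))).comp hinj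
  let σL : FractionRing (PowerSeries K) →ₐ[K] FractionRing (PowerSeries K) := IsFractionRing.liftAlgHom hinjL
  have hσL : σL.comp (IsScalarTower.toAlgHom K _ _) = (IsScalarTower.toAlgHom K _ _).comp σ :=
    AlgHom.ext fun x => by
      rw [AlgHom.comp_apply, IsFractionRing.liftAlgHom_apply, IsScalarTower.toAlgHom_apply, IsFractionRing.lift_algebraMap]
      rfl
  have hX : algebraMap (PowerSeries K) (FractionRing (PowerSeries K)) PowerSeries.X ≠ 0 :=
    IsFractionRing.to_map_ne_zero_of_mem_nonZeroDivisors (mem_nonZeroDivisors_of_ne_zero PowerSeries.X_ne_zero)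
  refine ⟨σ, σL, Units.mk0 _ hX, fun g => ?_, hσL, Units.ext ?_, rfl⟩
  · show PowerSeries.constantCoeff (PowerSeries.rescale (a : K) g) = _
    rw [← PowerSeries.coeff_zero_eq_constantCoeff_apply, ← PowerSeries.coeff_zero_eq_constantCoeff_apply,
      PowerSeries.coeff_rescale, pow_zero, _root_.one_mul]
  · show σL (algebraMap (PowerSeries K) _ PowerSeries.X) = algebraMap K _ (a : K) * algebraMap (PowerSeries K) _ PowerSeries.X
    rw [show σL (algebraMap (PowerSeries K) _ PowerSeries.X) = algebraMap (PowerSeries K) _ (σ PowerSeries.X) from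
      DFunLike.congr_fun hσL _, IsScalarTower.algebraMap_apply K (PowerSeries K) (FractionRing (PowerSeries K)), ← map_mul]
    congr 1
    show PowerSeries.rescale (a : K) PowerSeries.X = PowerSeries.C (a : K) * PowerSeries.X
    exact PowerSeries.rescale_X _

variable {M : Type} [AddCommGroup M]

/-- The point of a diagonalisable group given by a character. -/
def cpt {R : Type u} [CommRing R] [Algebra K R] (χ : Multiplicative M →* R) : sT u₀ R ⟶ Red.DS S M :=
  Groth.L25.DSPts.pt ((Scheme.ΓSpecIso (CommRingCat.of R)).inv.hom.toMonoidHom.comp χ)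

theorem cpt_mul {R : Type u} [CommRing R] [Algebra K R] (χ ψ : Multiplicative M →* R) :
    cpt u₀ (χ * ψ) = cpt u₀ χ * cpt u₀ ψ := by
  rw [cpt, cpt, cpt, ← Groth.L25.DSPts.pt_mul]
  congr 1
  exact MonoidHom.ext fun m => map_mul (Scheme.ΓSpecIso (CommRingCat.of R)).inv.hom _ _

theorem cpt_one {R : Type u} [CommRing R] [Algebra K R] :
    cpt u₀ (1 : Multiplicative M →* R) = 1 := by
  rw [cpt, ← Groth.L25.DSPts.pt_one]
  congr 1
  exact MonoidHom.ext fun m => map_one (Scheme.ΓSpecIso (CommRingCat.of R)).inv.hom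

theorem sMap_cpt {R R' : Type u} [CommRing R] [Algebra K R] [CommRing R'] [Algebra K R'] (φ : R →ₐ[K] R')
    (χ : Multiplicative M →* R) : sMap u₀ φ ≫ cpt u₀ χ = cpt u₀ (φ.toRingHom.toMonoidHom.comp χ) := by
  refine Groth.L25.DSPts.char_injective (MonoidHom.ext fun m => ?_)
  rw [Groth.L25.DSPts.char_comp, cpt, cpt, Groth.L25.DSPts.char_pt, Groth.L25.DSPts.char_pt]
  exact (congrArg (fun ψ => ψ.hom (χ m)) (Scheme.ΓSpecIso_inv_naturality (CommRingCat.ofHom φ.toRingHom))).symm

theorem exists_cpt {R : Type u} [CommRing R] [Algebra K R] (t : sT u₀ R ⟶ Red.DS S M) :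
    ∃ χ : Multiplicative M →* R, cpt u₀ χ = t := by
  refine ⟨(Scheme.ΓSpecIso (CommRingCat.of R)).hom.hom.toMonoidHom.comp (Groth.L25.DSPts.char t), ?_⟩
  refine Groth.L25.DSPts.char_injective (MonoidHom.ext fun m => ?_)
  rw [cpt, Groth.L25.DSPts.char_pt]
  exact Iso.hom_inv_id_apply (Scheme.ΓSpecIso (CommRingCat.of R)) _

variable {A : Over S} [GrpObj A] [IsProper A.hom] (f : Red.DS S M ⟶ A)

set_option maxHeartbeats 400000 in
/-- A homomorphism to a proper group kills the image of every cocharacter. -/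
theorem cpt_zpow_comp_eq_one [IsMonHom f] (φ : M →+ ℤ) (a : Kˣ) :
    cpt u₀ ((Units.coeHom K).comp ((zpowersHom Kˣ a).comp (AddMonoidHom.toMultiplicative φ))) ≫ f = 1 := by
  obtain ⟨σ, σL, τ, h1, h2, hτ, -⟩ := exists_scaling a
  refine eq_one_of_translate u₀
    (cpt u₀ ((Units.coeHom (FractionRing (PowerSeries K))).comp
      ((zpowersHom (FractionRing (PowerSeries K))ˣ τ).comp (AddMonoidHom.toMultiplicative φ))) ≫ f) _ σ h1 σL h2 ?_
  rw [← Category.assoc, ← Category.assoc, sMap_cpt, sMap_cpt, ← MonObj.mul_comp _ _ f, ← cpt_mul]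
  refine congrArg (· ≫ f) (congrArg (cpt u₀) (MonoidHom.ext fun m => ?_))
  simp only [MonoidHom.comp_apply, MonoidHom.mul_apply, zpowersHom_apply, Units.coeHom_apply]
  rw [← Units.coe_map, ← Units.coe_map, map_zpow, hτ, mul_zpow, ← map_zpow, Units.val_mul]
  rfl

/-- A homomorphism from a split torus to a proper group is trivial on points with values in fields. -/
theorem comp_eq_one_of_split (r : ℕ) (g : Red.DS S (Fin r → ℤ) ⟶ A) [IsMonHom g]
    (t : sT u₀ K ⟶ Red.DS S (Fin r → ℤ)) : t ≫ g = 1 := by
  classical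
  obtain ⟨χ, rfl⟩ := exists_cpt u₀ t
  let a : Fin r → Kˣ := fun i => χ.toHomUnits (Multiplicative.ofAdd (Pi.single i 1))
  let χi : Fin r → (Multiplicative (Fin r → ℤ) →* K) := fun i =>
    (Units.coeHom K).comp ((zpowersHom Kˣ (a i)).comp
      (AddMonoidHom.toMultiplicative (Pi.evalAddMonoidHom (fun _ : Fin r => ℤ) i)))
  have hχ : χ = ∏ i, χi i := by
    refine MonoidHom.ext fun m => ?_
    have hm : Multiplicative.toAdd m = ∑ i, (Multiplicative.toAdd m i) • (Pi.single i (1 : ℤ) : Fin r → ℤ) := by
      ext j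
      simp [Finset.sum_apply, Pi.single_apply]
    have hm' : m = ∏ i, (Multiplicative.ofAdd (Pi.single i (1 : ℤ) : Fin r → ℤ)) ^ (Multiplicative.toAdd m i) := by
      apply Multiplicative.toAdd.injective
      rw [toAdd_prod]
      simpa only [toAdd_zpow, toAdd_ofAdd] using hm
    rw [MonoidHom.finsetProd_apply]
    show χ m = ∏ i, ((a i ^ (Multiplicative.toAdd m i) : Kˣ) : K)
    refine Eq.trans ?_ (Units.coe_prod _ _)
    rw [show χ m = ((χ.toHomUnits m : Kˣ) : K) from (MonoidHom.coe_toHomUnits χ m).symm]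
    conv_lhs => rw [hm']
    rw [map_prod]
    simp only [map_zpow]
    rfl
  rw [hχ]
  refine Finset.prod_induction χi (fun χ => cpt u₀ χ ≫ g = 1) (fun x y hx hy => ?_) ?_ (fun i _ => ?_)
  · rw [cpt_mul, MonObj.mul_comp, hx, hy, _root_.one_mul]
  · rw [cpt_one, MonObj.one_comp]
  · exact cpt_zpow_comp_eq_one u₀ g _ (a i)

end Core

/-- A homomorphism from a torus over a field to a proper group is trivial. -/
theorem hom_torus_to_proper_eq_one {k : Type u} [Field k] {T A : Over (Spec (CommRingCat.of k))} [GrpObj T] [GrpObj A]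
    (hT : Red.IsTorus T) [IsProper A.hom] (f : T ⟶ A) [IsMonHom f] : f = 1 := by
  obtain ⟨K₀, _, _, r, ⟨e⟩⟩ := Groth.L25.Dyn.exists_field_split hT
  haveI : Smooth T.hom := (Groth.L25.Locus.smooth_connected_torus hT).1
  haveI : IsReduced T.left := Groth.Agent.AV.isReduced_of_smooth_field T.hom
  apply Over.OverMorphism.ext
  refine ext_of_fromSpecResidueField_eq _ _ A.hom Set.univ dense_univ (fun p _ => ?_)
    ((Over.w _).trans (Over.w _).symm)
  let θ := Spec.map (CommRingCat.ofHom (algebraMap k K₀))
  haveI : Surjective θ := ⟨fun x => ⟨(default : PrimeSpectrum K₀), Subsingleton.elim (α := PrimeSpectrum k) _ _⟩⟩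
  obtain ⟨q, hq⟩ := (pullback.fst T.hom θ).surjective p
  -- a field over which the point factors
  let K := ((Red.bc θ T).left.residueField q : CommRingCat.{u})
  let w : Spec K ⟶ (Red.bc θ T).left := (Red.bc θ T).left.fromSpecResidueField q
  let u₀ : Spec (CommRingCat.of ↑K) ⟶ Spec (CommRingCat.of K₀) := w ≫ (Red.bc θ T).hom
  let x : sT u₀ ↑K ⟶ Red.bc θ T := Over.homMk w (by
    show w ≫ _ = Spec.map (CommRingCat.ofHom (algebraMap ↑K ↑K)) ≫ u₀
    rw [show CommRingCat.ofHom (algebraMap (↑K) (↑K)) = 𝟙 _ from rfl, Spec.map_id, Category.id_comp])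
  let eh : Red.bc θ T ⟶ Red.DS _ (Fin r → ℤ) := e.hom.hom.hom
  let ei : Red.DS _ (Fin r → ℤ) ⟶ Red.bc θ T := e.inv.hom.hom
  haveI : IsMonHom ei := e.inv.hom.isMonHom_hom
  haveI : IsMonHom ((Over.pullback θ).map f) := inferInstance
  haveI : IsProper (Red.bc θ A).hom := MorphismProperty.pullback_snd (P := @IsProper) A.hom θ ‹_›
  have h1 : x ≫ (Over.pullback θ).map f = 1 := by
    have h := comp_eq_one_of_split u₀ r (ei ≫ (Over.pullback θ).map f) (x ≫ eh)
    rw [Category.assoc, show eh ≫ ei ≫ (Over.pullback θ).map f = (Over.pullback θ).map f by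
      rw [← Category.assoc]
      erw [show eh ≫ ei = 𝟙 _ from congr($(e.hom_inv_id).hom.hom)]
      exact Category.id_comp _] at h
    exact h
  have h2 : x ≫ (Over.pullback θ).map f = x ≫ (Over.pullback θ).map (1 : T ⟶ A) := by
    rw [h1, CategoryTheory.Functor.map_one, MonObj.comp_one]
  have h3 := congrArg (fun y => y.left ≫ pullback.fst A.hom θ) h2
  have hw : ∀ g : T ⟶ A, ((Over.pullback θ).map g).left ≫ pullback.fst A.hom θ = pullback.fst T.hom θ ≫ g.left :=
    fun g => pullback.lift_fst _ _ _
  simp only [Over.comp_left, Category.assoc, hw] at h3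
  subst hq
  have h4 : Spec.map ((pullback.fst T.hom θ).residueFieldMap q) ≫ T.left.fromSpecResidueField (pullback.fst T.hom θ q) =
      w ≫ pullback.fst T.hom θ := Scheme.Hom.SpecMap_residueFieldMap_fromSpecResidueField _ _
  haveI : IsDominant (Spec.map ((pullback.fst T.hom θ).residueFieldMap q)) :=
    haveI : Surjective (Spec.map ((pullback.fst T.hom θ).residueFieldMap q)) :=
      ⟨fun x => ⟨(IsLocalRing.closedPoint _), Subsingleton.elim _ _⟩⟩
    inferInstance
  refine ext_of_isDominant_of_isSeparated A.hom (by rw [Category.assoc, Category.assoc, Over.w, Over.w])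
    (Spec.map ((pullback.fst T.hom θ).residueFieldMap q)) ?_
  rw [reassoc_of% h4, reassoc_of% h4]
  exact h3

end Groth.L19.AlgGrpBasic
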