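import Groth.Agent.L25.Actions
import Groth.Agent.L20.SchDesc.AffineHom

/-!
# Associated bundles of principal bundles with affine fibre
-/

set_option autoImplicit false
set_option linter.style.haveILetI false
set_option backward.isDefEq.respectTransparency.types false
set_option backward.isDefEq.respectTransparency false

universe u

open CategoryTheory MonoidalCategory CartesianMonoidalCategory MonObj AlgebraicGeometry Limits

noncomputable section

namespace Groth.L19.AlgGrpBasic.Assoc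

variable {S : Scheme.{u}} {G X Y Z : Over S} [GrpObj G] (a : AlgGrp.Action G X) (b : AlgGrp.Action G Z)
  {f : X ⟶ Y}

/-- The diagonal action on the product. -/
def diag : G ⊗ (X ⊗ Z) ⟶ X ⊗ Z := lift ((G ◁ fst X Z) ≫ a.act) ((G ◁ snd X Z) ≫ b.act)

theorem lift_diag {T : Over S} (g : T ⟶ G) (v : T ⟶ X ⊗ Z) :
    lift g v ≫ diag a b = lift (lift g (v ≫ fst X Z) ≫ a.act) (lift g (v ≫ snd X Z) ≫ b.act) := by
  refine CartesianMonoidalCategory.hom_ext _ _ ?_ ?_
  · rw [Category.assoc, diag, lift_fst, lift_fst, ← Category.assoc, lift_whiskerLeft]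
  · rw [Category.assoc, diag, lift_snd, lift_snd, ← Category.assoc, lift_whiskerLeft]

theorem one_diag {T : Over S} (v : T ⟶ X ⊗ Z) : lift (1 : T ⟶ G) v ≫ diag a b = v := by
  rw [lift_diag, Groth.L25.Actions.one_act, Groth.L25.Actions.one_act, lift_comp_fst_snd]

theorem mul_diag {T : Over S} (g h : T ⟶ G) (v : T ⟶ X ⊗ Z) :
    lift (g * h) v ≫ diag a b = lift g (lift h v ≫ diag a b) ≫ diag a b := by
  rw [lift_diag, lift_diag a b g, Groth.L25.Actions.mul_act, Groth.L25.Actions.mul_act]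
  congr 1 <;> rw [lift_diag] <;> simp

variable (hsq : IsPullback a.act.left (snd G X).left f.left f.left)

include hsq in
theorem existsUnique_translator {T : Over S} (x y : T ⟶ X) (h : x ≫ f = y ≫ f) :
    ∃! g : T ⟶ G, lift g y ≫ a.act = x := by
  let γ : T ⟶ G ⊗ X := Over.homMk (hsq.lift x.left y.left (congrArg CommaMorphism.left h)) (by
    have e : (snd G X).left ≫ X.hom = (G ⊗ X).hom := Over.w _
    rw [← e, ← Category.assoc, hsq.lift_snd]
    exact Over.w y)
  have h1 : γ ≫ a.act = x := Over.OverMorphism.ext (hsq.lift_fst _ _ _)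
  have h2 : γ ≫ snd G X = y := Over.OverMorphism.ext (hsq.lift_snd _ _ _)
  refine ⟨γ ≫ fst G X, ?_, fun g hg => ?_⟩
  · show lift (γ ≫ fst G X) y ≫ a.act = x
    rw [← h2, lift_comp_fst_snd, h1]
  · have e : lift g y = γ := by
      refine Over.OverMorphism.ext (hsq.hom_ext ?_ ?_)
      · exact (congrArg CommaMorphism.left hg).trans (congrArg CommaMorphism.left h1).symm
      · exact (congrArg CommaMorphism.left (lift_snd g y)).trans (congrArg CommaMorphism.left h2).symm
    rw [← e, lift_fst]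

/-- The point over `x` in the class of `v`. -/
def move {T : Over S} (v : T ⟶ X ⊗ Z) (x : T ⟶ X) (h : x ≫ f = (v ≫ fst X Z) ≫ f) : T ⟶ X ⊗ Z :=
  lift (existsUnique_translator a hsq x (v ≫ fst X Z) h).exists.choose v ≫ diag a b

theorem move_eq {T : Over S} (v : T ⟶ X ⊗ Z) (x : T ⟶ X) (h : x ≫ f = (v ≫ fst X Z) ≫ f) (g : T ⟶ G)
    (hg : lift g (v ≫ fst X Z) ≫ a.act = x) : move a b hsq v x h = lift g v ≫ diag a b := by
  rw [move, (existsUnique_translator a hsq x (v ≫ fst X Z) h).unique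
    (existsUnique_translator a hsq x (v ≫ fst X Z) h).exists.choose_spec hg]

theorem move_fst {T : Over S} (v : T ⟶ X ⊗ Z) (x : T ⟶ X) (h : x ≫ f = (v ≫ fst X Z) ≫ f) :
    move a b hsq v x h ≫ fst X Z = x := by
  rw [move, lift_diag, lift_fst]
  exact (existsUnique_translator a hsq x (v ≫ fst X Z) h).exists.choose_spec

theorem move_natural {T T' : Over S} (j : T' ⟶ T) (v : T ⟶ X ⊗ Z) (x : T ⟶ X)
    (h : x ≫ f = (v ≫ fst X Z) ≫ f) (h' : (j ≫ x) ≫ f = ((j ≫ v) ≫ fst X Z) ≫ f) :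
    move a b hsq (j ≫ v) (j ≫ x) h' = j ≫ move a b hsq v x h := by
  obtain ⟨g, hg, -⟩ := existsUnique_translator a hsq x (v ≫ fst X Z) h
  rw [move_eq a b hsq v x h g hg, move_eq a b hsq (j ≫ v) (j ≫ x) h' (j ≫ g)
    (by rw [← hg, Category.assoc j v, ← comp_lift, Category.assoc]), ← comp_lift, Category.assoc]

theorem move_self {T : Over S} (v : T ⟶ X ⊗ Z) (h : (v ≫ fst X Z) ≫ f = (v ≫ fst X Z) ≫ f) :
    move a b hsq v (v ≫ fst X Z) h = v := by
  rw [move_eq a b hsq v _ h 1 (Groth.L25.Actions.one_act a _), one_diag]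

theorem move_move {T : Over S} (v : T ⟶ X ⊗ Z) (x y : T ⟶ X) (h : x ≫ f = (v ≫ fst X Z) ≫ f)
    (h' : y ≫ f = (move a b hsq v x h ≫ fst X Z) ≫ f) (h'' : y ≫ f = (v ≫ fst X Z) ≫ f) :
    move a b hsq (move a b hsq v x h) y h' = move a b hsq v y h'' := by
  obtain ⟨g, hg, -⟩ := existsUnique_translator a hsq x (v ≫ fst X Z) h
  obtain ⟨k, hk, -⟩ := existsUnique_translator a hsq y (move a b hsq v x h ≫ fst X Z) h'
  rw [move_eq a b hsq v y h'' (k * g) (by
    rw [Groth.L25.Actions.mul_act, hg, ← move_fst a b hsq v x h]; exact hk),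
    move_eq a b hsq _ y h' k hk, mul_diag, move_eq a b hsq v x h g hg]

/-- A point as a point over the base. -/
abbrev hv {T : Scheme.{u}} (v : T ⟶ (X ⊗ Z).left) : Over.mk (v ≫ (X ⊗ Z).hom) ⟶ X ⊗ Z := Over.homMk v rfl

theorem hom_eq_of {T : Scheme.{u}} (v : T ⟶ (X ⊗ Z).left) (x : T ⟶ X.left)
    (h : v ≫ (fst X Z).left ≫ f.left = x ≫ f.left) : x ≫ X.hom = v ≫ (X ⊗ Z).hom := by
  have e : f.left ≫ Y.hom = X.hom := Over.w f
  have e' : (fst X Z).left ≫ X.hom = (X ⊗ Z).hom := Over.w _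
  rw [← e', ← e, ← Category.assoc x, ← h, Category.assoc, Category.assoc]

theorem cond {T : Scheme.{u}} (v : T ⟶ (X ⊗ Z).left) (x : T ⟶ X.left)
    (h : v ≫ (fst X Z).left ≫ f.left = x ≫ f.left) :
    (Over.homMk x (hom_eq_of v x h) : Over.mk (v ≫ (X ⊗ Z).hom) ⟶ X) ≫ f = (hv v ≫ fst X Z) ≫ f :=
  Over.OverMorphism.ext (h.symm.trans (Category.assoc _ _ _).symm)

/-- The action on points of schemes. -/
def act' {T : Scheme.{u}} (v : T ⟶ (X ⊗ Z).left) (x : T ⟶ X.left)
    (h : v ≫ (fst X Z).left ≫ f.left = x ≫ f.left) : T ⟶ (X ⊗ Z).left :=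
  (move a b hsq (hv v) (Over.homMk x (hom_eq_of v x h)) (cond v x h)).left

theorem act'_eq {T : Over S} (v : T ⟶ X ⊗ Z) (x : T ⟶ X) (h : v.left ≫ (fst X Z).left ≫ f.left = x.left ≫ f.left)
    (h' : x ≫ f = (v ≫ fst X Z) ≫ f) : act' a b hsq v.left x.left h = (move a b hsq v x h').left := by
  let j : Over.mk (v.left ≫ (X ⊗ Z).hom) ⟶ T := Over.homMk (𝟙 _) ((Category.id_comp _).trans (Over.w v).symm)
  have e1 : hv v.left = j ≫ v := Over.OverMorphism.ext (Category.id_comp _).symm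
  have e2 : (Over.homMk x.left (hom_eq_of v.left x.left h) : Over.mk (v.left ≫ (X ⊗ Z).hom) ⟶ X) = j ≫ x :=
    Over.OverMorphism.ext (Category.id_comp _).symm
  have key : ∀ (v' : Over.mk (v.left ≫ (X ⊗ Z).hom) ⟶ X ⊗ Z) (x' : Over.mk (v.left ≫ (X ⊗ Z).hom) ⟶ X) (p),
      v' = j ≫ v → x' = j ≫ x → move a b hsq v' x' p = j ≫ move a b hsq v x h' := by
    rintro v' x' p rfl rfl
    exact move_natural a b hsq j v x h' p
  exact (congrArg CommaMorphism.left (key _ _ _ e1 e2)).trans (Category.id_comp _)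

/-- The descent datum of the associated bundle. -/
def pre : Groth.L20.SchDesc.Pre f.left (fst X Z).left where
  act v x h := act' a b hsq v x h
  hom v x h := congrArg CommaMorphism.left (move_fst a b hsq (hv v) _ (cond v x h))
  natural {T T'} j v x h h' := by
    let J : Over.mk (j ≫ v ≫ (X ⊗ Z).hom) ⟶ Over.mk (v ≫ (X ⊗ Z).hom) := Over.homMk j rfl
    let x' : Over.mk (v ≫ (X ⊗ Z).hom) ⟶ X := Over.homMk x (hom_eq_of v x h)
    have hc : (J ≫ x') ≫ f = ((J ≫ hv v) ≫ fst X Z) ≫ f := by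
      rw [Category.assoc, Category.assoc J (hv v), Category.assoc]
      exact congrArg (J ≫ ·) (cond v x h)
    exact (act'_eq a b hsq (J ≫ hv v) (J ≫ x') h' hc).trans
      (congrArg CommaMorphism.left (move_natural a b hsq J (hv v) x' (cond v x h) hc))
  self {T} v h := by
    refine (act'_eq a b hsq (hv v) (hv v ≫ fst X Z) h rfl).trans ?_
    rw [move_self a b hsq (hv v) rfl]
    rfl
  comp {T} v x y h h' h'' := by
    let x' : Over.mk (v ≫ (X ⊗ Z).hom) ⟶ X := Over.homMk x (hom_eq_of v x h)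
    let y' : Over.mk (v ≫ (X ⊗ Z).hom) ⟶ X := Over.homMk y (hom_eq_of v y h'')
    have hc : y' ≫ f = (move a b hsq (hv v) x' (cond v x h) ≫ fst X Z) ≫ f := by
      rw [move_fst]
      exact Over.OverMorphism.ext (h''.symm.trans h)
    exact (act'_eq a b hsq (move a b hsq (hv v) x' (cond v x h)) y' h' hc).trans
      (congrArg CommaMorphism.left (move_move a b hsq (hv v) x' y' _ hc (cond v y h'')))

/-- The associated bundle with affine fibre exists. -/
theorem exists_bundle [IsAffineHom Z.hom] [Flat f.left] [Surjective f.left] [QuasiCompact f.left]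
    (hsq' : IsPullback a.act.left (snd G X).left f.left f.left) :
    ∃ (W : Over S) (φ : X ⊗ Z ⟶ W) (ψ : W ⟶ Y),
      diag a b ≫ φ = snd G (X ⊗ Z) ≫ φ ∧ IsPullback (fst X Z).left φ.left f.left ψ.left := by
  haveI : IsAffineHom (fst X Z).left := by
    have e : (fst X Z).left = pullback.fst X.hom Z.hom := by simp
    rw [e]
    exact MorphismProperty.pullback_fst _ _ inferInstance
  obtain ⟨d⟩ := Groth.L20.SchDesc.effective_of_isAffineHom (pre a b hsq')
  let W : Over S := Over.mk (d.a ≫ Y.hom)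
  have e1 : f.left ≫ Y.hom = X.hom := Over.w f
  have e2 : (fst X Z).left ≫ X.hom = (X ⊗ Z).hom := Over.w _
  let φ : X ⊗ Z ⟶ W := Over.homMk d.q (by
    show d.q ≫ d.a ≫ Y.hom = (X ⊗ Z).hom
    rw [← Category.assoc, ← d.isPullback.w, Category.assoc, e1, e2])
  let ψ : W ⟶ Y := Over.homMk d.a rfl
  refine ⟨W, φ, ψ, Over.OverMorphism.ext ?_, d.isPullback⟩
  let x : G ⊗ (X ⊗ Z) ⟶ X := diag a b ≫ fst X Z
  have hx : lift (fst G (X ⊗ Z)) (snd G (X ⊗ Z) ≫ fst X Z) ≫ a.act = x := by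
    show _ = diag a b ≫ fst X Z
    rw [diag, lift_fst]
    congr 1
  have hc : x ≫ f = (snd G (X ⊗ Z) ≫ fst X Z) ≫ f := by
    rw [← hx, Category.assoc, show a.act ≫ f = snd G X ≫ f from Over.OverMorphism.ext hsq'.w, ← Category.assoc,
      lift_snd]
  have hm : move a b hsq' (snd G (X ⊗ Z)) x hc = diag a b := by
    rw [move_eq a b hsq' _ x hc (fst G (X ⊗ Z)) hx, lift_fst_snd, Category.id_comp]
  have h : (snd G (X ⊗ Z)).left ≫ (fst X Z).left ≫ f.left = x.left ≫ f.left :=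
    ((congrArg CommaMorphism.left hc).trans (Category.assoc _ _ _)).symm
  have := d.comm (snd G (X ⊗ Z)).left x.left h
  refine Eq.trans (congrArg (· ≫ d.q) ?_) this
  exact ((act'_eq a b hsq' (snd G (X ⊗ Z)) x h hc).trans (congrArg CommaMorphism.left hm)).symm

end Groth.L19.AlgGrpBasic.Assoc
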