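import Groth.Agent.L25.Cocycle.Glue
import Groth.Agent.L19.AlgGrpBasic.Points
import Groth.Prelude.Def_VecGrp

/-!
# Natural transformations on affine points are morphisms
-/

set_option autoImplicit false
set_option linter.style.haveILetI false
set_option backward.isDefEq.respectTransparency.types false
set_option backward.isDefEq.respectTransparency false

universe u

open CategoryTheory CategoryTheory.Limits MonoidalCategory CartesianMonoidalCategory MonObj AlgebraicGeometry

noncomputable section

namespace Groth.L19.AlgGrpBasic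

variable {R : Type u} [CommRing R] {G T : Over (Spec (CommRingCat.of R))}

theorem exists_point_of_specMap {B : CommRingCat.{u}} (c : Spec B ⟶ G.left) :
    ∃ (_ : Algebra R B) (g : VecGrp.pt R B ⟶ G), g.left = c := by
  obtain ⟨θ, hθ⟩ := Spec.map_surjective (c ≫ G.hom)
  let θ' : R →+* B := θ.hom
  letI := θ'.toAlgebra
  exact ⟨inferInstance, Over.homMk c hθ.symm, rfl⟩

/-- Morphisms agreeing on affine points are equal. -/
theorem hom_ext_affinePoints (a b : G ⟶ T)
    (h : ∀ (B : Type u) [CommRing B] [Algebra R B] (g : VecGrp.pt R B ⟶ G), g ≫ a = g ≫ b) : a = b := by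
  refine Over.OverMorphism.ext (Scheme.Cover.hom_ext G.left.affineCover _ _ fun i => ?_)
  obtain ⟨_, g, hg⟩ := exists_point_of_specMap (G := G) (G.left.affineCover.f i)
  rw [← hg]
  exact congrArg CommaMorphism.left (h _ g)

/-- A rule sending affine points to affine points naturally comes from a morphism. -/
theorem exists_hom_of_natural
    (F : ∀ (B : Type u) [CommRing B] [Algebra R B], (VecGrp.pt R B ⟶ G) → (VecGrp.pt R B ⟶ T))
    (nat : ∀ {B B' : Type u} [CommRing B] [Algebra R B] [CommRing B'] [Algebra R B'] (φ : B →ₐ[R] B')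
      (g : VecGrp.pt R B ⟶ G), VecGrp.ptMap φ ≫ F B g = F B' (VecGrp.ptMap φ ≫ g)) :
    ∃ f : G ⟶ T, ∀ (B : Type u) [CommRing B] [Algebra R B] (g : VecGrp.pt R B ⟶ G), g ≫ f = F B g := by
  let θ : PUnit.{u + 1} → (R →+* R) := fun _ => RingHom.id R
  have hw : ∀ (i : PUnit.{u + 1}) (B : Type u) [CommRing B] (x : Groth.L25.Cocycle.Glue.Pts θ G.hom i B),
      x.1.2 ≫ G.hom = Spec.map (CommRingCat.ofHom x.1.1) := fun i B _ x => by
    rw [x.2]
    exact (Spec.map_comp _ _).symm
  let val : ∀ (i : PUnit.{u + 1}) (B : Type u) [CommRing B],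
      Groth.L25.Cocycle.Glue.Pts θ G.hom i B → (Spec (CommRingCat.of B) ⟶ T.left) := fun i B _ x =>
    letI := x.1.1.toAlgebra
    (F B (Over.homMk x.1.2 (hw i B x))).left
  let V : Groth.L25.Cocycle.Glue.Values θ G.hom T.left :=
    { val := val
      nat := fun i B B' _ _ b x => by
        letI := x.1.1.toAlgebra
        letI := (b.comp x.1.1).toAlgebra
        let φ : B →ₐ[R] B' := { b with commutes' := fun r => rfl }
        exact congrArg CommaMorphism.left (nat φ (Over.homMk x.1.2 (hw i B x)))
      compat := fun i k B _ x y h => by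
        obtain rfl : i = k := rfl
        have h1 : x.1.1 = y.1.1 := by
          have e := (hw i B x).symm.trans ((congrArg (· ≫ G.hom) h).trans (hw i B y))
          exact congrArg CommRingCat.Hom.hom (Spec.map_injective e)
        obtain rfl : x = y := Subtype.ext (Prod.ext h1 h)
        rfl }
  haveI hiso : IsIso (Spec.map (CommRingCat.ofHom (RingHom.id R))) := by
    rw [show CommRingCat.ofHom (RingHom.id R) = 𝟙 _ from rfl, Spec.map_id]; infer_instance
  obtain ⟨φ, hφ⟩ := Groth.L25.Cocycle.Glue.exists_desc (θ := θ) (p := G.hom)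
    (fun _ => inferInstanceAs (Flat (Spec.map (CommRingCat.ofHom (RingHom.id R)))))
    (fun x => ⟨⟨⟩, (Spec.map (CommRingCat.ofHom (RingHom.id R))).surjective x⟩) V
  have key : ∀ (B : Type u) [CommRing B] [inst : Algebra R B] (g : VecGrp.pt R B ⟶ G), g.left ≫ φ = (F B g).left := by
    intro B _ inst g
    have hx : g.left ≫ G.hom = Spec.map (CommRingCat.ofHom (algebraMap R B)) ≫
        Spec.map (CommRingCat.ofHom (θ ⟨⟩)) := by
      rw [Over.w g, ← Spec.map_comp]
      rfl
    refine (hφ ⟨⟩ B ⟨(algebraMap R B, g.left), hx⟩).trans ?_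
    have aux : ∀ (i : Algebra R B) (_ : i = inst) (hi : g.left ≫ G.hom = Spec.map (CommRingCat.ofHom (@algebraMap R B _ _ i))),
        (@F B _ i (Over.homMk g.left hi)).left = (@F B _ inst g).left := by
      rintro i rfl hi
      rfl
    exact aux (algebraMap R B).toAlgebra (Algebra.algebra_ext _ _ fun _ => rfl) (Over.w g)
  have hφw : φ ≫ T.hom = G.hom := by
    refine Scheme.Cover.hom_ext G.left.affineCover _ _ fun i => ?_
    obtain ⟨_, g, hg⟩ := exists_point_of_specMap (G := G) (G.left.affineCover.f i)
    rw [← hg, ← Category.assoc, key _ g, Over.w, Over.w]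
  exact ⟨Over.homMk φ hφw, fun B _ _ g => Over.OverMorphism.ext (key B g)⟩

/-- A morphism multiplicative on affine points is a homomorphism. -/
theorem isMonHom_of_affinePoints [GrpObj G] [GrpObj T] (f : G ⟶ T)
    (h : ∀ (B : Type u) [CommRing B] [Algebra R B] (a b : VecGrp.pt R B ⟶ G), (a * b) ≫ f = (a ≫ f) * (b ≫ f)) :
    IsMonHom f := by
  refine isMonHom_of_points' f fun X a b => hom_ext_affinePoints _ _ fun B _ _ x => ?_
  rw [← Category.assoc, MonObj.comp_mul, h, MonObj.comp_mul, Category.assoc, Category.assoc]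

end Groth.L19.AlgGrpBasic
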