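import Groth.Agent.L19.AlgGrpBasic.OpenTrans

/-!
# Open subgroup schemes have finite index, and dense orbits
-/

set_option autoImplicit false
set_option linter.style.haveILetI false
set_option backward.isDefEq.respectTransparency.types false

universe u

open CategoryTheory CategoryTheory.Limits MonoidalCategory CartesianMonoidalCategory MonObj AlgebraicGeometry
open Topology

namespace Groth.L19.AlgGrpBasic

variable {k : Type u} [Field k] {K : Type u} [Field K] [Algebra k K] [IsAlgClosed K]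
  {G G0 X : Over (Spec (CommRingCat.of k))} [GrpObj G] [GrpObj G0]
  [LocallyOfFiniteType G.hom] [QuasiCompact G.hom] (i : G0 ⟶ G) [IsMonHom i] [IsOpenImmersion i.left]

omit [GrpObj G] [IsAlgClosed K] [QuasiCompact G.hom] in
theorem jacobsonSpace_bc : JacobsonSpace (G ⊗ gT k K).left :=
  LocallyOfFiniteType.jacobsonSpace (Y := Spec (CommRingCat.of K)) (pullback.snd G.hom (gT k K).hom)

omit [GrpObj G] [QuasiCompact G.hom] in
/-- A nonempty locally closed subset of the base change contains a rational point. -/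
theorem exists_section_mem {O : Set (G ⊗ gT k K).left} (hO : IsLocallyClosed O) (hne : O.Nonempty) :
    ∃ w : gT k K ⟶ G ⊗ gT k K, w ≫ snd _ _ = 𝟙 _ ∧ gpt w ∈ O := by
  obtain ⟨q, hq⟩ := hne
  haveI : LocallyOfFiniteType (snd G (gT k K)).left :=
    inferInstanceAs (LocallyOfFiniteType (pullback.snd G.hom (gT k K).hom))
  haveI : Subsingleton (gT k K).left := inferInstanceAs (Subsingleton (Spec (CommRingCat.of K)))
  exact exists_lift_gpt' (snd G (gT k K)) (𝟙 _) hO q hq (Subsingleton.elim _ _)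

variable (K) in
theorem exists_cosets : ∃ F : Finset (gT k K ⟶ G), ∀ g : gT k K ⟶ G, ∃ c ∈ F, ∃ h : gT k K ⟶ G0,
    g = c * (h ≫ i) := by
  classical
  haveI : LocallyOfFiniteType G0.hom := by rw [← Over.w i]; infer_instance
  let r : (gT k K ⟶ G) → (G ⊗ gT k K ⟶ G) := fun g => (snd G (gT k K) ≫ g)⁻¹ * fst G (gT k K)
  let O : (gT k K ⟶ G) → Set (G ⊗ gT k K).left := fun g => (r g).left ⁻¹' Set.range i.left
  have hO : ∀ g, IsOpen (O g) := fun g => i.left.isOpenEmbedding.isOpen_range.preimage (r g).left.continuous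
  have hr : ∀ (w : gT k K ⟶ G ⊗ gT k K) (g : gT k K ⟶ G), w ≫ snd _ _ = 𝟙 _ →
      w ≫ r g = g⁻¹ * (w ≫ fst _ _) := fun w g hw => by
    rw [MonObj.comp_mul, GrpObj.comp_inv, reassoc_of% hw]
  have hcov : (Set.univ : Set (G ⊗ gT k K).left) ⊆ ⋃ g, O g := by
    intro q _
    by_contra hq
    obtain ⟨w, hw, hwq⟩ := exists_section_mem (O := (⋃ g, O g)ᶜ)
      (isOpen_iUnion hO).isClosed_compl.isLocallyClosed ⟨q, hq⟩
    refine hwq (Set.mem_iUnion.2 ⟨w ≫ fst _ _, gpt (1 : gT k K ⟶ G0), ?_⟩)
    rw [← gpt_comp, ← gpt_comp, MonObj.one_comp, hr w _ hw, inv_mul_cancel]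
  haveI : QuasiCompact (pullback.snd G.hom (gT k K).hom) := inferInstance
  haveI : CompactSpace (G ⊗ gT k K).left :=
    QuasiCompact.compactSpace_of_compactSpace (Y := Spec (CommRingCat.of K)) (pullback.snd G.hom (gT k K).hom)
  obtain ⟨F, hF⟩ := isCompact_univ.elim_finite_subcover O hO hcov
  refine ⟨F, fun g => ?_⟩
  obtain ⟨c, hc, q, hq⟩ := Set.mem_iUnion₂.1 (hF (Set.mem_univ (gpt (lift g (𝟙 (gT k K))))))
  rw [← gpt_comp, hr _ _ (lift_snd _ _), lift_fst] at hq
  obtain ⟨h, hh, -⟩ := exists_lift_gpt i (c⁻¹ * g) isOpen_univ.isLocallyClosed q (Set.mem_univ q) hq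
  exact ⟨c, hc, h, by rw [hh, mul_inv_cancel_left]⟩

variable [LocallyOfFiniteType X.hom] [QuasiCompact X.hom] [GeometricallyIrreducible X.hom]
  (a : AlgGrp.Action G X) (a0 : AlgGrp.Action G0 X) (ha0 : a0.act = (i ▷ X) ≫ a.act)

omit [QuasiCompact X.hom] [QuasiCompact G.hom] [IsOpenImmersion i.left] [LocallyOfFiniteType G.hom] [IsMonHom i] [LocallyOfFiniteType X.hom] [GeometricallyIrreducible X.hom] in
include ha0 in
/-- The graph of the restriction of an action. -/
theorem graph_restrict : (i ▷ X) ≫ graph a = graph a0 := by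
  rw [comp_lift, whiskerRight_snd, ← ha0]

include ha0 in
/-- An open subgroup is transitive wherever the whole group is. -/
theorem TransOn.restrict {U : Set X.left} (hU : IsOpen U) (h : TransOn K a U) : TransOn K a0 U := by
  classical
  haveI : LocallyOfFiniteType G0.hom := by rw [← Over.w i]; infer_instance
  haveI : IsLocallyNoetherian G.left := LocallyOfFiniteType.isLocallyNoetherian G.hom
  haveI : QuasiCompact G0.hom := by rw [← Over.w i]; infer_instance
  intro x y hx hy
  let T := gT k K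
  let τ : (gT k K ⟶ G) → (X ⊗ T ⟶ X ⊗ T) := fun g => lift (lift (snd X T ≫ g) (fst X T) ≫ a.act) (snd X T)
  have hτ : ∀ (g : gT k K ⟶ G) (w : T ⟶ X ⊗ T), w ≫ snd _ _ = 𝟙 _ →
      w ≫ τ g = lift (lift g (w ≫ fst _ _) ≫ a.act) (𝟙 _) := fun g w hw => by
    rw [comp_lift, comp_lift_assoc, reassoc_of% hw, hw]
  let o : (T ⟶ X) → (G0 ⊗ T ⟶ X ⊗ T) := fun x => lift (lift (fst G0 T) (snd G0 T ≫ x) ≫ a0.act) (snd G0 T)
  haveI : IrreducibleSpace T.left := inferInstanceAs (IrreducibleSpace ↥(Spec (CommRingCat.of K)))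
  haveI := irreducibleSpace_tensor X T
  haveI hlX : LocallyOfFiniteType (snd X T).left :=
    inferInstanceAs (LocallyOfFiniteType (pullback.snd X.hom T.hom))
  haveI hlG : LocallyOfFiniteType (snd G0 T).left :=
    inferInstanceAs (LocallyOfFiniteType (pullback.snd G0.hom T.hom))
  haveI hqX : QuasiCompact (snd X T).left := inferInstanceAs (QuasiCompact (pullback.snd X.hom T.hom))
  haveI hqG : QuasiCompact (snd G0 T).left := inferInstanceAs (QuasiCompact (pullback.snd G0.hom T.hom))
  let pX : (X ⊗ T).left ⟶ Spec (CommRingCat.of K) := (snd X T).left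
  haveI : LocallyOfFiniteType pX := hlX
  haveI : QuasiCompact pX := hqX
  haveI : IsLocallyNoetherian (X ⊗ T).left := LocallyOfFiniteType.isLocallyNoetherian pX
  haveI : CompactSpace (X ⊗ T).left := QuasiCompact.compactSpace_of_compactSpace pX
  have ho : ∀ x : T ⟶ X, (o x).left ≫ (snd X T).left = (snd G0 T).left := fun x => by
    rw [← Over.comp_left, lift_snd]
  have hol : ∀ x : T ⟶ X, LocallyOfFiniteType (o x).left := fun x => by
    haveI : LocallyOfFiniteType ((o x).left ≫ (snd X T).left) := by rw [ho]; exact hlG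
    exact locallyOfFiniteType_of_comp (o x).left (snd X T).left
  have hdense : ∀ x : T ⟶ X, gpt x ∈ U → closure (Set.range (o x).left) = Set.univ := by
    intro x hx
    obtain ⟨F, hF⟩ := exists_cosets K i
    let Z : Set (X ⊗ T).left := ⋃ c ∈ F, (τ c⁻¹).left ⁻¹' closure (Set.range (o x).left)
    have hZ : IsClosed Z :=
      isClosed_biUnion_finset fun c _ => isClosed_closure.preimage (τ c⁻¹).left.continuous
    let UT : Set (X ⊗ T).left := (fst X T).left ⁻¹' U
    have hUT : IsOpen UT := hU.preimage (fst X T).left.continuous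
    have hsub : UT ⊆ Z := by
      by_contra hne
      obtain ⟨w, hw, hwU, hwZ⟩ := exists_section_mem (O := UT \ Z) (hUT.sdiff hZ).isLocallyClosed
        (Set.nonempty_of_not_subset hne)
      obtain ⟨g, hg⟩ := h x (w ≫ fst _ _) hx hwU
      obtain ⟨c, hc, g0, rfl⟩ := hF g
      refine hwZ (Set.mem_iUnion₂.2 ⟨c, hc, subset_closure ⟨gpt (lift g0 (𝟙 T)), ?_⟩⟩)
      rw [← gpt_comp, ← gpt_comp, hτ _ w hw]
      congr 1
      rw [← hg, Groth.L25.Actions.mul_act, Groth.L25.Actions.inv_act, comp_lift, comp_lift_assoc, lift_fst,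
        lift_snd_assoc, Category.id_comp, lift_snd, ha0, lift_whiskerRight_assoc]
    have hne : UT.Nonempty := ⟨gpt (lift x (𝟙 T)), by
      show gpt (lift x (𝟙 T) ≫ fst X T) ∈ U
      rw [lift_fst]; exact hx⟩
    have huniv : Z = Set.univ := hZ.closure_eq.symm.trans ((hUT.dense hne).mono hsub).closure_eq
    obtain ⟨c, -, hc⟩ := Set.mem_iUnion₂.1 (huniv.symm ▸ Set.mem_univ (genericPoint (X ⊗ T).left))
    have hall : (τ c⁻¹).left ⁻¹' closure (Set.range (o x).left) = Set.univ :=
      Set.eq_univ_iff_forall.2 fun z =>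
        (genericPoint_specializes z).mem_closed (isClosed_closure.preimage (τ c⁻¹).left.continuous) hc
    refine Set.eq_univ_iff_forall.2 fun z => ?_
    have hinv : τ c ≫ τ c⁻¹ = 𝟙 _ := by
      apply CartesianMonoidalCategory.hom_ext
      · simp only [τ, comp_lift, lift_fst, Category.id_comp, comp_lift_assoc, lift_snd_assoc]
        rw [GrpObj.comp_inv, Groth.L25.Actions.inv_act]
      · simp [τ]
    have := Set.eq_univ_iff_forall.1 hall ((τ c).left z)
    rw [Set.mem_preimage, ← Scheme.Hom.comp_apply, ← Over.comp_left, hinv] at this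
    exact this
  have hcon : ∀ x : T ⟶ X, IsConstructible (Set.range (o x).left) := by
    intro x
    haveI := hol x
    haveI : QuasiCompact ((o x).left ≫ (snd X T).left) := by rw [ho]; exact hqG
    haveI : QuasiSeparated (snd X T).left := by
      haveI : QuasiSeparatedSpace (X ⊗ T).left := inferInstance
      exact (inferInstance : QuasiSeparated pX)
    haveI : QuasiCompact (o x).left := QuasiCompact.of_comp (o x).left (snd X T).left
    rw [← Set.image_univ]
    exact Scheme.Hom.isConstructible_image (o x).left .univ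
  obtain ⟨W, hW, hWd, hWs⟩ := exists_open_dense_of_constructible (hcon x)
  obtain ⟨W', hW', hWd', hWs'⟩ := exists_open_dense_of_constructible (hcon y)
  rw [hdense x hx, Set.inter_univ] at hWd hWs
  rw [hdense y hy, Set.inter_univ] at hWd' hWs'
  have hd : Dense (W ∩ W') := (dense_iff_closure_eq.2 (Set.univ_subset_iff.1 hWd)).inter_of_isOpen_left
    (dense_iff_closure_eq.2 (Set.univ_subset_iff.1 hWd')) hW
  obtain ⟨w, hw, hwW, hwW'⟩ := exists_section_mem (O := W ∩ W') (hW.inter hW').isLocallyClosed hd.nonempty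
  have hsec : ∀ x : T ⟶ X, gpt w ∈ Set.range (o x).left →
      ∃ g : T ⟶ G0, lift g x ≫ a0.act = w ≫ fst _ _ := by
    rintro x ⟨q, hq⟩
    haveI := hol x
    obtain ⟨w0, hw0, -⟩ := exists_lift_gpt' (o x) w isOpen_univ.isLocallyClosed q (Set.mem_univ q) hq
    have h2 : w0 ≫ snd G0 T = 𝟙 _ := by rw [← hw, ← hw0, Category.assoc, lift_snd]
    refine ⟨w0 ≫ fst _ _, ?_⟩
    rw [← hw0, Category.assoc, lift_fst, comp_lift_assoc, reassoc_of% h2]
  obtain ⟨g, hg⟩ := hsec x (hWs hwW)
  obtain ⟨g', hg'⟩ := hsec y (hWs' hwW')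
  refine ⟨g'⁻¹ * g, ?_⟩
  rw [Groth.L25.Actions.mul_act, hg, ← hg', Groth.L25.Actions.inv_act]

end Groth.L19.AlgGrpBasic
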