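import Groth.Agent.L15.MuGL.Pts
import Groth.Agent.S16480
import Groth.Prelude.Def_FrameBundle

/-!
# The prelude's `GL_{n,k}` is the spectrum of the coordinate Hopf algebra; affine groups are linear
-/

set_option autoImplicit false
universe u

open CategoryTheory CategoryTheory.Limits MonoidalCategory CartesianMonoidalCategory MonObj GrpObj
open AlgebraicGeometry Opposite
open Groth.L15.MuGL

set_option backward.isDefEq.respectTransparency.types false
set_option linter.style.haveILetI false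

noncomputable section

namespace Groth.L19.AlgGrpBasic

variable {k : Type u} [CommRing k] {m : ℕ}

/-- `GL_{n,k}` has matrix points. -/
theorem exists_glPts_GLn (k : Type u) [CommRing k] (m : ℕ) :
    Nonempty (GLPts k m (FrB.GLn m (Spec (CommRingCat.of k)))) := by
  letI : Algebra (ULift.{u} ℤ) k :=
    ((Int.castRingHom k).comp (ULift.ringEquiv : ULift.{u} ℤ ≃+* ℤ).toRingHom).toAlgebra
  have L := (glPtsSp (ULift.{u} ℤ) m).bc (S := k)
  show Nonempty (GLPts k m (Red.bc _ (FrB.GLZ m)))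
  convert Nonempty.intro L using 4
  all_goals exact specULiftZIsTerminal.hom_ext _ _

/-- A group with matrix points is `Spec` of the coordinate Hopf algebra of `GL_m`. -/
theorem exists_iso_of_glPts {G : Over (Spec (CommRingCat.of k))} [GrpObj G] [IsAffine G.left] (L : GLPts k m G) :
    ∃ e : CoactBr.sp k (CoordGrp.GLn m k) ⟶ G, IsIso e ∧ IsMonHom e := by
  let L₀ := glPtsSp k m
  let U := (L₀.pt (CoordGrp.GLn m k)).symm (𝟙 _)
  let e := L.pt (CoordGrp.GLn m k) U
  have key : ∀ (B : Type u) [CommRing B] [Algebra k B] (t : CoactBr.sp k B ⟶ CoactBr.sp k (CoordGrp.GLn m k)),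
      t ≫ e = L.pt B ((L₀.pt B).symm t) := by
    intro B _ _ t
    obtain ⟨φ, rfl⟩ := pt_surjective k t
    refine (L.natural φ U).trans (congrArg (L.pt B) ?_)
    apply (L₀.pt B).injective
    rw [MulEquiv.apply_symm_apply, ← L₀.natural φ U]
    simp only [U, MulEquiv.apply_symm_apply, Category.comp_id]
  obtain ⟨A, _, _, g, _⟩ := exists_isIso_sp G
  let t := L₀.pt A ((L.pt A).symm g)
  have ht : t ≫ e = g := by
    rw [key]; simp only [t, MulEquiv.symm_apply_apply, MulEquiv.apply_symm_apply]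
  haveI hiso : IsIso e := by
    refine ⟨inv g ≫ t, ?_, by rw [Category.assoc, ht, IsIso.inv_hom_id]⟩
    apply (L₀.pt _).symm.injective
    apply (L.pt _).injective
    rw [← key, ← key, Category.assoc, Category.assoc, ht, IsIso.inv_hom_id, Category.comp_id, Category.id_comp]
  have hmul : ∀ (B : Type u) [CommRing B] [Algebra k B] (a b : CoactBr.sp k B ⟶ CoactBr.sp k (CoordGrp.GLn m k)),
      (a * b) ≫ e = (a ≫ e) * (b ≫ e) := fun B _ _ a b => by
    rw [key, key, key, map_mul, map_mul]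
  have hmul' : μ[CoactBr.sp k (CoordGrp.GLn m k)] ≫ e = (e ⊗ₘ e) ≫ μ[G] := by
    let W := CoactBr.sp k (CoordGrp.GLn m k) ⊗ CoactBr.sp k (CoordGrp.GLn m k)
    haveI : IsAffine (CoactBr.sp k (CoordGrp.GLn m k)).left :=
      inferInstanceAs (IsAffine (Spec (CommRingCat.of (CoordGrp.GLn m k))))
    haveI : IsAffine W.left :=
      inferInstanceAs (IsAffine (pullback (CoactBr.sp k (CoordGrp.GLn m k)).hom (CoactBr.sp k (CoordGrp.GLn m k)).hom))
    obtain ⟨B, _, _, w, _⟩ := exists_isIso_sp W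
    have h1 : (e ⊗ₘ e) ≫ μ[G] = (fst _ _ ≫ e) * (snd _ _ ≫ e) := by
      rw [Hom.mul_def, ← lift_fst_comp_snd_comp]
    have h2 : μ[CoactBr.sp k (CoordGrp.GLn m k)] = fst _ _ * snd _ _ := by
      rw [Hom.mul_def, lift_fst_snd, Category.id_comp]
    rw [h1, h2, ← cancel_epi w, ← Category.assoc, MonObj.comp_mul, hmul]
    simp only [MonObj.comp_mul, Category.assoc]
  refine ⟨e, hiso, ⟨?_, hmul'⟩⟩
  haveI := isIso_toUnit_self k
  rw [← cancel_epi (toUnit (CoactBr.sp k k)), ← Category.assoc]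
  let o : CoactBr.sp k k ⟶ CoactBr.sp k (CoordGrp.GLn m k) := toUnit _ ≫ η
  change o ≫ e = toUnit _ ≫ η[G]
  have ho : o = 1 := (Hom.one_def).symm
  rw [key, ho, map_one, map_one, Hom.one_def]

/-- Every affine group of finite type over a field embeds in some `GL_{n,k}` by a homomorphism. -/
theorem exists_mono_GLn {k : Type u} [Field k] (Q : Over (Spec (CommRingCat.of k))) [GrpObj Q] [IsAffine Q.left]
    [LocallyOfFiniteType Q.hom] :
    ∃ (n : ℕ) (ρ : Q ⟶ FrB.GLn n (Spec (CommRingCat.of k))), IsMonHom ρ ∧ Mono ρ := by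
  obtain ⟨A, ⟨eQ⟩⟩ := (essImage_hopfSpec (G := Grp.mk Q)).mpr ‹IsAffine Q.left›
  let H := A.unop
  let φ : CoactBr.sp k H ⟶ Q := eQ.hom.hom.hom
  let ψ : Q ⟶ CoactBr.sp k H := eQ.inv.hom.hom
  have h1 : φ ≫ ψ = 𝟙 _ := congrArg (fun f => f.hom.hom) eQ.hom_inv_id
  have h2 : ψ ≫ φ = 𝟙 Q := congrArg (fun f => f.hom.hom) eQ.inv_hom_id
  haveI : IsMonHom ψ := eQ.inv.hom.isMonHom_hom
  haveI : IsIso ψ := ⟨φ, h2, h1⟩
  haveI : IsIso φ := ⟨ψ, h1, h2⟩
  haveI : IsIso φ.left := inferInstanceAs (IsIso ((Over.forget _).map φ))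
  haveI hft : Algebra.FiniteType k H := by
    have h : LocallyOfFiniteType (CoactBr.sp k H).hom := by
      rw [← Over.w φ]; infer_instance
    change LocallyOfFiniteType (Spec.map (CommRingCat.ofHom (algebraMap k H))) at h
    rw [HasRingHomProperty.Spec_iff (P := @LocallyOfFiniteType), CommRingCat.hom_ofHom,
      RingHom.finiteType_algebraMap] at h
    exact h
  obtain ⟨n, π, hπ⟩ := Groth.Agent.S16480.result k H
  let Φ := (hopfSpec (CommRingCat.of k)).map (CommHopfAlgCat.ofHom π).op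
  let p : CoactBr.sp k H ⟶ CoactBr.sp k (CoordGrp.GLn n k) := Φ.hom.hom
  haveI : IsMonHom p := Φ.hom.isMonHom_hom
  haveI : IsClosedImmersion p.left :=
    IsClosedImmersion.spec_of_surjective (CommRingCat.ofHom (π : CoordGrp.GLn n k →+* H)) hπ
  haveI : Mono p := Over.mono_of_mono_left p
  obtain ⟨L⟩ := exists_glPts_GLn k n
  haveI : IsAffine (FrB.GLZ.{u} n).left := inferInstanceAs (IsAffine (Spec _))
  haveI : IsAffine (FrB.GLn n (Spec (CommRingCat.of k))).left :=
    inferInstanceAs (IsAffine (pullback (FrB.GLZ n).hom _))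
  obtain ⟨e, _, _⟩ := exists_iso_of_glPts L
  exact ⟨n, ψ ≫ p ≫ e, inferInstance, inferInstance⟩

end Groth.L19.AlgGrpBasic
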