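import Groth.Agent.L19.AlgGrpBasic.SolvableGood
import Groth.Agent.L08.Borel.Nilp
import Groth.Agent.L24.TorusField.SplitTriv
import Groth.Agent.L21.Curve.DVR
import Groth.Agent.L25.GeomIrred
import Groth.Agent.L25.ConnIrred
import Groth.Agent.L26.AV.GroupSep
import Groth.Agent.L08.Borel.GenCartan
import Groth.Agent.L08.Borel.GenNilp
import Groth.Agent.L08.Borel.Borels
import Groth.Agent.L08.Borel.Quot
import Mathlib.AlgebraicGeometry.Morphisms.Finite
import Groth.Agent.L08.AbelianGrp
import Mathlib.AlgebraicGeometry.SpreadingOut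
import Mathlib.AlgebraicGeometry.Stalk
import Mathlib.AlgebraicGeometry.FunctionField

/-!
# Generic sections of torsors under connected solvable linear groups
-/

set_option autoImplicit false
set_option linter.style.haveILetI false
set_option linter.unusedSectionVars false
set_option backward.isDefEq.respectTransparency.types false

universe u

open CategoryTheory CategoryTheory.Limits MonoidalCategory CartesianMonoidalCategory MonObj GrpObj AlgebraicGeometry
open scoped TensorProduct
open Groth.L27.Torsor (spMap)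

noncomputable section

namespace Groth.L19.AlgGrpBasic.SplitH90

variable {k : Type u} [Field k] [IsAlgClosed k]

/-- Connected solvable linear groups are good. -/
theorem good_of_solvable (G : Over (Spec (CommRingCat.of k))) [GrpObj G] [IsAffine G.left] [Smooth G.hom]
    [ConnectedSpace G.left] (hsol : Red.IsSolvableGrp G) : Good G := by
  obtain ⟨A, _, _, hft, hred, hconn, hsolv, ⟨eG⟩⟩ := Groth.L08.Borel.exists_hopf_data hsol
  haveI := hft; haveI := hred; haveI := hsolv
  haveI : IsDomain A := by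
    haveI : (⊥ : Ideal A).IsPrime := by
      have hP := Groth.L08.KrullHopf.nilradical_isPrime k (A := A) hconn
      rwa [nilradical_eq_zero A] at hP
    exact IsDomain.of_bot_isPrime _
  haveI : IsMonHom eG.hom.hom.hom := eG.hom.hom.isMonHom_hom
  haveI : IsIso eG.hom.hom.hom :=
    ⟨eG.inv.hom.hom, congrArg (fun f => f.hom.hom) eG.hom_inv_id, congrArg (fun f => f.hom.hom) eG.inv_hom_id⟩
  exact (good_hopf_solvable A).of_iso eG.hom.hom.hom

/-- Connected commutative linear groups are good. -/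
theorem good_of_comm (G : Over (Spec (CommRingCat.of k))) [GrpObj G] [IsCommMonObj G] [IsAffine G.left] [Smooth G.hom]
    [ConnectedSpace G.left] : Good G := by
  refine good_of_solvable G ⟨1, fun X => ?_⟩
  rw [derivedSeries_one, commutator_eq_bot_iff_center_eq_top, eq_top_iff]
  exact fun g _ => Subgroup.mem_center_iff.2 fun h => mul_comm h g

/-- A point over the function field spreads out to a section over a nonempty open. -/
theorem exists_section_of_generic {X Y : Scheme.{u}} [IsIntegral Y] (π : X ⟶ Y) [LocallyOfFiniteType π]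
    (p : Spec Y.functionField ⟶ X) (hp : p ≫ π = Y.fromSpecStalk (genericPoint Y)) :
    ∃ U : Y.Opens, (U : Set ↥Y).Nonempty ∧ ∃ s : (U : Scheme.{u}) ⟶ X, s ≫ π = U.ι := by
  obtain ⟨U, hU, f, -, hf⟩ := spread_out_of_isGermInjective' (𝟙 Y) π (x := genericPoint Y) p
    (by rw [hp, Category.comp_id])
  exact ⟨U, ⟨_, hU⟩, f, by rw [hf, Category.comp_id]⟩

/-- A torsor under a connected solvable linear group over an integral base has a generic section. -/
theorem exists_generic_section {L : Over (Spec (CommRingCat.of k))} [GrpObj L] (hL : Good L)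
    {X Y : Scheme.{u}} (qY : Y ⟶ Spec (CommRingCat.of k)) [IsIntegral Y]
    (π : X ⟶ Y) [Surjective π] [LocallyOfFiniteType π]
    (a : AlgGrp.Action (Red.bc qY L) (Over.mk π))
    (htors : IsIso (lift a.act (snd (Red.bc qY L) (Over.mk π)))) :
    ∃ U : Y.Opens, (U : Set ↥Y).Nonempty ∧ ∃ s : (U : Scheme.{u}) ⟶ X, s ≫ π = U.ι := by
  let K : Type u := Y.functionField
  let g : Spec (CommRingCat.of K) ⟶ Y := Y.fromSpecStalk (genericPoint Y)
  haveI : Surjective (toUnit (Over.mk π)).left := by
    rw [Over.toUnit_left]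
    exact ‹Surjective π›
  obtain ⟨L', _, _, φ, y, -⟩ := exists_field_lift g (toUnit (Over.mk π))
    (toUnit (Groth.L27.Torsor.sp (A := CommRingCat.of K) g K))
  obtain ⟨s⟩ := (hL.bc qY).exists_point a htors g y
  refine exists_section_of_generic π s.left ?_
  refine (Over.w s).trans ?_
  show Spec.map (CommRingCat.ofHom (algebraMap K K)) ≫ g = g
  rw [Algebra.algebraMap_self]
  exact (congrArg (· ≫ g) (Spec.map_id _)).trans (Category.id_comp g)

/-- A homomorphism onto a variety has a generic section, if it has points over a field extension of the function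
field whose cochain lies in a good subgroup. -/
theorem exists_open_section {B G A Z : Over (Spec (CommRingCat.of k))} [GrpObj B] [GrpObj G] [GrpObj A]
    [IsIntegral A.left] [LocallyOfFiniteType G.hom] (hB : Good B) (i : B ⟶ G) [IsMonHom i] [Mono i]
    (α : G ⟶ A) [IsMonHom α] (hi : i ≫ α = 1) (j : Z ⟶ G) [Surjective (j ≫ α).left]
    (hker : ∀ (T : Over (Spec (CommRingCat.of k))) (a b : T ⟶ Z), a ≫ j ≫ α = b ≫ j ≫ α →
      ∃ x : T ⟶ B, x ≫ i = (a ≫ j) * (b ≫ j)⁻¹) :
    ∃ U : A.left.Opens, (U : Set ↥A.left).Nonempty ∧ ∃ s : (U : Scheme.{u}) ⟶ G.left, s ≫ α.left = U.ι := by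
  let K : Type u := A.left.functionField
  let g₀ : Spec (CommRingCat.of K) ⟶ A.left := A.left.fromSpecStalk (genericPoint A.left)
  let g : Spec (CommRingCat.of K) ⟶ Spec (CommRingCat.of k) := g₀ ≫ A.hom
  have hid : Spec.map (CommRingCat.ofHom (algebraMap (CommRingCat.of K) K)) = 𝟙 (Spec (CommRingCat.of K)) := by
    show Spec.map (CommRingCat.ofHom (algebraMap K K)) = _
    rw [Algebra.algebraMap_self]
    exact Spec.map_id _
  let ξ : Groth.L27.Torsor.sp (A := CommRingCat.of K) g K ⟶ A := Over.homMk g₀ (by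
    exact (Category.id_comp g).symm.trans (congrArg (· ≫ g) hid.symm))
  obtain ⟨L, _, _, φ, z, hz⟩ := exists_field_lift g (j ≫ α) ξ
  let l : L →ₐ[K] L ⊗[K] L := Algebra.TensorProduct.includeLeft
  let r : L →ₐ[K] L ⊗[K] L := Algebra.TensorProduct.includeRight
  obtain ⟨h, hh⟩ := hker _ (spMap g r ≫ z) (spMap g l ≫ z) (by
    rw [Category.assoc, Category.assoc, hz, ← Category.assoc, ← Category.assoc, Groth.L27.Torsor.spMap_comp,
      Groth.L27.Torsor.spMap_comp]
    exact congrArg (fun m => spMap g m ≫ ξ) (Subsingleton.elim _ _))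
  obtain ⟨s, hs⟩ := hB.exists_descend i α hi g (z ≫ j) ξ (by
    rw [Category.assoc, hz]
    exact congrArg (fun m => spMap g m ≫ ξ) (Subsingleton.elim _ _)) h (by
    rw [hh, Category.assoc, Category.assoc])
  haveI : LocallyOfFiniteType (α.left ≫ A.hom) := by rw [Over.w α]; infer_instance
  haveI : LocallyOfFiniteType α.left := locallyOfFiniteType_of_comp α.left A.hom
  exact exists_section_of_generic α.left s.left (congrArg CommaMorphism.left hs)

/-- A smooth connected group is integral. -/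
theorem isIntegral_of_connected (A : Over (Spec (CommRingCat.of k))) [GrpObj A] [Smooth A.hom]
    [ConnectedSpace A.left] : IsIntegral A.left := by
  haveI := Groth.L25.ConnIrred.irreducibleSpace A
  haveI : IsReduced A.left := Groth.Agent.AV.isReduced_of_smooth_field A.hom
  exact isIntegral_of_irreducibleSpace_of_isReduced A.left

/-- A point of a connected linear group centralising the group lies in a Borel subgroup. -/
theorem exists_borel_central {N : Over (Spec (CommRingCat.of k))} [GrpObj N] [IsAffine N.left] [Smooth N.hom]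
    [ConnectedSpace N.left] :
    ∃ (B : Over (Spec (CommRingCat.of k))) (_ : GrpObj B) (b : B ⟶ N), Red.IsBorelOver k b ∧
      ∀ (X : Over (Spec (CommRingCat.of k))) (x : X ⟶ N),
        (∀ (X' : Over (Spec (CommRingCat.of k))) (p : X' ⟶ X) (h : X' ⟶ N), (p ≫ x) * h = h * (p ≫ x)) →
          ∃ y : X ⟶ B, y ≫ b = x := by
  obtain ⟨B, gB, b, hB⟩ := Groth.L08.Borel.exists_borel N
  haveI := hB.1; haveI := hB.2.1; haveI := hB.2.2.1; haveI := hB.2.2.2.1
  haveI : QuasiCompact B.hom := by rw [← Over.w b]; infer_instance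
  obtain ⟨T, gT, t, ht⟩ := Groth.L08.Borel.exists_maxTorus_gen B
  haveI := ht.1
  have hiG := Groth.L08.Borel.isMaxTorus_comp_borel hB ht
  haveI := hiG.1
  obtain ⟨C, gC, c, hc, -, -, -⟩ := Groth.L08.Borel.exists_centralizer_gen (t ≫ b) hiG.2.2.1
  obtain ⟨f, hf⟩ := Groth.L08.Borel.centralizer_le_borel_gen hiG hc hB t rfl
  refine ⟨B, gB, b, hB, fun X x hx => ?_⟩
  obtain ⟨z, hz⟩ := (hc.2.2 X x).2 fun X' p h => hx X' p (h ≫ t ≫ b)
  exact ⟨z ≫ f, by rw [Category.assoc, hf, hz]⟩

/-- Local sections from a generic one: translate by rational points. -/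
theorem exists_local_section {G A : Over (Spec (CommRingCat.of k))} [GrpObj G] [GrpObj A] [LocallyOfFiniteType G.hom]
    [LocallyOfFiniteType A.hom] (α : G ⟶ A) [IsMonHom α] [Surjective α.left] {U : A.left.Opens}
    (hne : (U : Set ↥A.left).Nonempty) (s : (U : Scheme.{u}) ⟶ G.left) (hs : s ≫ α.left = U.ι) (y : ↥A.left) :
    ∃ U' : A.left.Opens, y ∈ U' ∧ ∃ s' : (U' : Scheme.{u}) ⟶ G.left, s' ≫ α.left = U'.ι := by
  haveI : JacobsonSpace A.left := LocallyOfFiniteType.jacobsonSpace A.hom
  haveI : JacobsonSpace G.left := LocallyOfFiniteType.jacobsonSpace G.hom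
  obtain ⟨y₀, hy₀, hy₀c⟩ := nonempty_inter_closedPoints (Z := closure {y}) ⟨y, subset_closure rfl⟩
    isClosed_closure.isLocallyClosed
  obtain ⟨u₀, hu₀, hu₀c⟩ := nonempty_inter_closedPoints (Z := (U : Set A.left)) hne U.isOpen.isLocallyClosed
  let p : 𝟙_ (Over (Spec (CommRingCat.of k))) ⟶ A :=
    Over.homMk (pointOfClosedPoint A.hom y₀ hy₀c) (pointOfClosedPoint_comp A.hom y₀ hy₀c)
  let q : 𝟙_ (Over (Spec (CommRingCat.of k))) ⟶ A :=
    Over.homMk (pointOfClosedPoint A.hom u₀ hu₀c) (pointOfClosedPoint_comp A.hom u₀ hu₀c)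
  -- a rational point of `G` over `p⁻¹ * q`
  let st : Spec (CommRingCat.of k) := IsLocalRing.closedPoint k
  let a : 𝟙_ (Over (Spec (CommRingCat.of k))) ⟶ A := p⁻¹ * q
  have hac : IsClosed ({a.left st} : Set A.left) := (pointEquivClosedPoint A.hom ⟨a.left, Over.w a⟩).2
  obtain ⟨x₀, hx₀, hx₀c⟩ := nonempty_inter_closedPoints (Z := α.left ⁻¹' {a.left st})
    (α.left.surjective (a.left st)) (hac.preimage α.left.continuous).isLocallyClosed
  let g : 𝟙_ (Over (Spec (CommRingCat.of k))) ⟶ G :=
    Over.homMk (pointOfClosedPoint G.hom x₀ hx₀c) (pointOfClosedPoint_comp G.hom x₀ hx₀c)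
  have hg : g ≫ α = a := by
    refine Over.OverMorphism.ext (ext_of_apply_closedPoint_eq A.hom (Over.w (g ≫ α)) (Over.w a) ?_)
    show α.left ((pointOfClosedPoint G.hom x₀ hx₀c) st) = a.left st
    rw [pointOfClosedPoint_apply G.hom x₀ hx₀c]
    exact hx₀
  let τ : A ⟶ A := 𝟙 A * (toUnit A ≫ a)
  have hyU : y ∈ τ.left ⁻¹ᵁ U := by
    have h1 : p ≫ τ = q := by
      simp only [τ, MonObj.comp_mul, Category.comp_id, ← Category.assoc, toUnit_unique (p ≫ toUnit A) (𝟙 _),
        Category.id_comp, a, mul_inv_cancel_left]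
    have h2 : τ.left y₀ = u₀ := by
      have := congrArg (fun m : 𝟙_ (Over (Spec (CommRingCat.of k))) ⟶ A => m.left st) h1
      simp only [p, q] at this
      rw [← pointOfClosedPoint_apply A.hom y₀ hy₀c st]
      exact this.trans (pointOfClosedPoint_apply A.hom u₀ hu₀c st)
    exact (specializes_iff_mem_closure.2 hy₀).mem_open (τ.left ⁻¹ᵁ U).isOpen (show τ.left y₀ ∈ U from h2 ▸ hu₀)
  let W : Over (Spec (CommRingCat.of k)) := Over.mk ((τ.left ⁻¹ᵁ U).ι ≫ A.hom)
  let ιW : W ⟶ A := Over.homMk (τ.left ⁻¹ᵁ U).ι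
  let v : W.left ⟶ G.left := (τ.left ∣_ U) ≫ s
  have hvα : v ≫ α.left = (τ.left ⁻¹ᵁ U).ι ≫ τ.left := by
    rw [Category.assoc, hs, morphismRestrict_ι]
  let v' : W ⟶ G := Over.homMk v (by
    show v ≫ G.hom = (τ.left ⁻¹ᵁ U).ι ≫ A.hom
    rw [← Over.w α, reassoc_of% hvα, Over.w τ])
  have hv' : v' ≫ α = ιW ≫ τ := Over.OverMorphism.ext hvα
  refine ⟨τ.left ⁻¹ᵁ U, hyU, (v' * (toUnit W ≫ g⁻¹)).left, ?_⟩
  have e : (v' * (toUnit W ≫ g⁻¹)) ≫ α = ιW := by
    rw [MonObj.mul_comp, hv', Category.assoc, GrpObj.inv_comp, hg]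
    simp only [τ, MonObj.comp_mul, GrpObj.comp_inv, Category.comp_id, ← Category.assoc, comp_toUnit]
    rw [mul_inv_cancel_right]
  exact congrArg CommaMorphism.left e

end Groth.L19.AlgGrpBasic.SplitH90
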