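import Groth.Prelude.Def_VecGrp
import Mathlib.AlgebraicGeometry.AffineScheme
import Mathlib.AlgebraicGeometry.GammaSpecAdjunction
import Mathlib.Topology.Sheaves.SheafCondition.UniqueGluing

/-!
# Natural functions on points of a scheme without nonconstant global functions are constant
-/

set_option autoImplicit false
universe u

open CategoryTheory AlgebraicGeometry TopologicalSpace Opposite

set_option backward.isDefEq.respectTransparency.types false
set_option linter.style.haveILetI false

noncomputable section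

namespace Groth.L19.AlgGrpBasic

variable {k : Type u} [CommRing k] {G : Over (Spec (CommRingCat.of k))}

/-- the structure map on sections -/
def toSec (G : Over (Spec (CommRingCat.of k))) (U : G.left.Opens) : CommRingCat.of k ⟶ Γ(G.left, U) :=
  (Scheme.ΓSpecIso (CommRingCat.of k)).inv ≫ G.hom.appLE ⊤ U (by simp)

theorem fromSpec_hom {U : G.left.Opens} (hU : IsAffineOpen U) :
    hU.fromSpec ≫ G.hom = Spec.map (toSec G U) := by
  rw [toSec, Spec.map_comp, ← IsAffineOpen.SpecMap_appLE_fromSpec G.hom (isAffineOpen_top _) hU (by simp),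
    IsAffineOpen.fromSpec_top, Scheme.isoSpec_Spec_inv]

theorem toSec_res {U V : G.left.Opens} (e : V ⟶ U) :
    toSec G U ≫ G.left.presheaf.map e.op = toSec G V := by
  simp only [toSec, Category.assoc, Scheme.Hom.appLE_map]

/-- A rule assigning a scalar to each affine point, natural in the point. -/
structure NatFun (G : Over (Spec (CommRingCat.of k))) where
  val : ∀ (B : Type u) [CommRing B] [Algebra k B], (VecGrp.pt k B ⟶ G) → B
  nat : ∀ {B B' : Type u} [CommRing B] [Algebra k B] [CommRing B'] [Algebra k B'] (φ : B →ₐ[k] B')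
    (g : VecGrp.pt k B ⟶ G), φ (val B g) = val B' (VecGrp.ptMap φ ≫ g)

namespace NatFun

variable (c : NatFun G)

/-- the affine point of an affine open -/
def upt {U : G.left.Opens} (hU : IsAffineOpen U) :
    letI := (toSec G U).hom.toAlgebra; VecGrp.pt k Γ(G.left, U) ⟶ G :=
  letI := (toSec G U).hom.toAlgebra
  Over.homMk hU.fromSpec (fromSpec_hom hU)

/-- the value on an affine open -/
def onOpen {U : G.left.Opens} (hU : IsAffineOpen U) : Γ(G.left, U) :=
  letI := (toSec G U).hom.toAlgebra
  c.val Γ(G.left, U) (upt hU)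

theorem onOpen_res {U V : G.left.Opens} (hU : IsAffineOpen U) (hV : IsAffineOpen V) (e : V ⟶ U) :
    (G.left.presheaf.map e.op).hom (c.onOpen hU) = c.onOpen hV := by
  letI := (toSec G U).hom.toAlgebra
  letI := (toSec G V).hom.toAlgebra
  let φ : Γ(G.left, U) →ₐ[k] Γ(G.left, V) :=
    { (G.left.presheaf.map e.op).hom with
      commutes' := fun r => congrArg (fun m => m.hom r) (toSec_res e) }
  refine (c.nat φ (upt hU)).trans ?_
  show c.val _ _ = c.val _ _
  congr 1
  exact Over.OverMorphism.ext (hU.map_fromSpec hV e.op)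

/-- A natural function comes from a global section. -/
theorem exists_section : ∃ s : Γ(G.left, ⊤), ∀ (U : G.left.Opens) (hU : IsAffineOpen U),
    (G.left.presheaf.map (homOfLE le_top).op).hom s = c.onOpen hU := by
  let ι := G.left.affineOpens
  have hc : TopCat.Presheaf.IsCompatible G.left.presheaf (fun i : ι => i.1) (fun i => c.onOpen i.2) := by
    intro i j
    refine TopCat.Sheaf.eq_of_locally_eq' G.left.sheaf (fun W : {W : ι // W.1 ≤ i.1 ⊓ j.1} => W.1.1) _
      (fun W => homOfLE W.2) ?_ _ _ ?_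
    · intro x hx
      obtain ⟨_, ⟨W, hW, rfl⟩, hxW, hWU⟩ :=
        G.left.isBasis_affineOpens.exists_subset_of_mem_open hx (i.1 ⊓ j.1).isOpen
      exact Opens.mem_iSup.2 ⟨⟨⟨W, hW⟩, hWU⟩, hxW⟩
    · intro W
      change (G.left.presheaf.map _).hom ((G.left.presheaf.map _).hom _) =
        (G.left.presheaf.map _).hom ((G.left.presheaf.map _).hom _)
      rw [← RingHom.comp_apply, ← CommRingCat.hom_comp, ← Functor.map_comp, ← op_comp,
        ← RingHom.comp_apply, ← CommRingCat.hom_comp, ← Functor.map_comp, ← op_comp,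
        c.onOpen_res i.2 W.1.2, c.onOpen_res j.2 W.1.2]
  obtain ⟨s, hs, -⟩ := TopCat.Sheaf.existsUnique_gluing' G.left.sheaf (fun i : ι => i.1) ⊤
    (fun i => homOfLE le_top) (fun x _ => by
      obtain ⟨_, ⟨W, hW, rfl⟩, hxW, -⟩ :=
        G.left.isBasis_affineOpens.exists_subset_of_mem_open (Set.mem_univ x) isOpen_univ
      exact Opens.mem_iSup.2 ⟨⟨W, hW⟩, hxW⟩) _ hc
  exact ⟨s, fun U hU => hs ⟨U, hU⟩⟩

/-- On a scheme whose global functions are constants a natural function is constant. -/
theorem exists_const (hG : Function.Surjective G.hom.appTop.hom) :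
    ∃ r : k, ∀ (B : Type u) [CommRing B] [Algebra k B] (g : VecGrp.pt k B ⟶ G), c.val B g = algebraMap k B r := by
  obtain ⟨s, hs⟩ := c.exists_section
  obtain ⟨r', rfl⟩ := hG s
  let r : k := (Scheme.ΓSpecIso (CommRingCat.of k)).hom.hom r'
  have hU : ∀ (U : G.left.Opens) (hU : IsAffineOpen U), c.onOpen hU = (toSec G U).hom r := fun U hU => by
    rw [← hs U hU]
    change _ = (G.hom.appLE ⊤ U (by simp)).hom ((Scheme.ΓSpecIso _).inv.hom r)
    rw [show (Scheme.ΓSpecIso (CommRingCat.of k)).inv.hom r = r' from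
      (Scheme.ΓSpecIso (CommRingCat.of k)).commRingCatIsoToRingEquiv.symm_apply_apply r']
    rfl
  refine ⟨r, fun B _ _ g => ?_⟩
  have key : ∀ p : PrimeSpectrum B, ∃ f : B, p ∈ PrimeSpectrum.basicOpen f ∧
      algebraMap B (Localization.Away f) (c.val B g - algebraMap k B r) = 0 := by
    intro p
    obtain ⟨_, ⟨U, hUa, rfl⟩, hpU, -⟩ :=
      G.left.isBasis_affineOpens.exists_subset_of_mem_open (Set.mem_univ (g.left p)) isOpen_univ
    obtain ⟨_, ⟨_, ⟨f, rfl⟩, rfl⟩, hpf, hfU⟩ :=
      PrimeSpectrum.isBasis_basic_opens.exists_subset_of_mem_open (show p ∈ g.left ⁻¹ᵁ U from hpU)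
        (g.left ⁻¹ᵁ U).isOpen
    refine ⟨f, hpf, ?_⟩
    let ψ := IsScalarTower.toAlgHom k B (Localization.Away f)
    have hrange : Set.range (VecGrp.ptMap ψ ≫ g).left ⊆ Set.range hUa.fromSpec := by
      rw [hUa.range_fromSpec]
      rintro _ ⟨q, rfl⟩
      refine hfU ?_
      have hq : (PrimeSpectrum.comap (algebraMap B (Localization.Away f)) q) ∈
          Set.range (PrimeSpectrum.comap (algebraMap B (Localization.Away f))) := ⟨q, rfl⟩
      rw [PrimeSpectrum.localization_away_comap_range (Localization.Away f) f] at hq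
      exact hq
    let l := IsOpenImmersion.lift hUa.fromSpec _ hrange
    obtain ⟨θ, hθ⟩ := Spec.map_surjective l
    have hl : l ≫ hUa.fromSpec = (VecGrp.ptMap ψ ≫ g).left := IsOpenImmersion.lift_fac _ _ _
    have hcomm : toSec G U ≫ θ = CommRingCat.ofHom (algebraMap k (Localization.Away f)) :=
      Spec.map_injective (by
        rw [Spec.map_comp, hθ, ← fromSpec_hom hUa, ← Category.assoc, hl]
        exact Over.w (VecGrp.ptMap ψ ≫ g))
    letI := (toSec G U).hom.toAlgebra
    let θa : Γ(G.left, U) →ₐ[k] Localization.Away f :=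
      { θ.hom with commutes' := fun x => congrArg (fun m => m.hom x) hcomm }
    have e : VecGrp.ptMap θa ≫ upt hUa = VecGrp.ptMap ψ ≫ g := by
      refine Over.OverMorphism.ext ?_
      change Spec.map θ ≫ hUa.fromSpec = _
      rw [hθ, hl]
    have h1 := c.nat ψ g
    rw [← e, ← c.nat θa (upt hUa)] at h1
    change _ = θa (c.onOpen hUa) at h1
    rw [hU U hUa, show θa ((toSec G U).hom r) = algebraMap k _ r from θa.commutes r] at h1
    rw [map_sub, sub_eq_zero, ← IsScalarTower.algebraMap_apply]
    exact h1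
  choose f hpf hf using key
  have htop : Ideal.span (Set.range f) = ⊤ := by
    by_contra hne
    obtain ⟨m, hm, hle⟩ := Ideal.exists_le_maximal _ hne
    exact hpf ⟨m, hm.isPrime⟩ (hle (Ideal.subset_span ⟨_, rfl⟩))
  rw [← sub_eq_zero]
  have hann : ∀ p, ∃ n : ℕ, f p ^ n * (c.val B g - algebraMap k B r) = 0 := fun p => by
    obtain ⟨⟨_, n, rfl⟩, hn⟩ := (IsLocalization.map_eq_zero_iff (Submonoid.powers (f p)) _ _).1 (hf p)
    exact ⟨n, hn⟩
  choose n hn using hann
  let I : Ideal B := LinearMap.ker (LinearMap.mulRight B (c.val B g - algebraMap k B r))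
  have hle : Ideal.span (Set.range f) ≤ I.radical :=
    Ideal.span_le.2 (by rintro _ ⟨p, rfl⟩; exact ⟨n p, hn p⟩)
  have hI : I = ⊤ := Ideal.radical_eq_top.1 (top_le_iff.1 (htop ▸ hle))
  have hmem : (1 : B) ∈ I := hI ▸ Submodule.mem_top
  simpa [I] using hmem

end NatFun

end Groth.L19.AlgGrpBasic
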