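import Groth.Agent.L19.AlgGrpBasic.LinearAct
import Groth.Agent.L19.AlgGrpBasic.NatFun
import Groth.Agent.L08.AffHull.Crit
import Groth.Agent.L08.AffHull.Smooth

/-!
# Anti-affineness through linear representations
-/

set_option autoImplicit false
universe u

open CategoryTheory CategoryTheory.Limits MonoidalCategory CartesianMonoidalCategory MonObj GrpObj
open AlgebraicGeometry Opposite
open scoped TensorProduct

set_option backward.isDefEq.respectTransparency.types false
set_option linter.style.haveILetI false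

noncomputable section

namespace Groth.L19.AlgGrpBasic

variable {k : Type u} [Field k]

theorem isIso_appTop_of_forall_hom {G : Over (Spec (CommRingCat.of k))} [GrpObj G] [LocallyOfFiniteType G.hom]
    [QuasiCompact G.hom]
    (h : ∀ (n : ℕ) (g : G ⟶ CoactBr.sp k (CoordGrp.GLn n k)), IsMonHom g → g = 1) : IsIso G.hom.appTop := by
  haveI := Groth.L08.AffHull.compactSpace (G := G)
  haveI := Groth.L08.AffHull.quasiSeparatedSpace (G := G)
  obtain ⟨hl, -, -, -⟩ := Groth.L08.AffHull.hull_props (G := G)
  haveI := hl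
  haveI : IsAffine (Groth.L08.AffHull.hull G).left := inferInstance
  obtain ⟨n, ρ, _, _⟩ := exists_mono_GLn (Groth.L08.AffHull.hull G)
  haveI : IsAffine (FrB.GLZ.{u} n).left := inferInstanceAs (IsAffine (Spec _))
  haveI : IsAffine (FrB.GLn n (Spec (CommRingCat.of k))).left :=
    inferInstanceAs (IsAffine (pullback (FrB.GLZ n).hom _))
  obtain ⟨L⟩ := exists_glPts_GLn k n
  obtain ⟨e, _, _⟩ := exists_iso_of_glPts L
  haveI : IsMonHom (inv e) := inferInstanceAs (IsMonHom (asIso e).inv)
  refine Groth.L08.AffHull.isIso_appTop_of_rho_eq_one ?_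
  have h1 := h n (Groth.L08.AffHull.rho G ≫ ρ ≫ inv e) inferInstance
  rw [← cancel_mono (ρ ≫ inv e), h1, MonObj.one_comp (ρ ≫ inv e)]

/-- The matrix of a point through a homomorphism to `GL_n`. -/
def matHom {G : Over (Spec (CommRingCat.of k))} [GrpObj G] {n : ℕ}
    (g : G ⟶ CoactBr.sp k (CoordGrp.GLn n k)) [IsMonHom g] (B : Type u) [CommRing B] [Algebra k B] :
    (VecGrp.pt k B ⟶ G) →* (Matrix (Fin n) (Fin n) B)ˣ :=
  ((Groth.L15.MuGL.glPtsSp k n).pt B).symm.toMonoidHom.comp
    { toFun := fun t => (t ≫ g : CoactBr.sp k B ⟶ _)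
      map_one' := by exact MonObj.one_comp g
      map_mul' := fun s t => by exact MonObj.mul_comp s t g }

theorem matHom_map {G : Over (Spec (CommRingCat.of k))} [GrpObj G] {n : ℕ}
    (g : G ⟶ CoactBr.sp k (CoordGrp.GLn n k)) [IsMonHom g] {B B' : Type u} [CommRing B] [Algebra k B]
    [CommRing B'] [Algebra k B'] (φ : B →ₐ[k] B') (t : VecGrp.pt k B ⟶ G) :
    matHom g B' (VecGrp.ptMap φ ≫ t) =
      Units.map (φ.mapMatrix : Matrix (Fin n) (Fin n) B →ₐ[k] _).toMonoidHom (matHom g B t) := by
  have hnat := (Groth.L15.MuGL.glPtsSp k n).natural φ (matHom g B t)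
  apply ((Groth.L15.MuGL.glPtsSp k n).pt B').injective
  rw [← hnat]
  change (Groth.L15.MuGL.glPtsSp k n).pt B' (((Groth.L15.MuGL.glPtsSp k n).pt B').symm _) =
    CoactBr.pt φ ≫ (Groth.L15.MuGL.glPtsSp k n).pt B (((Groth.L15.MuGL.glPtsSp k n).pt B).symm _)
  rw [MulEquiv.apply_symm_apply, MulEquiv.apply_symm_apply]
  exact Category.assoc (VecGrp.ptMap φ) t g

/-- Matrices act on `B ⊗ k^n`. -/
def matAct (B : Type u) [CommRing B] [Algebra k B] (n : ℕ) :
    (Matrix (Fin n) (Fin n) B)ˣ →* (VecGrp.W k (Fin n → k) B ≃ₗ[B] VecGrp.W k (Fin n → k) B) where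
  toFun X := (TensorProduct.piScalarRight k B B (Fin n)).trans
    ((LinearMap.GeneralLinearGroup.generalLinearEquiv B (Fin n → B)
      (Units.map (Matrix.toLinAlgEquiv' (R := B) (n := Fin n)).toMonoidHom X)).trans
      (TensorProduct.piScalarRight k B B (Fin n)).symm)
  map_one' := by ext x; simpa using (TensorProduct.piScalarRight k B B (Fin n)).symm_apply_apply x
  map_mul' X Y := by
    refine LinearEquiv.toLinearMap_injective (LinearMap.ext fun x => ?_)
    simp

theorem piScalarRight_matAct {B : Type u} [CommRing B] [Algebra k B] {n : ℕ} (X : (Matrix (Fin n) (Fin n) B)ˣ)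
    (x : VecGrp.W k (Fin n → k) B) :
    TensorProduct.piScalarRight k B B (Fin n) (matAct B n X x) =
      (X : Matrix (Fin n) (Fin n) B).mulVec (TensorProduct.piScalarRight k B B (Fin n) x) := by
  simp [matAct]

/-- The representation on `k^n` of a homomorphism to `GL_n`. -/
def gmodOfHom {G : Over (Spec (CommRingCat.of k))} [GrpObj G] {n : ℕ}
    (g : G ⟶ CoactBr.sp k (CoordGrp.GLn n k)) [IsMonHom g] : VecGrp.GMod G (Fin n → k) where
  ρ B _ _ := (matAct B n).comp (matHom g B)
  naturality := by
    intro B B' _ _ _ _ φ t x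
    have he : ∀ y : VecGrp.W k (Fin n → k) B, TensorProduct.piScalarRight k B' B' (Fin n) (VecGrp.Wmap φ y) =
        φ ∘ TensorProduct.piScalarRight k B B (Fin n) y := by
      intro y
      induction y using TensorProduct.induction_on with
      | zero => funext i; simp
      | tmul b v => funext i; simp [map_smul]
      | add a b ha hb => funext i; simp [map_add, ha, hb]
    apply (TensorProduct.piScalarRight k B' B' (Fin n)).injective
    rw [he, MonoidHom.comp_apply, MonoidHom.comp_apply, piScalarRight_matAct, piScalarRight_matAct, he, matHom_map]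
    funext i
    exact (RingHom.map_mulVec φ.toRingHom _ _ i)

theorem eq_one_of_gmodOfHom {G : Over (Spec (CommRingCat.of k))} [GrpObj G] {n : ℕ}
    (g : G ⟶ CoactBr.sp k (CoordGrp.GLn n k)) [IsMonHom g]
    (h : ∀ (B : Type u) [CommRing B] [Algebra k B] (t : VecGrp.pt k B ⟶ G), (gmodOfHom g).ρ B t = 1) : g = 1 := by
  have key : ∀ (B : Type u) [CommRing B] [Algebra k B] (t : CoactBr.sp k B ⟶ G), t ≫ g = 1 := fun B _ _ t => by
    have hX : matHom g B t = 1 := by
      refine Units.ext (Matrix.ext_iff_mulVec.mpr fun v => ?_)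
      obtain ⟨x, rfl⟩ := (TensorProduct.piScalarRight k B B (Fin n)).surjective v
      rw [← piScalarRight_matAct, Units.val_one, Matrix.one_mulVec]
      exact congrArg (fun f => TensorProduct.piScalarRight k B B (Fin n) (f x)) (h B t)
    have e := congrArg ((Groth.L15.MuGL.glPtsSp k n).pt B) hX
    rw [map_one] at e
    exact (((Groth.L15.MuGL.glPtsSp k n).pt B).apply_symm_apply _).symm.trans e
  refine Over.OverMorphism.ext (G.left.affineCover.hom_ext _ _ fun i => ?_)
  let T : Over (Spec (CommRingCat.of k)) := Over.mk (G.left.affineCover.f i ≫ G.hom)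
  let j : T ⟶ G := Over.homMk (G.left.affineCover.f i) rfl
  haveI : IsAffine T.left := inferInstanceAs (IsAffine (G.left.affineCover.X i))
  obtain ⟨B, _, _, w, _⟩ := Groth.L15.MuGL.exists_isIso_sp T
  have h2 : w ≫ j ≫ g = w ≫ j ≫ 1 := by
    rw [← Category.assoc, key, MonObj.comp_one, MonObj.comp_one]
  exact congrArg (fun m => m.left) ((cancel_epi w).1 h2)

theorem rho_eq_one_of_antiAffine {G : Over (Spec (CommRingCat.of k))} [GrpObj G]
    (hG : Function.Surjective G.hom.appTop.hom) {M : Type u} [AddCommGroup M] [Module k M] (m : VecGrp.GMod G M)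
    (B : Type u) [CommRing B] [Algebra k B] (g : VecGrp.pt k B ⟶ G) : m.ρ B g = 1 := by
  refine LinearEquiv.toLinearMap_injective ?_
  refine TensorProduct.AlgebraTensorModule.curry_injective (LinearMap.ext_ring (LinearMap.ext fun x => ?_))
  change m.ρ B g ((1 : B) ⊗ₜ[k] x) = (1 : B) ⊗ₜ[k] x
  let b := Module.Free.chooseBasis k M
  refine (Algebra.TensorProduct.basis B b).ext_elem fun i => ?_
  let ξ : M →ₗ[k] k := b.coord i
  have hco : ∀ (C : Type u) [CommRing C] [Algebra k C] (z : C ⊗[k] M),
      (Algebra.TensorProduct.basis C b).repr z i = TensorProduct.rid k C (ξ.lTensor C z) := by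
    intro C _ _ z
    induction z using TensorProduct.induction_on with
    | zero => simp
    | tmul c y => simp [ξ, Algebra.smul_def, mul_comm]
    | add p q hp hq => simp [hp, hq]
  let c : NatFun G :=
    { val := fun C _ _ t => TensorProduct.rid k C (ξ.lTensor C (m.ρ C t ((1 : C) ⊗ₜ[k] x)))
      nat := by
        intro C C' _ _ _ _ φ t
        have e : ∀ z : VecGrp.W k M C, φ (TensorProduct.rid k C (ξ.lTensor C z)) =
            TensorProduct.rid k C' (ξ.lTensor C' (VecGrp.Wmap φ z)) := by
          intro z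
          induction z using TensorProduct.induction_on with
          | zero => simp
          | tmul c y => simp [map_smul]
          | add p q hp hq => simp [hp, hq]
        rw [e, m.naturality, VecGrp.Wmap_tmul, map_one] }
  obtain ⟨r, hr⟩ := c.exists_const hG
  have h1 : ξ x = r := by
    have := hr k 1
    simpa [c] using this
  rw [hco, hco]
  change c.val B g = _
  rw [hr B g, ← h1]
  simp [Algebra.smul_def]

end Groth.L19.AlgGrpBasic
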