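import Groth.Agent.L08.AntiAffRigid
import Groth.Agent.L08.AffHull.Crit
import Groth.Agent.L25.Actions
import Groth.Prelude.Def_AlgGrp

/-!
# Anti-affine groups act trivially on varieties with a fixed point
-/

set_option autoImplicit false
set_option linter.style.haveILetI false
set_option backward.isDefEq.respectTransparency.types false

universe u

open CategoryTheory CategoryTheory.Limits MonoidalCategory CartesianMonoidalCategory MonObj AlgebraicGeometry

namespace Groth.L19.AlgGrpBasic

variable {k : Type u} [Field k]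

theorem surjective_appTop_of_bijective {X : Over (Spec (CommRingCat.of k))}
    (hX : Function.Bijective ((Scheme.ΓSpecIso (CommRingCat.of k)).inv ≫ X.hom.appTop).hom) :
    Function.Surjective X.hom.appTop.hom := fun b => by
  obtain ⟨c, hc⟩ := hX.2 b
  exact ⟨_, hc⟩

/-- An anti-affine group fixing a rational point of an integral scheme acts trivially on it. -/
theorem act_eq_snd_of_fixed {G X : Over (Spec (CommRingCat.of k))} [GrpObj G] [CompactSpace G.left]
    [QuasiSeparatedSpace G.left] (hG : Function.Surjective G.hom.appTop.hom)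
    [LocallyOfFiniteType X.hom] [IsSeparated X.hom] [IsIntegral X.left] (a : AlgGrp.Action G X)
    (x : 𝟙_ (Over (Spec (CommRingCat.of k))) ⟶ X) (hx : a.IsFixedPt x) : a.act = snd G X := by
  have e : lift (toUnit X ≫ η[G]) (𝟙 X) ≫ a.act = 𝟙 X := by
    rw [← Hom.one_def, Groth.L25.Actions.one_act]
  have hfix : (G ◁ x) ≫ a.act = (G ◁ x) ≫ snd G X := by
    have h := hx _ (fst G (𝟙_ _))
    rw [whiskerLeft_snd, toUnit_unique (snd G (𝟙_ _)) (toUnit _), ← h]
    congr 1
    apply CartesianMonoidalCategory.hom_ext <;> simp [toUnit_unique (snd G (𝟙_ (Over (Spec (CommRingCat.of k))))) (toUnit _)]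
  obtain ⟨V, hV, hVe⟩ := Groth.L08.AntiAffRigid.exists_nhd hG η[G] x a.act (by rw [e, Category.comp_id]; exact hfix)
  exact Groth.L08.AntiAffRigid.eq_of_dense V ⟨_, hV⟩ _ _ (by rw [hVe, e, Category.comp_id])

end Groth.L19.AlgGrpBasic
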