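import Groth.Agent.L25.Actions
import Groth.Prelude.Def_W4bk4git07Quot
import Mathlib.AlgebraicGeometry.Morphisms.FlatDescent

/-!
# Cartesian squares between principal bundles
-/

set_option autoImplicit false
set_option linter.style.haveILetI false
set_option backward.isDefEq.respectTransparency.types false
set_option backward.isDefEq.respectTransparency false

universe u

open CategoryTheory MonoidalCategory CartesianMonoidalCategory MonObj AlgebraicGeometry Limits

noncomputable section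

namespace Groth.L19.AlgGrpBasic.BundleSquares

/-- Cancellation of a cartesian square along an fpqc morphism. -/
theorem isPullback_of_fpqc {A P P' R Q B : Scheme.{u}} {g : A ⟶ P} {g' : P ⟶ P'} {f₁ : A ⟶ R}
    {f₂ : P ⟶ Q} {f₃ : P' ⟶ B} {h : R ⟶ Q} {h' : Q ⟶ B} [Surjective h] [Flat h] [QuasiCompact h]
    (sq : IsPullback g f₁ f₂ h) (outer : IsPullback (g ≫ g') f₁ f₃ (h ≫ h')) (w : g' ≫ f₃ = f₂ ≫ h') :
    IsPullback g' f₂ f₃ h' := by
  let θ : P ⟶ pullback f₃ h' := pullback.lift g' f₂ w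
  let k : A ⟶ pullback f₃ h' := g ≫ θ
  have hk1 : k ≫ pullback.fst f₃ h' = g ≫ g' := by simp [k, θ]
  have hk2 : k ≫ pullback.snd f₃ h' = f₁ ≫ h := by simp [k, θ, sq.w]
  have right : IsPullback k f₁ (pullback.snd f₃ h') h :=
    (IsPullback.of_right (h₁₂ := pullback.fst f₃ h') (h₂₂ := h') (by rw [hk1]; exact outer) hk2
      (IsPullback.of_hasPullback f₃ h'))
  have top : IsPullback g (𝟙 A) θ k :=
    IsPullback.of_bot (v₂₁ := f₁) (v₂₂ := pullback.snd f₃ h') (by simpa [θ] using sq) (by simp [k]) right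
  haveI : Surjective k := MorphismProperty.of_isPullback (P := @Surjective) right.flip inferInstance
  haveI : Flat k := MorphismProperty.of_isPullback (P := @Flat) right.flip inferInstance
  haveI : QuasiCompact k := MorphismProperty.of_isPullback (P := @QuasiCompact) right.flip inferInstance
  haveI : IsIso θ :=
    MorphismProperty.of_isPullback_of_descendsAlong (P := MorphismProperty.isomorphisms Scheme.{u})
      (Q := @Surjective ⊓ @Flat ⊓ @QuasiCompact) top.flip ⟨⟨inferInstance, inferInstance⟩, inferInstance⟩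
      (inferInstanceAs (IsIso (𝟙 A)))
  exact IsPullback.of_iso_pullback ⟨w⟩ (asIso θ) (pullback.lift_fst _ _ _) (pullback.lift_snd _ _ _)

variable {S : Scheme.{u}} {H P P' Q B : Over S} [GrpObj H] (b : AlgGrp.Action H P) (r : AlgGrp.Action H P')

/-- An equivariant map of principal bundles gives a cartesian square. -/
theorem isPullback_of_equivariant (q : P ⟶ Q) (π : P' ⟶ B) (hq : GIT.IsInvariant b q)
    (hπ : GIT.IsInvariant r π) [IsIso (GIT.PsiY b q hq)] [IsIso (GIT.PsiY r π hπ)]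
    [Surjective q.left] [Flat q.left] [QuasiCompact q.left]
    (u : P ⟶ P') (v : Q ⟶ B) (he : b.act ≫ u = (H ◁ u) ≫ r.act) (w : u ≫ π = q ≫ v) :
    IsPullback u.left q.left π.left v.left := by
  have sqP : IsPullback b.act.left (snd H P).left q.left q.left :=
    IsPullback.of_iso_pullback ⟨hq.left⟩ (asIso (GIT.PsiY b q hq)) (pullback.lift_fst _ _ _) (pullback.lift_snd _ _ _)
  have sqP' : IsPullback r.act.left (snd H P').left π.left π.left :=
    IsPullback.of_iso_pullback ⟨hπ.left⟩ (asIso (GIT.PsiY r π hπ)) (pullback.lift_fst _ _ _) (pullback.lift_snd _ _ _)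
  have sqU : IsPullback (H ◁ u).left (snd H P).left (snd H P').left u.left := by
    refine IsPullback.of_right ?_ ?_ (Groth.L25.Actions.isPullback_snd H P')
    · rw [← Over.comp_left, whiskerLeft_fst, Over.w u]
      exact (Groth.L25.Actions.isPullback_snd H P)
    · exact congrArg CommaMorphism.left (whiskerLeft_snd H u)
  have outer : IsPullback (b.act.left ≫ u.left) (snd H P).left π.left (q.left ≫ v.left) := by
    have := sqU.paste_horiz sqP'
    rw [← Over.comp_left, he, Over.comp_left, show q.left ≫ v.left = u.left ≫ π.left by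
      rw [← Over.comp_left, ← Over.comp_left, w]]
    exact this
  exact isPullback_of_fpqc sqP outer (by rw [← Over.comp_left, ← Over.comp_left, w])

end Groth.L19.AlgGrpBasic.BundleSquares

namespace Groth.L19.AlgGrpBasic.BundleSquares

variable {S : Scheme.{u}} {G H X Y : Over S} [GrpObj G] [GrpObj H] (j : H ⟶ G)

theorem equivariant_fst (r : AlgGrp.Action H G)
    (hr : ∀ (T : Over S) (h : T ⟶ H) (g : T ⟶ G), lift h g ≫ r.act = g * (h ≫ j)⁻¹)
    (aX : AlgGrp.Action H X) (b : AlgGrp.Action H (G ⊗ X))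
    (hb : ∀ (T : Over S) (h : T ⟶ H) (g : T ⟶ G) (x : T ⟶ X),
      lift h (lift g x) ≫ b.act = lift (g * (h ≫ j)⁻¹) (lift h x ≫ aX.act)) :
    b.act ≫ fst G X = (H ◁ fst G X) ≫ r.act := by
  have e : lift (fst H (G ⊗ X)) (lift (snd H (G ⊗ X) ≫ fst G X) (snd H (G ⊗ X) ≫ snd G X)) = 𝟙 _ := by
    rw [lift_comp_fst_snd, lift_fst_snd]
  have e2 : H ◁ fst G X = lift (fst H (G ⊗ X)) (snd H (G ⊗ X) ≫ fst G X) :=
    CartesianMonoidalCategory.hom_ext _ _ (by simp) (by simp)
  have h := hb _ (fst H (G ⊗ X)) (snd H (G ⊗ X) ≫ fst G X) (snd H (G ⊗ X) ≫ snd G X)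
  rw [e, Category.id_comp] at h
  rw [h, lift_fst, e2, hr]

theorem equivariant_whisker (aX : AlgGrp.Action H X) (aY : AlgGrp.Action H Y) (i : X ⟶ Y)
    (hi : aX.act ≫ i = (H ◁ i) ≫ aY.act) (b : AlgGrp.Action H (G ⊗ X))
    (hb : ∀ (T : Over S) (h : T ⟶ H) (g : T ⟶ G) (x : T ⟶ X),
      lift h (lift g x) ≫ b.act = lift (g * (h ≫ j)⁻¹) (lift h x ≫ aX.act))
    (c : AlgGrp.Action H (G ⊗ Y))
    (hc : ∀ (T : Over S) (h : T ⟶ H) (g : T ⟶ G) (x : T ⟶ Y),
      lift h (lift g x) ≫ c.act = lift (g * (h ≫ j)⁻¹) (lift h x ≫ aY.act)) :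
    b.act ≫ (G ◁ i) = (H ◁ (G ◁ i)) ≫ c.act := by
  have e : lift (fst H (G ⊗ X)) (lift (snd H (G ⊗ X) ≫ fst G X) (snd H (G ⊗ X) ≫ snd G X)) = 𝟙 _ := by
    rw [lift_comp_fst_snd, lift_fst_snd]
  have e2 : H ◁ (G ◁ i) = lift (fst H (G ⊗ X)) (lift (snd H (G ⊗ X) ≫ fst G X) (snd H (G ⊗ X) ≫ snd G X ≫ i)) :=
    CartesianMonoidalCategory.hom_ext _ _ (by simp) (by
      refine CartesianMonoidalCategory.hom_ext _ _ ?_ ?_ <;> simp)
  have h := hb _ (fst H (G ⊗ X)) (snd H (G ⊗ X) ≫ fst G X) (snd H (G ⊗ X) ≫ snd G X)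
  rw [e, Category.id_comp] at h
  rw [h, lift_whiskerLeft, e2, hc, Category.assoc, hi, ← Category.assoc, lift_whiskerLeft, Category.assoc]

omit [GrpObj H] in
theorem isPullback_whisker_pair (G X Y : Over S) :
    IsPullback (G ◁ fst X Y).left (G ◁ snd X Y).left (fst G X).left (fst G Y).left := by
  have hX := Groth.L25.Actions.isPullback_snd G X
  have hY := Groth.L25.Actions.isPullback_snd G Y
  have hXY := Groth.L25.Actions.isPullback_snd X Y
  have hA := Groth.L25.Actions.isPullback_snd G (X ⊗ Y)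
  have h1 : IsPullback (snd G (X ⊗ Y)).left (G ◁ snd X Y).left (snd X Y).left (snd G Y).left := by
    refine IsPullback.of_bot ?_ ?_ hY.flip
    · rw [← Over.comp_left, whiskerLeft_fst, Over.w (snd X Y)]
      exact hA.flip
    · rw [← Over.comp_left, ← Over.comp_left, whiskerLeft_snd]
  have h2 : IsPullback ((G ◁ fst X Y).left ≫ (snd G X).left) (G ◁ snd X Y).left X.hom ((snd G Y).left ≫ Y.hom) := by
    rw [← Over.comp_left, whiskerLeft_snd, Over.comp_left]
    exact h1.paste_horiz hXY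
  refine IsPullback.of_right ?_ ?_ hX.flip
  · have : (fst G Y).left ≫ G.hom = (snd G Y).left ≫ Y.hom := hY.w
    rw [this]
    exact h2
  · rw [← Over.comp_left, ← Over.comp_left, whiskerLeft_fst, whiskerLeft_fst]

end Groth.L19.AlgGrpBasic.BundleSquares
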