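import Mathlib.Topology.KrullDimension
import Groth.Agent.L22.SchemeDim

/-!
# A proper closed subset of an irreducible set of finite dimension has smaller dimension
-/

set_option autoImplicit false
set_option linter.style.haveILetI false

universe u

open TopologicalSpace Topology

namespace Groth.L19.AlgGrpBasic

variable {X : Type u} [TopologicalSpace X]

theorem eq_of_subset_of_dim_eq {Z W : Set X} (hZ : IsClosed Z) (hW : IsIrreducible W) (hsub : Z ⊆ W)
    {n : ℕ} (hWn : topologicalKrullDim W = (n : WithBot ℕ∞)) (hZn : topologicalKrullDim Z = (n : WithBot ℕ∞)) :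
    Z = W := by
  by_contra hne
  obtain ⟨l, hl⟩ := Order.le_krullDim_iff.1 (le_of_eq hZn.symm : (n : WithBot ℕ∞) ≤ topologicalKrullDim Z)
  have hf : IsInducing (Set.inclusion hsub) := (IsEmbedding.inclusion hsub).isInducing
  haveI : IrreducibleSpace W := Subtype.irreducibleSpace hW
  let top : IrreducibleCloseds W := ⟨Set.univ, IrreducibleSpace.isIrreducible_univ _, isClosed_univ⟩
  let l' := l.map (IrreducibleCloseds.map (Set.inclusion hsub) hf.continuous)
    (IrreducibleCloseds.map_strictMono_of_isInducing hf)
  have hlt : l'.last < top := by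
    refine lt_of_le_of_ne (fun x _ => Set.mem_univ x) fun h => hne (Set.Subset.antisymm hsub fun w hw => ?_)
    have h1 : (⟨w, hw⟩ : W) ∈ (l'.last : Set W) := by rw [h]; exact Set.mem_univ _
    rw [LTSeries.last_map] at h1
    have h2 : closure (Set.inclusion hsub '' (l.last : Set Z)) ⊆ Subtype.val ⁻¹' Z :=
      closure_minimal (by rintro _ ⟨z, -, rfl⟩; exact z.2) (hZ.preimage continuous_subtype_val)
    exact h2 h1
  have h3 := Order.LTSeries.length_le_krullDim (l'.snoc top hlt)
  change ((l'.snoc top hlt).length : WithBot ℕ∞) ≤ topologicalKrullDim W at h3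
  rw [hWn, RelSeries.snoc_length] at h3
  have h4 : l'.length + 1 ≤ n := by exact_mod_cast h3
  have h5 : l'.length = n := hl
  omega

end Groth.L19.AlgGrpBasic
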