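import Mathlib.AlgebraicGeometry.Morphisms.Separated
import Mathlib.AlgebraicGeometry.Morphisms.ClosedImmersion

/-!
# Fixed points of finitely many automorphisms of a separated scheme
-/

set_option autoImplicit false
set_option linter.style.haveILetI false

universe u

open CategoryTheory CategoryTheory.Limits AlgebraicGeometry

namespace Groth.L19.AlgGrpBasic

variable {X S : Scheme.{u}} (p : X ⟶ S) [IsSeparated p]

/-- The locus where an endomorphism over the base is the identity. -/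
theorem exists_eqLocus_id (σ : X ⟶ X) (hσ : σ ≫ p = p) :
    ∃ (Z : Scheme.{u}) (i : Z ⟶ X), IsClosedImmersion i ∧ i ≫ σ = i ∧
      ∀ (T : Scheme.{u}) (x : T ⟶ X), x ≫ σ = x → ∃ z : T ⟶ Z, z ≫ i = x := by
  let c : X ⟶ pullback p p := pullback.lift (𝟙 X) σ (by rw [Category.id_comp, hσ])
  have c1 : c ≫ pullback.fst p p = 𝟙 X := pullback.lift_fst _ _ _
  have c2 : c ≫ pullback.snd p p = σ := pullback.lift_snd _ _ _
  refine ⟨pullback c (pullback.diagonal p), pullback.fst _ _, inferInstance, ?_, fun T x hx => ?_⟩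
  · have h1 := congrArg (fun f => f ≫ pullback.fst p p) (pullback.condition (f := c) (g := pullback.diagonal p))
    have h2 := congrArg (fun f => f ≫ pullback.snd p p) (pullback.condition (f := c) (g := pullback.diagonal p))
    simp only [Category.assoc, c1, c2, pullback.diagonal_fst,
      pullback.diagonal_snd, Category.comp_id] at h1 h2
    rw [h2, ← h1]
  · refine ⟨pullback.lift x x ?_, pullback.lift_fst _ _ _⟩
    apply pullback.hom_ext <;> simp [c1, c2, hx]

theorem exists_fixed_of_finset {ι : Type*} (σ : ι → (X ⟶ X)) (hσ : ∀ g, σ g ≫ p = p) (s : Finset ι) :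
    ∃ (Z : Scheme.{u}) (i : Z ⟶ X), IsClosedImmersion i ∧ (∀ g ∈ s, i ≫ σ g = i) ∧
      ∀ (T : Scheme.{u}) (x : T ⟶ X), (∀ g ∈ s, x ≫ σ g = x) → ∃ z : T ⟶ Z, z ≫ i = x := by
  classical
  induction s using Finset.induction_on with
  | empty => exact ⟨X, 𝟙 X, inferInstance, by simp, fun T x _ => ⟨x, Category.comp_id x⟩⟩
  | insert a s _ ih =>
    obtain ⟨Z, i, hi, h1, h2⟩ := ih
    obtain ⟨W, e, he, e1, e2⟩ := exists_eqLocus_id p (σ a) (hσ a)
    refine ⟨pullback i e, pullback.fst i e ≫ i, inferInstance, fun g hg => ?_, fun T x hx => ?_⟩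
    · rcases Finset.mem_insert.1 hg with rfl | hg
      · simp only [pullback.condition, Category.assoc, e1]
      · rw [Category.assoc, h1 g hg]
    · obtain ⟨z, hz⟩ := h2 T x fun g hg => hx g (Finset.mem_insert_of_mem hg)
      obtain ⟨w, hw⟩ := e2 T x (hx a (Finset.mem_insert_self a s))
      exact ⟨pullback.lift z w (hz.trans hw.symm), by rw [pullback.lift_fst_assoc, hz]⟩

/-- The fixed locus of finitely many automorphisms is a closed subscheme. -/
theorem exists_fixed {ι : Type*} [Finite ι] (σ : ι → (X ⟶ X)) (hσ : ∀ g, σ g ≫ p = p) :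
    ∃ (Z : Scheme.{u}) (i : Z ⟶ X), IsClosedImmersion i ∧ (∀ g, i ≫ σ g = i) ∧
      ∀ (T : Scheme.{u}) (x : T ⟶ X), (∀ g, x ≫ σ g = x) → ∃! z : T ⟶ Z, z ≫ i = x := by
  haveI := Fintype.ofFinite ι
  obtain ⟨Z, i, hi, h1, h2⟩ := exists_fixed_of_finset p σ hσ Finset.univ
  refine ⟨Z, i, hi, fun g => h1 g (Finset.mem_univ g), fun T x hx => ?_⟩
  obtain ⟨z, hz⟩ := h2 T x fun g _ => hx g
  exact ⟨z, hz, fun z' hz' => (cancel_mono i).1 (hz'.trans hz.symm)⟩

end Groth.L19.AlgGrpBasic
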