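import Groth.Agent.L19.AlgGrpBasic.FixedPoints
import Groth.Agent.L19.Thick.Affine
import Groth.Agent.L16.LPsiAmple.Rel
import Mathlib.AlgebraicGeometry.Morphisms.Smooth
import Mathlib.RingTheory.Smooth.Basic

/-!
The fixed scheme of a finite group of invertible order acting on a smooth separated scheme is smooth.
-/

universe u v

open CategoryTheory CategoryTheory.Limits AlgebraicGeometry

namespace Groth.L19.FixedSmooth

set_option linter.style.haveILetI false
set_option backward.isDefEq.respectTransparency.types false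

section Algebra

variable {A B : Type u} [CommRing A] [CommRing B] [Algebra A B] {G : Type v} [Group G]
  (φ : G → (B →ₐ[A] B))

/-- The ideal cutting out the fixed points. -/
def fixIdeal : Ideal B := Ideal.span (Set.range fun p : G × B => φ p.1 p.2 - p.2)

theorem fixIdeal_mk (g : G) (b : B) :
    Ideal.Quotient.mk (fixIdeal φ) (φ g b) = Ideal.Quotient.mk (fixIdeal φ) b :=
  Ideal.Quotient.eq.2 (Ideal.subset_span ⟨(g, b), rfl⟩)

theorem fixIdeal_fg [Finite G] [Algebra.FiniteType A B] : (fixIdeal φ).FG := by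
  classical
  haveI := Fintype.ofFinite G
  obtain ⟨s, hs⟩ := (Algebra.FiniteType.out : (⊤ : Subalgebra A B).FG)
  refine ⟨(Finset.univ ×ˢ s).image fun p : G × B => φ p.1 p.2 - p.2, le_antisymm ?_ ?_⟩
  · refine Ideal.span_le.2 fun x hx => ?_
    obtain ⟨p, -, rfl⟩ := Finset.mem_image.1 hx
    exact Ideal.subset_span ⟨p, rfl⟩
  · refine Ideal.span_le.2 ?_
    rintro _ ⟨⟨g, b⟩, rfl⟩
    set J := Ideal.span ((((Finset.univ ×ˢ s).image fun p : G × B => φ p.1 p.2 - p.2) : Finset B) : Set B)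
    have h : (Ideal.Quotient.mkₐ A J).comp (φ g) = Ideal.Quotient.mkₐ A J := by
      refine AlgHom.ext_of_adjoin_eq_top hs fun x hx => ?_
      exact Ideal.Quotient.eq.2 (Ideal.subset_span (Finset.mem_image.2 ⟨(g, x), by simpa using hx, rfl⟩))
    exact Ideal.Quotient.eq.1 (AlgHom.congr_fun h b)

theorem exists_invariant_lift [Fintype G] (hmul : ∀ g h : G, (φ g).comp (φ h) = φ (h * g))
    {C : Type u} [CommRing C] [Algebra A C] (I : Ideal C) (hI : I ^ 2 = ⊥) {c : C}
    (hc : c * (Fintype.card G : C) = 1) (a : B →ₐ[A] C) (ha : ∀ g b, a (φ g b) - a b ∈ I) :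
    ∃ ψ : B →ₐ[A] C, (∀ g b, ψ (φ g b) = ψ b) ∧ ∀ b, ψ b - a b ∈ I := by
  have h0 : ∀ {x y : C}, x ∈ I → y ∈ I → x * y = 0 := fun hx hy => by
    have := Ideal.mul_mem_mul hx hy
    rwa [← pow_two, hI, Ideal.mem_bot] at this
  let f : B → C := fun b => c * ∑ g : G, a (φ g b)
  have hf : ∀ b, f b = a b + c * ∑ g : G, (a (φ g b) - a b) := fun b => by
    simp only [f, Finset.sum_sub_distrib, Finset.sum_const, Finset.card_univ, nsmul_eq_mul]
    linear_combination (a b) * hc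
  have hmem : ∀ b, c * ∑ g : G, (a (φ g b) - a b) ∈ I := fun b =>
    I.mul_mem_left _ (Ideal.sum_mem _ fun g _ => ha g b)
  have hfa : ∀ (r : A), f (algebraMap A B r) = algebraMap A C r := fun r => by simp [hf]
  let l : B →ₗ[A] C :=
    { toFun := f
      map_add' := fun x y => by simp [f, Finset.sum_add_distrib, mul_add]
      map_smul' := fun r x => by simp [f, ← Finset.smul_sum, mul_smul_comm] }
  refine ⟨AlgHom.ofLinearMap l (show f 1 = 1 by simpa using hfa 1) fun x y => ?_, fun g b => ?_, fun b => ?_⟩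
  · show f (x * y) = f x * f y
    have hsum : ∑ g : G, (a (φ g (x * y)) - a (x * y)) =
        a x * ∑ g : G, (a (φ g y) - a y) + a y * ∑ g : G, (a (φ g x) - a x) := by
      rw [Finset.mul_sum, Finset.mul_sum, ← Finset.sum_add_distrib]
      refine Finset.sum_congr rfl fun g _ => ?_
      simp only [map_mul]
      linear_combination h0 (ha g x) (ha g y)
    rw [hf, hf, hf, hsum, map_mul]
    linear_combination -h0 (hmem x) (hmem y)
  · show f (φ g b) = f b
    simp only [f]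
    congr 1
    refine Fintype.sum_equiv (Equiv.mulLeft g) _ _ fun h => ?_
    rw [Equiv.coe_mulLeft, ← hmul h g, AlgHom.comp_apply]
  · show f b - a b ∈ I
    rw [hf, add_sub_cancel_left]
    exact hmem b

theorem smooth_quotient [Finite G] (hmul : ∀ g h : G, (φ g).comp (φ h) = φ (h * g))
    (hcard : IsUnit (Nat.card G : A)) [Algebra.Smooth A B] : Algebra.Smooth A (B ⧸ fixIdeal φ) := by
  haveI := Fintype.ofFinite G
  haveI : Algebra.FinitePresentation A B := Algebra.Smooth.finitePresentation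
  haveI : Algebra.FormallySmooth A B := Algebra.Smooth.formallySmooth
  refine ⟨?_, Algebra.FinitePresentation.quotient (fixIdeal_fg φ)⟩
  rw [Algebra.FormallySmooth.iff_comp_surjective]
  intro C _ _ I hI f
  obtain ⟨a, ha⟩ := Algebra.FormallySmooth.comp_surjective A B I hI (f.comp (Ideal.Quotient.mkₐ A _))
  have hab : ∀ b, Ideal.Quotient.mk I (a b) = f (Ideal.Quotient.mk _ b) := fun b => AlgHom.congr_fun ha b
  obtain ⟨c, hc⟩ := (hcard.map (algebraMap A C)).exists_left_inv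
  rw [map_natCast, Nat.card_eq_fintype_card] at hc
  obtain ⟨ψ, hψ, hψa⟩ := exists_invariant_lift φ hmul I hI hc a fun g b =>
    Ideal.Quotient.eq.1 (by rw [hab, hab, fixIdeal_mk])
  have hker : ∀ x ∈ fixIdeal φ, ψ x = 0 := by
    have : fixIdeal φ ≤ RingHom.ker ψ.toRingHom := Ideal.span_le.2 (by
      rintro _ ⟨⟨g, b⟩, rfl⟩
      show ψ (φ g b - b) = 0
      rw [map_sub, hψ, sub_self])
    exact this
  refine ⟨Ideal.Quotient.liftₐ _ ψ hker, ?_⟩
  refine Ideal.Quotient.algHom_ext _ (AlgHom.ext fun b => ?_)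
  show Ideal.Quotient.mk I (ψ b) = f (Ideal.Quotient.mk _ b)
  rw [← hab]
  exact Ideal.Quotient.eq.2 (hψa b)

end Algebra

variable {X Z S : Scheme.{u}} (p : X ⟶ S) {G : Type v} [Group G] [Finite G] (σ : G → (X ⟶ X))

theorem smooth_fixed [Smooth p] [IsSeparated p] (hσ1 : σ 1 = 𝟙 X) (hσ : ∀ g h, σ (g * h) = σ h ≫ σ g)
    (hσp : ∀ g, σ g ≫ p = p) (hcard : IsUnit (Nat.card G : Γ(S, ⊤))) (i : Z ⟶ X) [IsClosedImmersion i]
    (hi : ∀ g, i ≫ σ g = i)
    (huniv : ∀ (T : Scheme.{u}) (x : T ⟶ X), (∀ g, x ≫ σ g = x) → ∃ z : T ⟶ Z, z ≫ i = x) :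
    Smooth (i ≫ p) := by
  classical
  haveI := Fintype.ofFinite G
  suffices ∀ z : Z, ∃ O : Z.Opens, z ∈ O ∧ Smooth (O.ι ≫ i ≫ p) by
    choose O hzO hO using this
    refine (IsZariskiLocalAtSource.iff_of_iSup_eq_top (P := @Smooth) O ?_).2 hO
    exact eq_top_iff.2 fun z _ => TopologicalSpace.Opens.mem_iSup.2 ⟨z, hzO z⟩
  intro z
  obtain ⟨_, ⟨V, hV, rfl⟩, hxV, -⟩ :=
    S.isBasis_affineOpens.exists_subset_of_mem_open (Set.mem_univ (p (i z))) isOpen_univ
  obtain ⟨_, ⟨U₀, hU₀, rfl⟩, hxU₀, hU₀Ω⟩ :=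
    X.isBasis_affineOpens.exists_subset_of_mem_open (show i z ∈ p ⁻¹ᵁ V from hxV) (p ⁻¹ᵁ V).2
  haveI : (p ⁻¹ᵁ V).toScheme.IsSeparated := by
    let V' : S.Opens := V
    haveI : IsAffine V'.toScheme := hV
    haveI : V'.toScheme.IsSeparated := inferInstance
    haveI : IsSeparated (p ∣_ V') := MorphismProperty.of_isPullback (isPullback_morphismRestrict p V').flip ‹IsSeparated p›
    exact ⟨by rw [← terminal.comp_from (p ∣_ V')]; infer_instance⟩
  have hiso : ∀ g, IsIso (σ g) := fun g =>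
    ⟨σ g⁻¹, by rw [← hσ, inv_mul_cancel, hσ1], by rw [← hσ, mul_inv_cancel, hσ1]⟩
  have hle : ∀ g, σ g ⁻¹ᵁ U₀ ≤ p ⁻¹ᵁ V := fun g x hx => by
    have : p (σ g x) ∈ V := hU₀Ω hx
    rwa [← Scheme.Hom.comp_apply, hσp] at this
  have haff : ∀ (s : Finset G) (hs : s.Nonempty), IsAffineOpen (s.inf fun g => σ g ⁻¹ᵁ U₀) ∧
      (s.inf fun g => σ g ⁻¹ᵁ U₀) ≤ p ⁻¹ᵁ V := by
    intro s hs
    induction hs using Finset.Nonempty.cons_induction with
    | singleton g =>
      haveI := hiso g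
      rw [Finset.inf_singleton]
      exact ⟨hU₀.preimage _, hle g⟩
    | cons g s hg hs ih =>
      haveI := hiso g
      rw [Finset.inf_cons]
      exact ⟨Groth.L16.LPsiRel.isAffineOpen_inf_of_separated (Ω := p ⁻¹ᵁ V) (hU₀.preimage _) ih.1
        (hle g) ih.2, inf_le_left.trans (hle g)⟩
  obtain ⟨hU, hUV⟩ := haff Finset.univ Finset.univ_nonempty
  set U : X.Opens := Finset.univ.inf fun g => σ g ⁻¹ᵁ U₀ with hUdef
  have mem_U : ∀ x : X, x ∈ U ↔ ∀ g, σ g x ∈ U₀ := fun x => by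
    show x ∈ ((Finset.univ.inf fun g => σ g ⁻¹ᵁ U₀ : X.Opens) : Set X) ↔ _
    rw [TopologicalSpace.Opens.coe_finset_inf, Finset.inf_set_eq_iInter]
    simp only [Set.mem_iInter, Finset.mem_univ, forall_true_left, Function.comp_apply]
    rfl
  have hinv : ∀ g, U ≤ σ g ⁻¹ᵁ U := fun g x hx => (mem_U _).2 fun h => by
    rw [← Scheme.Hom.comp_apply, ← hσ]
    exact (mem_U x).1 hx _
  have hzU : i z ∈ U := (mem_U _).2 fun g => by
    rw [← Scheme.Hom.comp_apply, hi]
    exact hxU₀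
  algebraize [(p.appLE V U hUV).hom]
  let φr : G → (Γ(X, U) ⟶ Γ(X, U)) := fun g => (σ g).appLE U U (hinv g)
  have hφmul : ∀ g h, φr h ≫ φr g = φr (h * g) := fun g h => by
    simp only [φr, Scheme.Hom.appLE_comp_appLE, ← hσ]
  have hφp : ∀ g, p.appLE V U hUV ≫ φr g = p.appLE V U hUV := fun g => by
    simp only [φr, Scheme.Hom.appLE_comp_appLE, hσp]
  let φ : G → (Γ(X, U) →ₐ[Γ(S, V)] Γ(X, U)) := fun g =>
    { (φr g).hom with commutes' := fun r => congr($(hφp g) r) }
  haveI : Algebra.Smooth Γ(S, V) Γ(X, U) := p.smooth_appLE hV hU hUV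
  haveI := smooth_quotient φ (fun g h => AlgHom.ext fun b => congr($(hφmul g h) b)) (by
    simpa using hcard.map (S.presheaf.map (homOfLE (le_top : V ≤ ⊤)).op).hom)
  let μ : CommRingCat.of Γ(X, U) ⟶ CommRingCat.of (Γ(X, U) ⧸ fixIdeal φ) :=
    CommRingCat.ofHom (Ideal.Quotient.mk (fixIdeal φ))
  haveI : IsClosedImmersion (Spec.map μ) := IsClosedImmersion.spec_of_surjective _ Ideal.Quotient.mk_surjective
  have hspec : ∀ g, hU.fromSpec ≫ σ g = Spec.map (φr g) ≫ hU.fromSpec := fun g =>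
    (hU.SpecMap_appLE_fromSpec (σ g) hU (hinv g)).symm
  obtain ⟨m, hm⟩ := huniv _ (Spec.map μ ≫ hU.fromSpec) fun g => by
    rw [Category.assoc, hspec, ← Spec.map_comp_assoc,
      show φr g ≫ μ = μ from CommRingCat.hom_ext (RingHom.ext fun b => fixIdeal_mk φ g b)]
  have hP : IsPullback m (Spec.map μ) i hU.fromSpec := by
    have key : ∀ c : PullbackCone i hU.fromSpec, ∃ l, l ≫ Spec.map μ = c.snd ∧ l ≫ m = c.fst := by
      intro c
      have hfix : ∀ g, c.snd ≫ Spec.map (φr g) = c.snd := fun g => by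
        rw [← cancel_mono hU.fromSpec, Category.assoc, ← hspec, ← Category.assoc, ← c.condition,
          Category.assoc, hi]
      have hker : ∀ x ∈ fixIdeal φ, (Groth.L19.Thick.γ c.snd).hom x = 0 := by
        have : fixIdeal φ ≤ RingHom.ker (Groth.L19.Thick.γ c.snd).hom := Ideal.span_le.2 (by
          rintro _ ⟨⟨g, b⟩, rfl⟩
          show (Groth.L19.Thick.γ c.snd).hom (φ g b - b) = 0
          rw [map_sub, sub_eq_zero]
          exact congr($((Groth.L19.Thick.γ_map c.snd (φr g)).symm.trans (congrArg _ (hfix g))) b))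
        exact this
      let lr : CommRingCat.of (Γ(X, U) ⧸ fixIdeal φ) ⟶ Γ(c.pt, ⊤) :=
        CommRingCat.ofHom (Ideal.Quotient.lift _ (Groth.L19.Thick.γ c.snd).hom hker)
      have h1 : (c.pt.toSpecΓ ≫ Spec.map lr) ≫ Spec.map μ = c.snd := by
        apply Groth.L19.Thick.γ_injective
        rw [Category.assoc, ← Spec.map_comp, Groth.L19.Thick.γ_mk]
        rfl
      refine ⟨_, h1, ?_⟩
      rw [← cancel_mono i, Category.assoc, hm, ← Category.assoc, h1, c.condition]
    exact IsPullback.of_isLimit' ⟨hm⟩ (PullbackCone.IsLimit.mk _ (fun c => (key c).choose)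
      (fun c => (key c).choose_spec.2) (fun c => (key c).choose_spec.1)
      fun c l _ h => (cancel_mono (Spec.map μ)).1 (h.trans (key c).choose_spec.1.symm))
  haveI : IsOpenImmersion m := MorphismProperty.of_isPullback hP.flip (inferInstance : IsOpenImmersion hU.fromSpec)
  refine ⟨m.opensRange, ?_, ?_⟩
  · obtain ⟨q, hq⟩ : i z ∈ Set.range hU.fromSpec := hU.range_fromSpec ▸ hzU
    obtain ⟨w, hw, -⟩ := Scheme.Pullback.exists_preimage_pullback z q hq.symm
    refine ⟨hP.isoPullback.inv w, ?_⟩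
    rw [← Scheme.Hom.comp_apply, hP.isoPullback_inv_fst]
    exact hw
  · have hB : (algebraMap Γ(S, V) (Γ(X, U) ⧸ fixIdeal φ)).Smooth := RingHom.smooth_algebraMap.2 inferInstance
    have h1 : m ≫ i ≫ p = Spec.map (CommRingCat.ofHom (algebraMap Γ(S, V) (Γ(X, U) ⧸ fixIdeal φ))) ≫ hV.fromSpec := by
      rw [reassoc_of% hm, ← hV.SpecMap_appLE_fromSpec p hU hUV, ← Spec.map_comp_assoc]
      rfl
    haveI : Smooth (Spec.map (CommRingCat.ofHom (algebraMap Γ(S, V) (Γ(X, U) ⧸ fixIdeal φ)))) :=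
      (HasRingHomProperty.Spec_iff (P := @Smooth)).2 hB
    haveI : Smooth (m ≫ i ≫ p) := by rw [h1]; infer_instance
    rw [← m.isoOpensRange_inv_comp_assoc]
    infer_instance

end Groth.L19.FixedSmooth
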