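import Groth.Agent.L18.ValCrit2
import Groth.Agent.L19.MonoValuative
import Groth.Agent.L19.ImmLift
import Groth.Agent.L19.Closure
import Groth.Prelude.Def_W4c2lssmoduliGProp
import Mathlib.AlgebraicGeometry.Morphisms.Finite
import Mathlib.AlgebraicGeometry.Morphisms.Proper
import Mathlib.AlgebraicGeometry.IdealSheaf.Subscheme

/-!
# Invariant morphisms through which a `G`-universally closed morphism factors
-/

set_option autoImplicit false
set_option linter.style.haveILetI false
set_option backward.isDefEq.respectTransparency.types false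
set_option backward.isDefEq.respectTransparency false

universe u

open CategoryTheory MonoidalCategory CartesianMonoidalCategory AlgebraicGeometry IsLocalRing Limits

noncomputable section

namespace Groth.L19.AlgGrpBasic.GUnivClosed

/-- A point in the image has a point over a finite extension. -/
theorem exists_finite_point {R S : Scheme.{u}} (f : R ⟶ S) [LocallyOfFiniteType f] [QuasiCompact f]
    {k : Type u} [Field k] (m : Spec (CommRingCat.of k) ⟶ S) (hm : m (closedPoint k) ∈ Set.range f) :
    ∃ (L : Type u) (_ : Field L) (j : k →+* L) (g : Spec (CommRingCat.of L) ⟶ R),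
      j.Finite ∧ g ≫ f = Spec.map (CommRingCat.ofHom j) ≫ m := by
  let P := pullback f m
  let p : P ⟶ Spec (CommRingCat.of k) := pullback.snd f m
  haveI : Nonempty P := by
    obtain ⟨r, hr⟩ := hm
    obtain ⟨z, -⟩ := Scheme.Pullback.exists_preimage_pullback (f := f) (g := m) r (closedPoint k) hr
    exact ⟨z⟩
  haveI : JacobsonSpace P := LocallyOfFiniteType.jacobsonSpace p
  obtain ⟨x, hx⟩ : (closedPoints P).Nonempty := by
    by_contra h
    have := closure_closedPoints (X := P)
    rw [Set.not_nonempty_iff_eq_empty.1 h, closure_empty] at this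
    exact Set.empty_ne_univ this
  haveI := isClosed_singleton_iff_isClosedImmersion.mp hx
  obtain ⟨φ, hφ⟩ := Spec.map_surjective (P.fromSpecResidueField x ≫ p)
  haveI : IsFinite (Spec.map φ) := by
    rw [hφ]
    exact (isFinite_iff_locallyOfFiniteType_of_jacobsonSpace (f := P.fromSpecResidueField x ≫ p)).mpr inferInstance
  refine ⟨P.residueField x, inferInstance, φ.hom, P.fromSpecResidueField x ≫ pullback.fst f m,
    (IsFinite.SpecMap_iff φ).1 inferInstance, ?_⟩
  rw [Category.assoc, pullback.condition, ← Category.assoc]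
  exact congrArg (· ≫ m) hφ.symm

/-- A discrete valuation ring extends to finite extensions. -/
theorem exists_dvr_above {k L : Type u} [Field k] [Field L] (j : k →+* L) (hj : j.Finite)
    (W : ValuationSubring k) [IsDiscreteValuationRing W] :
    ∃ W' : ValuationSubring L, IsDiscreteValuationRing W' ∧ (∀ w : W, j w ∈ W') ∧
      ∀ z, j z ∈ W' → z ∈ W := by
  letI := j.toAlgebra
  haveI : Module.Finite k L := hj
  letI : Algebra W L := (j.comp W.subtype).toAlgebra
  haveI : IsScalarTower W k L := IsScalarTower.of_algebraMap_eq fun _ => rfl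
  obtain ⟨s, hs⟩ := ‹Module.Finite k L›.fg_top
  have hadj : IntermediateField.adjoin k (s : Set L) = ⊤ := by
    refine eq_top_iff.2 fun z _ => ?_
    have hle : Submodule.span k (s : Set L) ≤ (IntermediateField.adjoin k (s : Set L)).toSubalgebra.toSubmodule :=
      Submodule.span_le.2 (IntermediateField.subset_adjoin k _)
    exact hle (hs ▸ Submodule.mem_top)
  have hgen := Groth.L18.closure_range_union_eq_top (A := W) (L := L) k hadj
  have hinj : Function.Injective (algebraMap W L) := j.injective.comp Subtype.val_injective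
  obtain ⟨W', hW', hmem, hval⟩ := Groth.L18.exists_isDiscreteValuationRing_dominating s.finite_toSet hgen (by
    rw [(RingHom.injective_iff_ker_eq_bot _).1 hinj]
    exact fun h => IsDiscreteValuationRing.not_a_field W h.symm)
  refine ⟨W', hW', hmem, fun z hz => ?_⟩
  rcases W.mem_or_inv_mem z with h | h
  · exact h
  by_contra hzW
  have hz0 : z ≠ 0 := fun e => hzW (e ▸ W.zero_mem)
  have hnu : (⟨z⁻¹, h⟩ : W) ∈ maximalIdeal W := by
    intro hu
    obtain ⟨v, hv⟩ := hu.exists_right_inv
    have h1 : z⁻¹ * (v : k) = 1 := congrArg Subtype.val hv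
    exact hzW ((inv_eq_iff_eq_inv.1 (eq_inv_of_mul_eq_one_left h1) ▸ (by simpa using v.2)))
  have h2 := hval _ hnu
  have h3 := (W'.valuation_le_one_iff _).2 hz
  change W'.valuation (j z⁻¹) < 1 at h2
  rw [map_inv₀, map_inv₀, inv_lt_one₀ (zero_lt_iff.mpr ((map_ne_zero _).mpr ((map_ne_zero j).mpr hz0)))] at h2
  exact absurd h3 (not_le.mpr h2)

variable {k₀ : Type u} [CommRing k₀] {G R S T : Over (Spec (CommRingCat.of k₀))} [GrpObj G]
  (a : AlgGrp.Action G R) (f : R ⟶ S) (q : S ⟶ T) [LocallyOfFiniteType f.left] [QuasiCompact f.left]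

/-- Arcs lift to arcs ending in the image. -/
theorem exists_arc (hf : W4c2lssmoduli.IsInvariantMor a f) (hp : W4c2lssmoduli.IsGUnivClosed a (f ≫ q))
    {k : Type u} [Field k] (W : ValuationSubring k) [IsDiscreteValuationRing W]
    (m : Spec (CommRingCat.of k) ⟶ S.left) (hm : m (closedPoint k) ∈ Set.range f.left)
    (h : Spec (CommRingCat.of W) ⟶ T.left) (hh : Spec.map (CommRingCat.ofHom W.subtype) ≫ h = m ≫ q.left) :
    ∃ t : Spec (CommRingCat.of W) ⟶ S.left, t ≫ q.left = h ∧ Spec.map (CommRingCat.ofHom W.subtype) ≫ t = m ∧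
      t (closedPoint W) ∈ Set.range f.left := by
  obtain ⟨L, _, j, g₀, hj, hg₀⟩ := exists_finite_point f.left m hm
  obtain ⟨W', _, hmem, hV⟩ := exists_dvr_above j hj W
  let ρ : W →+* W' := (j.comp W.subtype).codRestrict W'.toSubring hmem
  have hρ : ∀ v : W, W'.subtype (ρ v) = j v := fun v => rfl
  have hV' : ∀ z, j z ∈ W'.subtype.range → z ∈ W := fun z ⟨r, hr⟩ => hV z (hr ▸ r.2)
  have hsub : CommRingCat.ofHom W.subtype ≫ CommRingCat.ofHom j =
      CommRingCat.ofHom ρ ≫ CommRingCat.ofHom W'.subtype := rfl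
  let sA : Spec (CommRingCat.of W') ⟶ Spec (CommRingCat.of k₀) := Spec.map (CommRingCat.ofHom ρ) ≫ h ≫ T.hom
  have halg : algebraMap W' L = W'.subtype := rfl
  let g : Over.mk (Spec.map (CommRingCat.ofHom (algebraMap W' L)) ≫ sA) ⟶ R := Over.homMk g₀ (by
    show g₀ ≫ R.hom = Spec.map (CommRingCat.ofHom (algebraMap W' L)) ≫ sA
    rw [← Over.w f, reassoc_of% hg₀, ← Over.w q, ← reassoc_of% hh, halg]
    simp only [sA, ← Spec.map_comp_assoc, hsub])
  let h' : Over.mk sA ⟶ T := Over.homMk (Spec.map (CommRingCat.ofHom ρ) ≫ h) (Category.assoc _ _ _)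
  obtain ⟨i, γ, hi, hγ⟩ := hp.2 W' L sA g h' (Over.OverMorphism.ext (by
    show g₀ ≫ f.left ≫ q.left = Spec.map (CommRingCat.ofHom (algebraMap W' L)) ≫ Spec.map (CommRingCat.ofHom ρ) ≫ h
    rw [reassoc_of% hg₀, ← hh, halg]
    simp only [← Spec.map_comp_assoc, hsub]))
  have hgen : Spec.map (CommRingCat.ofHom W'.subtype) ≫ i.left ≫ f.left = Spec.map (CommRingCat.ofHom j) ≫ m := by
    have e : lift γ g ≫ a.act ≫ f = g ≫ f := by rw [hf, lift_snd_assoc]
    have := congrArg CommaMorphism.left ((congrArg (· ≫ f) hγ).trans ((Category.assoc _ _ _).trans e))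
    exact ((Category.assoc _ _ _).symm.trans this).trans hg₀
  obtain ⟨t, ⟨ht₁, ht₂⟩, -⟩ := Groth.L18.existsUnique_descend (X := S.left) W'.subtype j W ρ
    Subtype.val_injective hρ hV' m (i.left ≫ f.left) hgen
  haveI := Groth.L18.isLocalHom_descend W'.subtype j W ρ Subtype.val_injective hρ hV'
  refine ⟨t, ?_, ht₂, ⟨i.left (closedPoint W'), ?_⟩⟩
  · obtain ⟨u, -, hu⟩ := Groth.L18.existsUnique_descend (X := T.left) W'.subtype j W ρ
      Subtype.val_injective hρ hV' (m ≫ q.left) (Spec.map (CommRingCat.ofHom ρ) ≫ h) (by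
        rw [← hh]; simp only [← Spec.map_comp_assoc, hsub])
    refine (hu (t ≫ q.left) ⟨?_, by rw [reassoc_of% ht₂]⟩).trans (hu h ⟨rfl, hh⟩).symm
    rw [reassoc_of% ht₁]
    exact congrArg CommaMorphism.left hi
  · rw [← Groth.L18.apply_closedPoint_of_isLocalHom ρ t, ht₁]
    rfl

theorem isDominant_subtype {k : Type u} [Field k] (W : ValuationSubring k) :
    IsDominant (Spec.map (CommRingCat.ofHom W.subtype)) := by
  refine ⟨?_⟩
  show DenseRange (PrimeSpectrum.comap W.subtype)
  rw [PrimeSpectrum.denseRange_comap_iff_ker_le_nilRadical, (RingHom.injective_iff_ker_eq_bot _).1 Subtype.val_injective]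
  exact bot_le

theorem range_subset_of_closed {k : Type u} [Field k] {X : Scheme.{u}} (W : ValuationSubring k)
    (t : Spec (CommRingCat.of W) ⟶ X) {C : Set X} (hC : IsClosed C)
    (h : (Spec.map (CommRingCat.ofHom W.subtype) ≫ t) (closedPoint k) ∈ C) : Set.range t ⊆ C := by
  haveI := isDominant_subtype W
  rw [← Set.image_univ, ← (Spec.map (CommRingCat.ofHom W.subtype)).denseRange.closure_range]
  refine (image_closure_subset_closure_image t.continuous).trans (hC.closure_subset_iff.2 ?_)
  rintro _ ⟨_, ⟨p, rfl⟩, rfl⟩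
  rw [show p = closedPoint k from Subsingleton.elim (α := PrimeSpectrum k) _ _]
  exact h

/-- The image is closed. -/
theorem isClosed_range (hf : W4c2lssmoduli.IsInvariantMor a f) (hp : W4c2lssmoduli.IsGUnivClosed a (f ≫ q))
    [IsLocallyNoetherian S.left] [IsSeparated q.left] : IsClosed (Set.range f.left) := by
  rw [← closure_subset_iff_isClosed]
  intro z hz
  obtain ⟨r, hr⟩ := Groth.L19.exists_specializes_of_mem_closure_range f.left hz
  by_cases hne : f.left r = z
  · exact ⟨r, hne⟩
  obtain ⟨W, t₀, _, h₀, h₁⟩ := exists_dvr_through hr hne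
  obtain ⟨t, ht, hm, hc⟩ := exists_arc a f q hf hp W (Spec.map (CommRingCat.ofHom W.subtype) ≫ t₀)
    ⟨r, h₁.symm⟩ (t₀ ≫ q.left) (Category.assoc _ _ _).symm
  haveI := isDominant_subtype W
  rw [← h₀, ← ext_of_isDominant_of_isSeparated q.left ht (Spec.map (CommRingCat.ofHom W.subtype)) hm]
  exact hc

/-- A closed subscheme supported on the image is universally closed over the target. -/
theorem universallyClosed_comp (hf : W4c2lssmoduli.IsInvariantMor a f) (hp : W4c2lssmoduli.IsGUnivClosed a (f ≫ q))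
    {Z : Scheme.{u}} (c : Z ⟶ S.left) [IsClosedImmersion c] (hc : Set.range c = Set.range f.left)
    [IsLocallyNoetherian T.left] [LocallyOfFiniteType (c ≫ q.left)] [QuasiCompact (c ≫ q.left)] :
    UniversallyClosed (c ≫ q.left) := by
  refine Groth.L18.universallyClosed_of_dvrLift _ fun x W _ h hh => ?_
  let m := Z.fromSpecResidueField x ≫ c
  have hm : m (closedPoint (Z.residueField x)) ∈ Set.range f.left := hc ▸ ⟨_, rfl⟩
  obtain ⟨t, ht, htm, -⟩ := exists_arc a f q hf hp W m hm h (hh.trans (Category.assoc _ _ _).symm)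
  have hr : Set.range t ⊆ Set.range c :=
    range_subset_of_closed W t c.isClosedEmbedding.isClosed_range (by rw [htm]; exact ⟨_, rfl⟩)
  obtain ⟨l, hl⟩ := Groth.L19.exists_lift_of_isImmersion c t hr
  refine ⟨l, by rw [← Category.assoc, hl, ht], ?_⟩
  rw [← cancel_mono c, Category.assoc, hl, htm]

end Groth.L19.AlgGrpBasic.GUnivClosed
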