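import Groth.Agent.S13371
import Groth.Agent.L25.Locus.FixedConn
import Groth.Agent.L25.Locus.Torus
import Groth.Agent.L25.SplitSub.Map
import Groth.Prelude.Def_ActBC

/-!
# Homomorphisms from the additive group to a torus are trivial
-/

set_option autoImplicit false
set_option linter.style.haveILetI false
set_option backward.isDefEq.respectTransparency.types false

universe u

open CategoryTheory CategoryTheory.Limits MonoidalCategory CartesianMonoidalCategory MonObj AlgebraicGeometry

namespace Groth.L19.AlgGrpBasic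

/-- A point of a diagonalisable group killed by all characters is trivial. -/
theorem eq_one_of_forall_char {S : Scheme.{u}} {T : Over S} {M : Type} [AddCommGroup M] (t : T ⟶ Red.DS S M)
    (h : ∀ φ : ℤ →+ M, t ≫ Red.DSmap S φ = 1) : t = 1 := by
  refine Groth.L25.DSPts.char_injective (MonoidHom.ext fun m => ?_)
  have h2 := congrArg Groth.L25.DSPts.char (h (zmultiplesHom M (Multiplicative.toAdd m)))
  rw [Groth.L25.SplitSub.char_DSmap, Groth.L25.DSPts.char_one] at h2
  rw [Groth.L25.DSPts.char_one]
  simpa using DFunLike.congr_fun h2 (Multiplicative.ofAdd (1 : ℤ))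

/-- A homomorphism from the additive group to a torus over a field is trivial. -/
theorem hom_Ga_torus_eq_one {k : Type u} [Field k] {T : Over (Spec (CommRingCat.of k))} [GrpObj T] (hT : Red.IsTorus T)
    (g : Red.Ga (Spec (CommRingCat.of k)) ⟶ T) [IsMonHom g] : g = 1 := by
  obtain ⟨K₀, _, _, r, ⟨eT⟩⟩ := Groth.L25.Dyn.exists_field_split hT
  have : IsAffineHom T.hom := Groth.L25.Central.isAffineHom_of_multTypeFT (Groth.L25.Locus.isMultTypeFT_of_isTorus hT)
  haveI : IsSeparated T.hom := inferInstance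
  let θ := Spec.map (CommRingCat.ofHom (algebraMap k K₀))
  haveI : Surjective θ := ⟨fun x => ⟨(default : PrimeSpectrum K₀), Subsingleton.elim (α := PrimeSpectrum k) _ _⟩⟩
  let X := Red.Ga (Spec (CommRingCat.of k))
  let gK := (Over.pullback θ).map g
  let iso := ActBC.bcCompIso θ (GmPts.toBaseZ (Spec (CommRingCat.of k))) Red.GaZ
    (d := GmPts.toBaseZ (Spec (CommRingCat.of K₀))) (specULiftZIsTerminal.hom_ext _ _)
  let eh : Red.bc θ T ⟶ Red.DS _ (Fin r → ℤ) := eT.hom.hom.hom
  haveI : IsMonHom eh := eT.hom.hom.isMonHom_hom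
  have hK : gK ≫ eh = 1 := by
    refine eq_one_of_forall_char (gK ≫ eh) fun φ => ?_
    let v : Red.DS (Spec (CommRingCat.of K₀)) (Fin r → ℤ) ⟶ Red.Gm (Spec (CommRingCat.of K₀)) := Red.DSmap _ φ
    haveI : IsMonHom v := Groth.L25.TorusTorsion.isMonHom_DSmap (Spec (CommRingCat.of K₀)) φ
    haveI : IsMonHom iso.inv := inferInstance
    have h0 : (iso.inv ≫ gK ≫ eh ≫ v) = 1 :=
      Groth.Agent.S13371.result (Spec (CommRingCat.of K₀)) (iso.inv ≫ gK ≫ eh ≫ v)
    show (gK ≫ eh) ≫ v = 1
    rw [← cancel_epi iso.inv, Category.assoc, h0, MonObj.comp_one]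
  have hgK : gK = 1 := by
    rw [← Category.comp_id gK, show 𝟙 (Red.bc θ T) = eh ≫ eT.inv.hom.hom from congr($(eT.hom_inv_id).hom.hom).symm,
      ← Category.assoc, hK]
    haveI : IsMonHom eT.inv.hom.hom := eT.inv.hom.isMonHom_hom
    exact MonObj.one_comp _
  haveI : Flat θ := (HasRingHomProperty.Spec_iff (P := @Flat)).2 (RingHom.flat_algebraMap_iff.2 inferInstance)
  haveI : Flat (pullback.fst X.hom θ) := inferInstance
  haveI : QuasiCompact (pullback.fst X.hom θ) := inferInstance
  haveI : Surjective (pullback.fst X.hom θ) := inferInstance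
  haveI : Epi (pullback.fst X.hom θ) := inferInstance
  apply Over.OverMorphism.ext
  rw [← cancel_epi (pullback.fst X.hom θ)]
  have h3 : gK.left ≫ pullback.fst T.hom θ = ((Over.pullback θ).map (1 : X ⟶ T)).left ≫ pullback.fst T.hom θ := by
    rw [hgK, CategoryTheory.Functor.map_one]
  rwa [show gK.left ≫ pullback.fst T.hom θ = pullback.fst X.hom θ ≫ g.left from pullback.lift_fst _ _ _,
    show ((Over.pullback θ).map (1 : X ⟶ T)).left ≫ pullback.fst T.hom θ =
      pullback.fst X.hom θ ≫ (1 : X ⟶ T).left from pullback.lift_fst _ _ _] at h3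

end Groth.L19.AlgGrpBasic
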