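import Groth.Agent.L19.AlgGrpBasic.LineFixed
import Groth.Agent.L16.SecComp.Smooth
import Groth.Agent.L08.FlatHom
import Groth.Agent.L08.AbelianGrp
import Groth.Agent.L08.DeligneScheme
import Groth.Agent.L25.DescHom
import Groth.Agent.L25.Bridge.Spec
import Groth.Agent.L09.Stack.ReducedSub
import Groth.Agent.L26.AV.Hom
import Groth.Agent.S15180
import Groth.Prelude.Def_CoactBr

/-!
# Isogenies and the multiplicative group
-/

set_option autoImplicit false
set_option backward.isDefEq.respectTransparency.types false
set_option linter.style.haveILetI false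
universe u

open CategoryTheory CategoryTheory.Limits MonoidalCategory CartesianMonoidalCategory MonObj GrpObj AlgebraicGeometry
open scoped TensorProduct

noncomputable section

namespace Groth.L19.AlgGrpBasic

variable {k : Type u} [Field k]

/-- A morphism from a connected reduced scheme to a finite group scheme killing a rational point is trivial. -/
theorem eq_one_of_connected {X N : Over (Spec (CommRingCat.of k))} [GrpObj N] [IsFinite N.hom]
    [ConnectedSpace X.left] [IsReduced X.left] (c : X ⟶ N) (x : 𝟙_ (Over (Spec (CommRingCat.of k))) ⟶ X)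
    (hx : x ≫ c = 1) : c = 1 := by
  haveI : DiscreteTopology N.left := by
    obtain ⟨w⟩ : Nonempty (Spec (CommRingCat.of k)) := inferInstance
    have h := N.hom.isDiscrete_preimage_singleton w
    rwa [show N.hom ⁻¹' {w} = Set.univ from Set.eq_univ_of_forall fun y =>
      Subsingleton.elim (α := PrimeSpectrum k) (N.hom y) w, isDiscrete_univ_iff] at h
  let o : Spec (CommRingCat.of k) ⟶ N.left := η[N].left
  have ho : o ≫ N.hom = 𝟙 _ := Over.w η[N]
  haveI : IsClosedImmersion (o ≫ N.hom) := by rw [ho]; infer_instance
  haveI : IsClosedImmersion o := IsClosedImmersion.of_comp o N.hom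
  obtain ⟨z⟩ : Nonempty (Spec (CommRingCat.of k)) := inferInstance
  have hr : Set.range c.left ⊆ Set.range o := by
    rintro _ ⟨y, rfl⟩
    refine ⟨z, ?_⟩
    have h1 : c.left (x.left z) = o z := by
      rw [← Scheme.Hom.comp_apply, ← Over.comp_left, hx, Hom.one_def, toUnit_unit, Category.id_comp]
    rw [← h1]
    exact PreconnectedSpace.constant inferInstance c.left.continuous
  obtain ⟨l, hl⟩ := Groth.L09.Stack.exists_factor_of_reduced o c.left hr
  refine Over.OverMorphism.ext ?_
  have hl' : l = X.hom := by
    rw [← Over.w c, ← hl, Category.assoc, ho, Category.comp_id]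
  rw [← hl, hl', Hom.one_def, Over.comp_left]
  congr 1

/-- The powers of the generic point of a diagonalisable group. -/
theorem pow_pt_monoidAlgebra (R : Type u) [CommRing R] (M : Type) [AddCommGroup M] (r : ℕ) :
    (𝟙 (CoactBr.sp R (MonoidAlgebra R (Multiplicative M))) : _ ⟶ _) ^ r =
      CoactBr.pt (MonoidAlgebra.mapDomainAlgHom R R (powMonoidHom r : Multiplicative M →* Multiplicative M)) := by
  induction r with
  | zero =>
    rw [pow_zero, CoactBr.one_eq_pt]
    congr 1
    refine MonoidAlgebra.algHom_ext (fun m => ?_) (Subsingleton.elim _ _)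
    simp [MonoidAlgebra.mapDomainAlgHom]
  | succ r ih =>
    rw [pow_succ, ih, ← CoactBr.pt_id, CoactBr.pt_mul_pt]
    congr 1
    refine MonoidAlgebra.algHom_ext (fun m => ?_) (Subsingleton.elim _ _)
    simp [pow_succ, MonoidAlgebra.single_mul_single, MonoidAlgebra.mapDomainAlgHom]

/-- Powers on a split diagonalisable group are finite and surjective. -/
theorem pow_DS_props (M : Type) [AddCommGroup M] [AddGroup.FG M] [IsAddTorsionFree M] (r : ℕ) (hr : 1 ≤ r) :
    Surjective ((𝟙 (Red.DS (Spec (CommRingCat.of k)) M) : _ ⟶ _) ^ r).left ∧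
      IsFinite ((𝟙 (Red.DS (Spec (CommRingCat.of k)) M) : _ ⟶ _) ^ r).left := by
  let A := MonoidAlgebra k (Multiplicative M)
  let e' := Groth.L25.Bridge.dsIso k M
  let e : Red.DS (Spec (CommRingCat.of k)) M ≅ CoactBr.sp k A := (Grp.forget _).mapIso e'
  haveI : IsMonHom e.hom := e'.hom.hom.isMonHom_hom
  have he : (𝟙 (Red.DS (Spec (CommRingCat.of k)) M) : _ ⟶ _) ^ r =
      e.hom ≫ ((𝟙 (CoactBr.sp k A) : _ ⟶ _) ^ r) ≫ e.inv := by
    rw [← Category.assoc, MonObj.comp_pow, Category.comp_id, Iso.eq_comp_inv, MonObj.pow_comp, Category.id_comp]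
  haveI : IsIso e.hom.left := inferInstanceAs (IsIso ((Over.forget _).map e.hom))
  haveI : IsIso e.inv.left := inferInstanceAs (IsIso ((Over.forget _).map e.inv))
  let φ : A →ₐ[k] A := MonoidAlgebra.mapDomainAlgHom k k (powMonoidHom r : Multiplicative M →* Multiplicative M)
  have hint : φ.toRingHom.IsIntegral := by
    intro y
    letI := φ.toRingHom.toAlgebra
    change IsIntegral A y
    induction y using MonoidAlgebra.induction_linear with
    | zero => exact isIntegral_zero
    | add a b ha hb => exact ha.add hb
    | single m c =>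
      have h1 : (MonoidAlgebra.single m c : A) = φ (algebraMap k A c) * MonoidAlgebra.single m 1 := by
        rw [AlgHom.commutes]
        show (MonoidAlgebra.single m c : MonoidAlgebra k (Multiplicative M)) =
          algebraMap k (MonoidAlgebra k (Multiplicative M)) c * MonoidAlgebra.single m 1
        simp [MonoidAlgebra.coe_algebraMap, MonoidAlgebra.single_mul_single]
      rw [h1]
      refine (isIntegral_algebraMap (R := A) (A := A) (x := algebraMap k A c)).mul ?_
      refine IsIntegral.of_pow hr ?_
      have h2 : (MonoidAlgebra.single m 1 : A) ^ r = φ (MonoidAlgebra.single m 1) := by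
        simp [φ, MonoidAlgebra.single_pow, MonoidAlgebra.mapDomainAlgHom]
        show _ = MonoidAlgebra.mapDomain (powMonoidHom r) (MonoidAlgebra.single m (1 : k))
        simp
      rw [h2]
      exact isIntegral_algebraMap (R := A) (A := A) (x := MonoidAlgebra.single m 1)
  have hinj : Function.Injective φ := by
    change Function.Injective (MonoidAlgebra.mapDomainAlgHom k k (powMonoidHom r : Multiplicative M →* Multiplicative M))
    intro a b hab
    refine MonoidAlgebra.mapDomain_injective ?_ hab
    intro x y hxy
    have : r • x.toAdd = r • y.toAdd := congrArg Multiplicative.toAdd hxy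
    exact Multiplicative.toAdd.injective (nsmul_right_injective (by omega) this)
  haveI : Algebra.FiniteType k A := inferInstance
  have hfin : φ.toRingHom.Finite :=
    hint.to_finite (RingHom.FiniteType.of_comp_finiteType (f := algebraMap k A) (by
      rw [show φ.toRingHom.comp (algebraMap k A) = algebraMap k A from φ.comp_algebraMap]
      exact RingHom.finiteType_algebraMap.2 inferInstance))
  haveI h3 : IsFinite (CoactBr.pt φ).left :=
    (IsFinite.SpecMap_iff (CommRingCat.ofHom φ.toRingHom)).2 hfin
  haveI h4 : Surjective (CoactBr.pt φ).left :=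
    ⟨hint.comap_surjective hinj⟩
  rw [he, pow_pt_monoidAlgebra, Over.comp_left, Over.comp_left]
  exact ⟨inferInstance, inferInstance⟩

/-- A group receiving an isogeny from `G_m` is `G_m`. -/
theorem exists_iso_Gm_of_surjective {H : Over (Spec (CommRingCat.of k))} [GrpObj H] [IsReduced H.left]
    [IsAffineHom H.hom] (g : Red.Gm (Spec (CommRingCat.of k)) ⟶ H) [IsMonHom g] [IsFinite g.left] [Surjective g.left] :
    Nonempty (Grp.mk H ≅ Grp.mk (Red.Gm (Spec (CommRingCat.of k)))) := by
  haveI : Flat g.left := Groth.L08.FlatHom.flat_of_surjective _ H g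
  obtain ⟨N, gN, i, _, _, -, hN⟩ := Groth.L08.AbelianGrp.exists_kernel g
  haveI : IsFinite N.hom := by
    have h := hN.map (Over.forget _)
    have h1 : IsFinite (toUnit N).left := MorphismProperty.of_isPullback h ‹IsFinite g.left›
    rwa [← Over.w (toUnit N), show (𝟙_ (Over (Spec (CommRingCat.of k)))).hom = 𝟙 _ from rfl, Category.comp_id]
  haveI : Mono i := Over.mono_of_mono_left i
  obtain ⟨φ, _, hφ, _, _⟩ := Groth.Agent.S15180.result k (Red.Gm (Spec (CommRingCat.of k))) N
    (Or.inr ⟨Iso.refl _⟩) i
  haveI : IsAffineHom (Red.Gm (Spec (CommRingCat.of k))).hom := by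
    rw [← Over.w g]; infer_instance
  haveI : IsAffineHom φ.left := by
    haveI : IsAffineHom (φ.left ≫ (Red.Gm (Spec (CommRingCat.of k))).hom) := by rw [Over.w φ]; infer_instance
    exact IsAffineHom.of_comp φ.left (Red.Gm (Spec (CommRingCat.of k))).hom
  have cg := Groth.L25.DescHom.cov_of_flat g
  have cφ := Groth.L25.DescHom.cov_of_flat φ
  obtain ⟨a, _, ha⟩ := Groth.L25.DescHom.exists_desc_hom i g cg hN φ (by rw [hφ.w, ← Hom.one_def])
  obtain ⟨b, _, hb⟩ := Groth.L25.DescHom.exists_desc_hom i φ cφ hφ g (by rw [hN.w, ← Hom.one_def])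
  let e : H ≅ Red.Gm (Spec (CommRingCat.of k)) :=
    { hom := a
      inv := b
      hom_inv_id := Groth.L27.Torsor.cancel cg (by rw [← Category.assoc, ha, hb, Category.comp_id])
      inv_hom_id := Groth.L27.Torsor.cancel cφ (by rw [← Category.assoc, hb, ha, Category.comp_id]) }
  haveI : IsMonHom e.hom := ‹IsMonHom a›
  exact ⟨Grp.mkIso' e⟩

end Groth.L19.AlgGrpBasic
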