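import Groth.Agent.L25.Actions
import Groth.Agent.L23.QFDescent
import Groth.Prelude.Def_W4bk4git07Quot
import Mathlib.AlgebraicGeometry.Morphisms.FlatDescent

/-!
# Bundles trivialised by a faithfully flat chart
-/

set_option autoImplicit false
set_option linter.style.haveILetI false
set_option backward.isDefEq.respectTransparency.types false
set_option backward.isDefEq.respectTransparency false

universe u

open CategoryTheory MonoidalCategory CartesianMonoidalCategory MonObj AlgebraicGeometry Limits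

noncomputable section

namespace Groth.L19.AlgGrpBasic.Isotrivial

variable {S : Scheme.{u}} {G P X C : Over S} [GrpObj G] (a : AlgGrp.Action G P) (π : P ⟶ X)
  (ν : C ⟶ X) (s : C ⟶ P)
  (hpb : IsPullback (fst C G).left (lift (snd C G) (fst C G ≫ s) ≫ a.act).left ν.left π.left)

include hpb in
theorem existsUnique_coord {T : Over S} (x : T ⟶ P) (u : T ⟶ C) (hx : x ≫ π = u ≫ ν) :
    ∃! g : T ⟶ G, lift g (u ≫ s) ≫ a.act = x := by
  have key : ∀ g : T ⟶ G,
      lift u g ≫ (lift (snd C G) (fst C G ≫ s) ≫ a.act) = lift g (u ≫ s) ≫ a.act := fun g => by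
    rw [← Category.assoc, comp_lift, lift_snd, lift_fst_assoc]
  let γ : T ⟶ C ⊗ G := Over.homMk (hpb.lift u.left x.left (congrArg CommaMorphism.left hx.symm)) (by
    have e : (fst C G).left ≫ C.hom = (C ⊗ G).hom := Over.w _
    rw [← e, ← Category.assoc, hpb.lift_fst]
    exact Over.w u)
  have h1 : γ ≫ fst C G = u := Over.OverMorphism.ext (hpb.lift_fst _ _ _)
  have h2 : γ ≫ (lift (snd C G) (fst C G ≫ s) ≫ a.act) = x := Over.OverMorphism.ext (hpb.lift_snd _ _ _)
  have h0 : lift u (γ ≫ snd C G) = γ := by rw [← h1, lift_comp_fst_snd]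
  refine ⟨γ ≫ snd C G, ?_, fun g hg => ?_⟩
  · show lift (γ ≫ snd C G) (u ≫ s) ≫ a.act = x
    rw [← key, h0, h2]
  · have e : lift u g = γ := by
      refine Over.OverMorphism.ext (hpb.hom_ext ?_ ?_)
      · exact (congrArg CommaMorphism.left (lift_fst u g)).trans (congrArg CommaMorphism.left h1).symm
      · exact (congrArg CommaMorphism.left ((key g).trans hg)).trans (congrArg CommaMorphism.left h2).symm
    rw [← e, lift_snd]

include hpb in
theorem existsUnique_translator {T : Over S} (x y : T ⟶ P) (u : T ⟶ C) (hx : x ≫ π = u ≫ ν)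
    (hy : y ≫ π = u ≫ ν) : ∃! g : T ⟶ G, lift g y ≫ a.act = x := by
  obtain ⟨g, hg, hgu⟩ := existsUnique_coord a π ν s hpb x u hx
  obtain ⟨h, hh, -⟩ := existsUnique_coord a π ν s hpb y u hy
  refine ⟨g * h⁻¹, ?_, fun g' hg' => ?_⟩
  · show lift (g * h⁻¹) y ≫ a.act = x
    rw [← hh, ← Groth.L25.Actions.mul_act, inv_mul_cancel_right, hg]
  · refine eq_mul_inv_of_mul_eq (hgu _ ?_)
    show lift (g' * h) (u ≫ s) ≫ a.act = x
    rw [Groth.L25.Actions.mul_act, hh]
    exact hg'

include hpb in
theorem isIso_psiY_baseChange (hinv : GIT.IsInvariant a π) :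
    IsIso (pullback.snd (GIT.PsiY a π hinv) (pullback.fst (pullback.snd π.left π.left ≫ π.left) ν.left)) := by
  let c : pullback π.left π.left ⟶ X.left := pullback.snd π.left π.left ≫ π.left
  let r := pullback.fst c ν.left
  let T₀ : Over S := Over.mk (r ≫ pullback.snd π.left π.left ≫ P.hom)
  let x : T₀ ⟶ P := Over.homMk (r ≫ pullback.fst π.left π.left) (by
    show (r ≫ pullback.fst π.left π.left) ≫ P.hom = r ≫ pullback.snd π.left π.left ≫ P.hom
    rw [Category.assoc, ← Over.w π, pullback.condition_assoc])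
  let y : T₀ ⟶ P := Over.homMk (r ≫ pullback.snd π.left π.left) (Category.assoc _ _ _)
  let u : T₀ ⟶ C := Over.homMk (pullback.snd c ν.left) (by
    show pullback.snd c ν.left ≫ C.hom = r ≫ pullback.snd π.left π.left ≫ P.hom
    rw [← Over.w ν, ← pullback.condition_assoc, ← Over.w π]
    simp [c, r])
  have hx : x ≫ π = u ≫ ν := Over.OverMorphism.ext (by
    show (r ≫ pullback.fst π.left π.left) ≫ π.left = pullback.snd c ν.left ≫ ν.left
    rw [← pullback.condition (f := c), Category.assoc, pullback.condition])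
  have hy : y ≫ π = u ≫ ν := Over.OverMorphism.ext (by
    show (r ≫ pullback.snd π.left π.left) ≫ π.left = pullback.snd c ν.left ≫ ν.left
    rw [← pullback.condition (f := c), Category.assoc])
  obtain ⟨g, hg, -⟩ := existsUnique_translator a π ν s hpb x y u hx hy
  have hσ : (lift g y).left ≫ GIT.PsiY a π hinv = r := by
    refine pullback.hom_ext ?_ ?_
    · rw [Category.assoc]
      exact (congrArg ((lift g y).left ≫ ·) (pullback.lift_fst _ _ _)).trans (congrArg CommaMorphism.left hg)
    · rw [Category.assoc]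
      exact (congrArg ((lift g y).left ≫ ·) (pullback.lift_snd _ _ _)).trans
        (congrArg CommaMorphism.left (lift_snd g y))
  refine ⟨pullback.lift (lift g y).left (𝟙 _) (by rw [Category.id_comp]; exact hσ), ?_, pullback.lift_snd _ _ _⟩
  refine pullback.hom_ext ?_ ?_
  · rw [Category.assoc, pullback.lift_fst, Category.id_comp]
    let T₁ : Over S := Over.mk (pullback.snd (GIT.PsiY a π hinv) r ≫ T₀.hom)
    let jj : T₁ ⟶ T₀ := Over.homMk (pullback.snd (GIT.PsiY a π hinv) r)
    let ρ : T₁ ⟶ G ⊗ P := Over.homMk (pullback.fst (GIT.PsiY a π hinv) r) (by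
      show pullback.fst (GIT.PsiY a π hinv) r ≫ (G ⊗ P).hom =
        pullback.snd (GIT.PsiY a π hinv) r ≫ r ≫ pullback.snd π.left π.left ≫ P.hom
      rw [← pullback.condition_assoc, ← Over.w (snd G P)]
      congr 1
      exact (pullback.lift_snd_assoc _ _ _ _).symm)
    have h1 : ρ ≫ a.act = jj ≫ x := Over.OverMorphism.ext (by
      show pullback.fst (GIT.PsiY a π hinv) r ≫ a.act.left =
        pullback.snd (GIT.PsiY a π hinv) r ≫ r ≫ pullback.fst π.left π.left
      rw [← pullback.condition_assoc]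
      congr 1
      exact (pullback.lift_fst _ _ _).symm)
    have h2 : ρ ≫ snd G P = jj ≫ y := Over.OverMorphism.ext (by
      show pullback.fst (GIT.PsiY a π hinv) r ≫ (snd G P).left =
        pullback.snd (GIT.PsiY a π hinv) r ≫ r ≫ pullback.snd π.left π.left
      rw [← pullback.condition_assoc]
      congr 1
      exact (pullback.lift_snd _ _ _).symm)
    have huniq := existsUnique_translator a π ν s hpb (jj ≫ x) (jj ≫ y) (jj ≫ u)
      (by rw [Category.assoc, hx, Category.assoc]) (by rw [Category.assoc, hy, Category.assoc])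
    have e : ρ ≫ fst G P = jj ≫ g := huniq.unique (by
      show lift (ρ ≫ fst G P) (jj ≫ y) ≫ a.act = jj ≫ x
      rw [← h2, lift_comp_fst_snd, h1]) (by
      show lift (jj ≫ g) (jj ≫ y) ≫ a.act = jj ≫ x
      rw [← comp_lift, Category.assoc, hg])
    have e2 : ρ = jj ≫ lift g y := by rw [comp_lift, ← e, ← h2, lift_comp_fst_snd]
    exact (congrArg CommaMorphism.left e2).symm
  · rw [Category.assoc, pullback.lift_snd, Category.comp_id, Category.id_comp]

include hpb in
theorem restrict_psiY_and_restrict (hinv : GIT.IsInvariant a π) [Flat G.hom] {U : X.left.Opens}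
    (φ : C.left ⟶ U.toScheme) [Surjective φ] [Flat φ] [QuasiCompact φ] (hν : φ ≫ U.ι = ν.left) :
    IsIso (GIT.PsiY a π hinv ∣_ ((pullback.snd π.left π.left ≫ π.left) ⁻¹ᵁ U)) ∧ Flat (π.left ∣_ U) := by
  refine ⟨?_, ?_⟩
  · let c : pullback π.left π.left ⟶ X.left := pullback.snd π.left π.left ≫ π.left
    let r := pullback.fst c ν.left
    have hc := isPullback_morphismRestrict c U
    let r' : pullback c ν.left ⟶ (c ⁻¹ᵁ U).toScheme :=
      hc.lift (pullback.snd c ν.left ≫ φ) r (by rw [Category.assoc, hν]; exact pullback.condition.symm)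
    have hr : r' ≫ (c ⁻¹ᵁ U).ι = r := hc.lift_snd _ _ _
    have sqr : IsPullback r' (pullback.snd c ν.left) (c ∣_ U) φ :=
      IsPullback.of_right (h₁₂ := (c ⁻¹ᵁ U).ι) (h₂₂ := U.ι)
        (by rw [hr, hν]; exact IsPullback.of_hasPullback c ν.left) (hc.lift_fst _ _ _) hc.flip
    haveI : Surjective r' := MorphismProperty.of_isPullback (P := @Surjective) sqr.flip inferInstance
    haveI : Flat r' := MorphismProperty.of_isPullback (P := @Flat) sqr.flip inferInstance
    haveI : QuasiCompact r' := MorphismProperty.of_isPullback (P := @QuasiCompact) sqr.flip inferInstance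
    have hW := isPullback_morphismRestrict (GIT.PsiY a π hinv) (c ⁻¹ᵁ U)
    let t := hW.lift (pullback.snd (GIT.PsiY a π hinv) r ≫ r') (pullback.fst (GIT.PsiY a π hinv) r)
      (by rw [Category.assoc, hr]; exact pullback.condition.symm)
    have ht : t ≫ (GIT.PsiY a π hinv ⁻¹ᵁ (c ⁻¹ᵁ U)).ι = pullback.fst (GIT.PsiY a π hinv) r := hW.lift_snd _ _ _
    have sqt : IsPullback t (pullback.snd (GIT.PsiY a π hinv) r) (GIT.PsiY a π hinv ∣_ (c ⁻¹ᵁ U)) r' :=
      IsPullback.of_right (h₁₂ := (GIT.PsiY a π hinv ⁻¹ᵁ (c ⁻¹ᵁ U)).ι) (h₂₂ := (c ⁻¹ᵁ U).ι)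
        (by rw [ht, hr]; exact IsPullback.of_hasPullback _ _) (hW.lift_fst _ _ _) hW.flip
    exact MorphismProperty.of_isPullback_of_descendsAlong (P := MorphismProperty.isomorphisms Scheme.{u})
      (Q := @Surjective ⊓ @Flat ⊓ @QuasiCompact) sqt.flip ⟨⟨inferInstance, inferInstance⟩, inferInstance⟩
      (isIso_psiY_baseChange a π ν s hpb hinv)
  · have hW := isPullback_morphismRestrict π.left U
    let m := (lift (snd C G) (fst C G ≫ s) ≫ a.act).left
    let t := hW.lift ((fst C G).left ≫ φ) m (by rw [Category.assoc, hν]; exact hpb.w)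
    have ht : t ≫ (π.left ⁻¹ᵁ U).ι = m := hW.lift_snd _ _ _
    have sqt : IsPullback t (fst C G).left (π.left ∣_ U) φ :=
      IsPullback.of_right (h₁₂ := (π.left ⁻¹ᵁ U).ι) (h₂₂ := U.ι)
        (by rw [ht, hν]; exact hpb.flip) (hW.lift_fst _ _ _) hW.flip
    have hfst : Flat (fst C G).left :=
      MorphismProperty.of_isPullback (P := @Flat) (Groth.L25.Actions.isPullback_snd C G).flip inferInstance
    exact MorphismProperty.of_isPullback_of_descendsAlong (P := @Flat)
      (Q := @Surjective ⊓ @Flat ⊓ @QuasiCompact) sqt.flip ⟨⟨inferInstance, inferInstance⟩, inferInstance⟩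
      hfst

end Groth.L19.AlgGrpBasic.Isotrivial
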