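import Groth.Agent.L19.AlgGrpBasic.ValuativeFixed
import Groth.Agent.L25.GaPts
import Groth.Agent.L25.SplitSub.SmoothTorus
import Groth.Agent.L25.TorusTorsion
import Mathlib.RingTheory.PowerSeries.Substitution

/-!
# Fixed points of the additive and of the multiplicative group
-/

set_option autoImplicit false
set_option linter.style.haveILetI false
set_option backward.isDefEq.respectTransparency.types false

universe u

open CategoryTheory CategoryTheory.Limits MonoidalCategory CartesianMonoidalCategory MonObj AlgebraicGeometry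

noncomputable section

namespace Groth.L19.AlgGrpBasic

section Shift

variable {K : Type u} [Field K]

/-- The substitution `t ↦ t / (1 + c t)`. -/
theorem exists_shift (c : K) :
    ∃ (σ : PowerSeries K →ₐ[K] PowerSeries K)
      (σL : FractionRing (PowerSeries K) →ₐ[K] FractionRing (PowerSeries K)),
      (∀ f, PowerSeries.constantCoeff (σ f) = PowerSeries.constantCoeff f) ∧
      σL.comp (IsScalarTower.toAlgHom K _ _) = (IsScalarTower.toAlgHom K _ _).comp σ ∧
      σL (algebraMap (PowerSeries K) _ PowerSeries.X)⁻¹ =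
        algebraMap K _ c + (algebraMap (PowerSeries K) (FractionRing (PowerSeries K)) PowerSeries.X)⁻¹ := by
  let w : PowerSeries K := 1 + PowerSeries.C c * PowerSeries.X
  have hw : IsUnit w := PowerSeries.isUnit_iff_constantCoeff.2 (by simp [w])
  let a : PowerSeries K := PowerSeries.X * ((hw.unit⁻¹ : (PowerSeries K)ˣ) : PowerSeries K)
  have ha0 : PowerSeries.constantCoeff a = 0 := by simp [a]
  have ha : PowerSeries.HasSubst a := PowerSeries.HasSubst.of_constantCoeff_zero' ha0
  let σ : PowerSeries K →ₐ[K] PowerSeries K := PowerSeries.substAlgHom ha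
  have hσX : σ PowerSeries.X = a := PowerSeries.substAlgHom_X ha
  have ha_ne : a ≠ 0 := mul_ne_zero PowerSeries.X_ne_zero (Units.ne_zero _)
  have hσ0 : ∀ f, PowerSeries.constantCoeff (σ f) = PowerSeries.constantCoeff f := by
    intro f
    conv_lhs => rw [PowerSeries.eq_X_mul_shift_add_const f]
    rw [map_add, map_mul, hσX, map_add, map_mul, ha0, zero_mul, zero_add]
    have : σ (PowerSeries.C (PowerSeries.constantCoeff f)) = PowerSeries.C (PowerSeries.constantCoeff f) :=
      σ.commutes _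
    rw [this, PowerSeries.constantCoeff_C]
  have hinj : Function.Injective σ := by
    refine (injective_iff_map_eq_zero σ).2 fun f hf => ?_
    by_contra hne
    obtain ⟨n, u, hu⟩ := IsDiscreteValuationRing.eq_unit_mul_pow_irreducible hne PowerSeries.X_irreducible
    rw [hu, map_mul, map_pow, hσX] at hf
    rcases mul_eq_zero.1 hf with h | h
    · exact (u.isUnit.map σ).ne_zero h
    · exact pow_ne_zero _ ha_ne h
  have hinjL : Function.Injective ((IsScalarTower.toAlgHom K (PowerSeries K) (FractionRing (PowerSeries K))).comp σ) :=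
    (IsFractionRing.injective (PowerSeries K) (FractionRing (PowerSeries K))).comp hinj
  let σL : FractionRing (PowerSeries K) →ₐ[K] FractionRing (PowerSeries K) := IsFractionRing.liftAlgHom hinjL
  have hσL : σL.comp (IsScalarTower.toAlgHom K _ _) = (IsScalarTower.toAlgHom K _ _).comp σ :=
    AlgHom.ext fun x => by
      rw [AlgHom.comp_apply, IsFractionRing.liftAlgHom_apply, IsScalarTower.toAlgHom_apply, IsFractionRing.lift_algebraMap]
      rfl
  refine ⟨σ, σL, hσ0, hσL, ?_⟩
  have h1 : σL (algebraMap (PowerSeries K) _ PowerSeries.X) = algebraMap (PowerSeries K) _ a :=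
    (DFunLike.congr_fun hσL PowerSeries.X).trans (congrArg (algebraMap (PowerSeries K) (FractionRing (PowerSeries K))) hσX)
  have hXne : algebraMap (PowerSeries K) (FractionRing (PowerSeries K)) PowerSeries.X ≠ 0 :=
    IsFractionRing.to_map_ne_zero_of_mem_nonZeroDivisors (mem_nonZeroDivisors_of_ne_zero PowerSeries.X_ne_zero)
  rw [map_inv₀, h1]
  refine inv_eq_of_mul_eq_one_left ?_
  rw [IsScalarTower.algebraMap_apply K (PowerSeries K) (FractionRing (PowerSeries K))]
  field_simp
  rw [← map_mul, ← map_one (algebraMap (PowerSeries K) (FractionRing (PowerSeries K))), ← map_add, ← map_mul]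
  refine congrArg _ ?_
  show (PowerSeries.C c * PowerSeries.X + 1) * (PowerSeries.X * ((hw.unit⁻¹ : (PowerSeries K)ˣ) : PowerSeries K)) = PowerSeries.X
  rw [_root_.mul_left_comm, show (PowerSeries.C c * PowerSeries.X + 1) = (hw.unit : PowerSeries K) by
    rw [IsUnit.unit_spec]; exact add_comm _ _, Units.mul_inv, _root_.mul_one]

end Shift

section Points

variable {S : Scheme.{u}} {K : Type u} [Field K] (u₀ : Spec (CommRingCat.of K) ⟶ S)

/-- The point of the additive group given by an element. -/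
def ept {R : Type u} [CommRing R] [Algebra K R] (v : R) : sT u₀ R ⟶ Red.Ga S :=
  Groth.L25.GaPts.ptOfElt ((Scheme.ΓSpecIso (CommRingCat.of R)).inv.hom v)

theorem ept_add {R : Type u} [CommRing R] [Algebra K R] (v w : R) : ept u₀ (v + w) = ept u₀ v * ept u₀ w := by
  apply Groth.L25.GaPts.gaFn_injective
  show Red.gaFn _ = Red.gaFn _
  rw [Groth.L25.GaPts.gaFn_mul, ept, ept, ept, Groth.L25.GaPts.gaFn_ptOfElt, Groth.L25.GaPts.gaFn_ptOfElt,
    Groth.L25.GaPts.gaFn_ptOfElt]
  exact map_add _ _ _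

theorem sMap_ept {R R' : Type u} [CommRing R] [Algebra K R] [CommRing R'] [Algebra K R'] (φ : R →ₐ[K] R') (v : R) :
    sMap u₀ φ ≫ ept u₀ v = ept u₀ (φ v) := by
  rw [ept, ept, Groth.L25.GaPts.ptOfElt_comp]
  exact congrArg _ (congrArg (fun ψ => ψ.hom v) (Scheme.ΓSpecIso_inv_naturality (CommRingCat.ofHom φ.toRingHom))).symm

theorem exists_ept {R : Type u} [CommRing R] [Algebra K R] (t : sT u₀ R ⟶ Red.Ga S) : ∃ v : R, ept u₀ v = t := by
  refine ⟨(Scheme.ΓSpecIso (CommRingCat.of R)).hom.hom (Red.gaFn t), ?_⟩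
  rw [ept]
  refine Eq.trans ?_ (Groth.L25.GaPts.ptOfElt_gaFn t)
  congr 1
  exact Iso.hom_inv_id_apply (Scheme.ΓSpecIso (CommRingCat.of R)) _

end Points

variable {k : Type u} [Field k]

theorem smooth_Gm (k : Type u) [Field k] : Smooth (Red.Gm (Spec (CommRingCat.of k))).hom := by
  let S := Spec (CommRingCat.of k)
  let e : Red.DS S ℤ ≅ Red.DS S (Fin 1 → ℤ) :=
    ⟨Red.DSmap S (Pi.evalAddMonoidHom (fun _ : Fin 1 => ℤ) 0), Red.DSmap S (zmultiplesHom (Fin 1 → ℤ) (fun _ => 1)), by
      rw [Groth.L25.TorusTorsion.DSmap_comp, ← Groth.L25.TorusTorsion.DSmap_id]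
      congr 1
      ext
      simp, by
      rw [Groth.L25.TorusTorsion.DSmap_comp, ← Groth.L25.TorusTorsion.DSmap_id]
      congr 1
      refine AddMonoidHom.ext fun f => funext fun j => ?_
      simp [Subsingleton.elim j 0]⟩
  haveI := Groth.L25.SplitSub.smooth_DS S 1
  haveI : IsIso e.hom.left := ⟨e.inv.left, congrArg CommaMorphism.left e.hom_inv_id, congrArg CommaMorphism.left e.inv_hom_id⟩
  rw [← Over.w e.hom]
  infer_instance

theorem bcS_cpt {K : Type u} [Field K] [Algebra k K] {A A' : Type u} [CommRing A] [Algebra k A] [CommRing A']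
    [Algebra K A'] (φ : A →+* A') (h : φ.comp (algebraMap k A) = (algebraMap K A').comp (algebraMap k K))
    {M : Type} [AddCommGroup M] (χ : Multiplicative M →* A) :
    bcS φ h ≫ cpt (uF k k) χ = cpt (uF k K) (φ.toMonoidHom.comp χ) := by
  refine Groth.L25.DSPts.char_injective (MonoidHom.ext fun m => ?_)
  rw [Groth.L25.DSPts.char_comp, cpt, cpt, Groth.L25.DSPts.char_pt, Groth.L25.DSPts.char_pt]
  exact (congrArg (fun ψ => ψ.hom (χ m)) (Scheme.ΓSpecIso_inv_naturality (CommRingCat.ofHom φ))).symm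

theorem bcS_ept {K : Type u} [Field K] [Algebra k K] {A A' : Type u} [CommRing A] [Algebra k A] [CommRing A']
    [Algebra K A'] (φ : A →+* A') (h : φ.comp (algebraMap k A) = (algebraMap K A').comp (algebraMap k K)) (v : A) :
    bcS φ h ≫ ept (uF k k) v = ept (uF k K) (φ v) := by
  rw [ept, ept, Groth.L25.GaPts.ptOfElt_comp]
  exact congrArg _ (congrArg (fun ψ => ψ.hom v) (Scheme.ΓSpecIso_inv_naturality (CommRingCat.ofHom φ))).symm

variable {G X : Over (Spec (CommRingCat.of k))} [GrpObj G] [IsReduced G.left] [IsProper X.hom]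

set_option maxHeartbeats 800000 in
/-- An action of a group receiving the additive group isomorphically has a fixed point in a proper scheme. -/
theorem exists_isFixedPt_Ga (e : Red.Ga (Spec (CommRingCat.of k)) ⟶ G) [IsMonHom e]
    (e' : G ⟶ Red.Ga (Spec (CommRingCat.of k))) (he : e' ≫ e = 𝟙 G) (a : AlgGrp.Action G X)
    (x₀ : 𝟙_ (Over (Spec (CommRingCat.of k))) ⟶ X) :
    ∃ x : 𝟙_ (Over (Spec (CommRingCat.of k))) ⟶ X, a.IsFixedPt x := by
  refine exists_isFixedPt_of_translations a x₀
    (ept (uF k k) (algebraMap (PowerSeries k) (FractionRing (PowerSeries k)) PowerSeries.X)⁻¹ ≫ e) ?_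
  intro K _ _ g
  obtain ⟨c, hc⟩ := exists_ept (uF k K) (g ≫ e')
  obtain ⟨σ, σL, h1, h2, h3⟩ := exists_shift c
  refine ⟨σ, σL, h1, h2, ?_⟩
  have hg : g = ept (uF k K) c ≫ e := by rw [hc, Category.assoc, he, Category.comp_id]
  have hl : bL k K ≫ ept (uF k k) (algebraMap (PowerSeries k) (FractionRing (PowerSeries k)) PowerSeries.X)⁻¹ =
      ept (uF k K) (algebraMap (PowerSeries K) (FractionRing (PowerSeries K)) PowerSeries.X)⁻¹ := by
    rw [bcS_ept, map_inv₀, lMap_algebraMap, psMap, PowerSeries.map_X]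
  rw [hg, reassoc_of% hl, ← Category.assoc (sMap (uF k K) σL), sMap_ept, h3, ept_add, MonObj.mul_comp _ _ e,
    ← Category.assoc (sMap (uF k K) (Algebra.ofId K _)), sMap_ept]
  rfl

set_option maxHeartbeats 800000 in
/-- An action of a group receiving the multiplicative group isomorphically has a fixed point in a proper scheme. -/
theorem exists_isFixedPt_Gm (e : Red.Gm (Spec (CommRingCat.of k)) ⟶ G) [IsMonHom e]
    (e' : G ⟶ Red.Gm (Spec (CommRingCat.of k))) (he : e' ≫ e = 𝟙 G) (a : AlgGrp.Action G X)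
    (x₀ : 𝟙_ (Over (Spec (CommRingCat.of k))) ⟶ X) :
    ∃ x : 𝟙_ (Over (Spec (CommRingCat.of k))) ⟶ X, a.IsFixedPt x := by
  obtain ⟨-, -, τ₀, -, -, -, hτ₀⟩ := exists_scaling (K := k) 1
  refine exists_isFixedPt_of_translations a x₀
    (cpt (uF k k) ((Units.coeHom _).comp (zpowersHom (FractionRing (PowerSeries k))ˣ τ₀)) ≫ e) ?_
  intro K _ _ g
  obtain ⟨χ, hχ⟩ := exists_cpt (uF k K) (g ≫ e')
  let c : Kˣ := χ.toHomUnits (Multiplicative.ofAdd (1 : ℤ))
  have hχc : χ = (Units.coeHom K).comp (zpowersHom Kˣ c) :=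
    MonoidHom.ext_mint (by simp [c])
  obtain ⟨σ, σL, τ, h1, h2, h3, h4⟩ := exists_scaling c
  refine ⟨σ, σL, h1, h2, ?_⟩
  have hg : g = cpt (uF k K) χ ≫ e := by rw [hχ, Category.assoc, he, Category.comp_id]
  have hl : bL k K ≫ cpt (uF k k) ((Units.coeHom _).comp (zpowersHom (FractionRing (PowerSeries k))ˣ τ₀)) =
      cpt (uF k K) ((Units.coeHom _).comp (zpowersHom (FractionRing (PowerSeries K))ˣ τ)) := by
    rw [bcS_cpt]
    refine congrArg _ (MonoidHom.ext_mint ?_)
    simp [h4, hτ₀, lMap_algebraMap, psMap]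
  rw [hg, reassoc_of% hl, ← Category.assoc (sMap (uF k K) σL), sMap_cpt, ← Category.assoc (sMap (uF k K) (Algebra.ofId K _)),
    sMap_cpt, ← MonObj.mul_comp _ _ e, ← cpt_mul]
  refine congrArg (· ≫ e) (congrArg (cpt (uF k K)) (MonoidHom.ext_mint ?_))
  have h5 := congrArg Units.val h3
  simpa [hχc] using h5

end Groth.L19.AlgGrpBasic
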