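import Groth.Agent.L19.AlgGrpBasic.GLnBridge
import Groth.Prelude.Def_CoactBr
import Groth.Prelude.Def_GLin2
import Groth.Prelude.Def_GLin5
import Mathlib.AlgebraicGeometry.AffineSpace
import Mathlib.AlgebraicGeometry.Geometrically.Integral

/-!
# The standard linear action of `GL_n` on affine space
-/

set_option autoImplicit false
universe u

open CategoryTheory CategoryTheory.Limits MonoidalCategory CartesianMonoidalCategory MonObj GrpObj
open AlgebraicGeometry Opposite
open scoped TensorProduct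

set_option backward.isDefEq.respectTransparency.types false
set_option linter.style.haveILetI false

noncomputable section

namespace Groth.L19.AlgGrpBasic

open CoordGrp

variable (n : ℕ) (k : Type u) [Field k]

/-- affine `n`-space -/
abbrev affSp : Over (Spec (CommRingCat.of k)) := CoactBr.sp k (MvPolynomial (Fin n) k)

/-- The standard coaction of `GL_n`. -/
@[reducible] def glCoact : HopfRep.Comod k (GLn n k) (MvPolynomial (Fin n) k) :=
  GLin.comodAlong (Mat.toGLn n k) (stdCoact n k)

theorem glCoact_isCoactAlg :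
    letI := glCoact n k; GLin.IsCoactAlg k (GLn n k) (MvPolynomial (Fin n) k) :=
  GLin.isCoactAlg_comodAlong (Mat.toGLn n k) (stdCoact n k) (stdCoact_isCoactAlg n k)

/-- The standard action of `GL_n` on affine space. -/
def linAct : AlgGrp.Action (CoactBr.sp k (GLn n k)) (affSp n k) :=
  letI := glCoact n k
  haveI := glCoact_isCoactAlg n k
  CoactBr.action k (GLn n k) (MvPolynomial (Fin n) k)

variable {n k}

theorem lift_pt_linAct {K : Type u} [CommRing K] [Algebra k K] (g : GLn n k →ₐ[k] K)
    (x : MvPolynomial (Fin n) k →ₐ[k] K) :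
    lift (CoactBr.pt g) (CoactBr.pt x) ≫ (linAct n k).act = CoactBr.pt (MvPolynomial.aeval fun i =>
      ∑ j, x (MvPolynomial.X j) * g (HopfAlgebraStruct.antipode (R := k) (GLn.X (k := k) j i))) := by
  letI := glCoact n k
  haveI := glCoact_isCoactAlg n k
  refine (CoactBr.lift_pt_action_act (R := k) (A := GLn n k) (B := MvPolynomial (Fin n) k) g x).trans ?_
  congr 1
  refine MvPolynomial.algHom_ext fun i => ?_
  have h : GLin.coactAlgHom k (GLn n k) (MvPolynomial (Fin n) k) (MvPolynomial.X i) =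
      ∑ j : Fin n, MvPolynomial.X j ⊗ₜ[k] GLn.X (k := k) j i := by
    change (GLin.comodAlong (Mat.toGLn n k) (stdCoact n k)).coact (MvPolynomial.X i) = _
    rw [GLin.comodAlong_coact, stdCoact_coact, stdCoactAlg_X, map_sum]
    simp
  rw [AlgHom.comp_apply, h, map_sum, MvPolynomial.aeval_X]
  refine Finset.sum_congr rfl fun j _ => ?_
  simp

/-- The rational point with coordinates `v`. -/
def ratPt (v : Fin n → k) : 𝟙_ (Over (Spec (CommRingCat.of k))) ⟶ affSp n k :=
  haveI := Groth.L15.MuGL.isIso_toUnit_self k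
  inv (toUnit (CoactBr.sp k k)) ≫ CoactBr.pt (MvPolynomial.aeval v)

theorem toUnit_ratPt (v : Fin n → k) (K : Type u) [CommRing K] [Algebra k K] :
    toUnit (CoactBr.sp k K) ≫ ratPt v = CoactBr.pt (MvPolynomial.aeval fun i => algebraMap k K (v i)) := by
  haveI := Groth.L15.MuGL.isIso_toUnit_self k
  rw [← toUnit_unique (CoactBr.pt (Algebra.ofId k K) ≫ toUnit (CoactBr.sp k k)) (toUnit _), ratPt, Category.assoc,
    IsIso.hom_inv_id_assoc, ← CoactBr.pt_comp]
  congr 1
  refine MvPolynomial.algHom_ext fun i => ?_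
  simp [Algebra.ofId_apply]

/-- The orbit morphism of a rational point. -/
theorem orbit_ratPt (v : Fin n → k) :
    lift (𝟙 (CoactBr.sp k (GLn n k))) (toUnit _ ≫ ratPt v) ≫ (linAct n k).act =
      CoactBr.pt (MvPolynomial.aeval fun i =>
        ∑ j, algebraMap k (GLn n k) (v j) * HopfAlgebraStruct.antipode (R := k) (GLn.X (k := k) j i)) := by
  rw [toUnit_ratPt, ← CoactBr.pt_id, lift_pt_linAct]
  simp

theorem linAct_isFixedPt_zero : (linAct n k).IsFixedPt (ratPt (0 : Fin n → k)) := by
  intro T g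
  have e : lift g (toUnit T ≫ ratPt (0 : Fin n → k)) = g ≫ lift (𝟙 _) (toUnit _ ≫ ratPt 0) := by
    rw [comp_lift, Category.comp_id, ← Category.assoc, toUnit_unique (g ≫ toUnit _) (toUnit T)]
  rw [e, Category.assoc, orbit_ratPt, ← toUnit_unique (g ≫ toUnit _) (toUnit T), Category.assoc, toUnit_ratPt]
  simp

instance geometricallyIntegral_affSp : GeometricallyIntegral (affSp n k).hom := by
  let N := ULift.{u} (Fin n)
  let e := (MvPolynomial.renameEquiv k (Equiv.ulift.{u} : N ≃ Fin n)).toRingEquiv.toCommRingCatIso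
  let j : Spec (CommRingCat.of (MvPolynomial (Fin n) k)) ⟶ 𝔸(N; Spec (CommRingCat.of k)) :=
    Spec.map e.hom ≫ (AffineSpace.SpecIso N (CommRingCat.of k)).inv
  have he : (affSp n k).hom = j ≫ (𝔸(N; Spec (CommRingCat.of k)) ↘ Spec (CommRingCat.of k)) := by
    simp only [j, Category.assoc, AffineSpace.SpecIso_inv_over, ← Spec.map_comp]
    refine congrArg Spec.map (CommRingCat.hom_ext (RingHom.ext fun r => ?_))
    simp [e]
  rw [he]
  haveI : IsIso j := inferInstanceAs (IsIso (Spec.map e.hom ≫ (AffineSpace.SpecIso N (CommRingCat.of k)).inv))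
  exact (@MorphismProperty.cancel_left_of_respectsIso _ _ @GeometricallyIntegral inferInstance _ _ _ j _ ‹IsIso j›).2
    inferInstance

theorem locallyOfFiniteType_affSp : LocallyOfFiniteType (affSp n k).hom :=
  locallyOfFiniteType_specOverSpec (R := CommRingCat.of k) (A := CommRingCat.of (MvPolynomial (Fin n) k))

/-- Pull back of an action along a homomorphism. -/
def pullAct {S : Scheme.{u}} {G H X : Over S} [GrpObj G] [GrpObj H] (ρ : G ⟶ H) [IsMonHom ρ]
    (a : AlgGrp.Action H X) : AlgGrp.Action G X where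
  act := (ρ ▷ X) ≫ a.act
  one_act := by rw [← comp_whiskerRight_assoc, IsMonHom.one_hom, a.one_act]
  mul_act := by
    rw [← comp_whiskerRight_assoc, IsMonHom.mul_hom, comp_whiskerRight_assoc, a.mul_act]
    simp only [tensorHom_def, comp_whiskerRight, Category.assoc, whisker_assoc,
      associator_naturality_left_assoc, whiskerLeft_comp, Iso.inv_hom_id_assoc]
    rw [whisker_exchange_assoc, whisker_exchange_assoc]

theorem pullAct_isFixedPt {S : Scheme.{u}} {G H X : Over S} [GrpObj G] [GrpObj H] (ρ : G ⟶ H) [IsMonHom ρ]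
    {a : AlgGrp.Action H X} {x : 𝟙_ (Over S) ⟶ X} (hx : a.IsFixedPt x) : (pullAct ρ a).IsFixedPt x := by
  intro T g
  change lift g (toUnit T ≫ x) ≫ (ρ ▷ X) ≫ a.act = _
  rw [lift_whiskerRight_assoc]
  exact hx T (g ≫ ρ)

/-- A homomorphism to `GL_n` through which the action on affine space is trivial is trivial. -/
theorem eq_one_of_linAct_trivial {G : Over (Spec (CommRingCat.of k))} (g : G ⟶ CoactBr.sp k (GLn n k))
    (h : (g ▷ affSp n k) ≫ (linAct n k).act = snd G (affSp n k)) : g = 1 := by
  let K := Γ(G.left, ⊤)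
  let ψ : CommRingCat.of k ⟶ K := (Scheme.ΓSpecIso (CommRingCat.of k)).inv ≫ G.hom.appTop
  letI : Algebra k K := ψ.hom.toAlgebra
  have hw : G.left.toSpecΓ ≫ Spec.map ψ = G.hom := by
    rw [Spec.map_comp, ← Scheme.toSpecΓ_naturality_assoc, ← Scheme.isoSpec_Spec_inv,
      Scheme.toSpecΓ_isoSpec_inv, Category.comp_id]
  let h0 : G ⟶ CoactBr.sp k K := Over.homMk G.left.toSpecΓ hw
  have hinj : ∀ {A : Type u} [CommRing A] [Algebra k A] (α β : A →ₐ[k] K),
      h0 ≫ CoactBr.pt α = h0 ≫ CoactBr.pt β → α = β := by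
    intro A _ _ α β e
    have e' := congrArg (fun m => m.left.appTop) e
    simp only [Over.comp_left, Scheme.Hom.comp_appTop] at e'
    change (Spec.map (CommRingCat.ofHom α.toRingHom)).appTop ≫ G.left.toSpecΓ.appTop =
      (Spec.map (CommRingCat.ofHom β.toRingHom)).appTop ≫ G.left.toSpecΓ.appTop at e'
    rw [Scheme.toSpecΓ_appTop, Scheme.ΓSpecIso_naturality, Scheme.ΓSpecIso_naturality, cancel_epi] at e'
    exact AlgHom.coe_ringHom_injective (congrArg (fun m => m.hom) e')
  obtain ⟨θ, hθ⟩ : ∃ θ : GLn n k →ₐ[k] K, h0 ≫ CoactBr.pt θ = g := by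
    let g' : G.left ⟶ Spec (CommRingCat.of (GLn n k)) := g.left
    let f : CommRingCat.of (GLn n k) ⟶ K := (Scheme.ΓSpecIso _).inv ≫ g'.appTop
    have hf : G.left.toSpecΓ ≫ Spec.map f = g' := by
      rw [Spec.map_comp, ← Scheme.toSpecΓ_naturality_assoc g', ← Scheme.isoSpec_Spec_inv,
        Scheme.toSpecΓ_isoSpec_inv, Category.comp_id]
    have hwg : g' ≫ Spec.map (CommRingCat.ofHom (algebraMap k (GLn n k))) = G.hom := Over.w g
    have hc : CommRingCat.ofHom (algebraMap k (GLn n k)) ≫ f = ψ := by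
      simp only [f, ψ]
      rw [← Category.assoc, Scheme.ΓSpecIso_inv_naturality, Category.assoc, ← Scheme.Hom.comp_appTop, hwg]
    exact ⟨{ f.hom with commutes' := fun r => congrArg (fun m => m.hom r) hc },
      Over.OverMorphism.ext hf⟩
  subst hθ
  rw [MonObj.comp_one (h0) |>.symm]
  congr 1
  rw [CoactBr.one_eq_pt]
  congr 1
  have hS : ∀ j i, θ (HopfAlgebraStruct.antipode (R := k) (GLn.X (k := k) j i)) = if j = i then 1 else 0 := by
    intro j
    let v : Fin n → k := Pi.single j 1
    have e1 := lift (𝟙 G) (toUnit G ≫ ratPt v) ≫= h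
    rw [lift_whiskerRight_assoc, Category.id_comp, lift_snd] at e1
    have e2 : lift (h0 ≫ CoactBr.pt θ) (toUnit G ≫ ratPt v) =
        (h0 ≫ CoactBr.pt θ) ≫ lift (𝟙 _) (toUnit _ ≫ ratPt v) := by
      rw [comp_lift, Category.comp_id, ← Category.assoc _ (toUnit _), toUnit_unique ((h0 ≫ _) ≫ toUnit _) (toUnit G)]
    rw [e2, Category.assoc, orbit_ratPt, ← toUnit_unique (h0 ≫ toUnit _) (toUnit G)] at e1
    simp only [Category.assoc] at e1
    rw [← CoactBr.pt_comp, toUnit_ratPt] at e1
    intro i
    have e3 := AlgHom.congr_fun (hinj _ _ e1) (MvPolynomial.X i)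
    rw [AlgHom.comp_apply, MvPolynomial.aeval_X, MvPolynomial.aeval_X, map_sum, Finset.sum_eq_single j] at e3
    · simpa [v, Pi.single_apply, eq_comm] using e3
    · intro b _ hb
      simp [v, hb]
    · simp
  have hX : ∀ i j, θ (GLn.X i j) = if i = j then 1 else 0 := fun i j => by
    have e := congrArg θ (GLn.antipode_key_right (k := k) i j)
    rw [map_sum] at e
    simp only [map_mul, ← GLn.antipode_X, hS, mul_ite, _root_.mul_one, mul_zero, Finset.sum_ite_eq', Finset.mem_univ,
      if_true, apply_ite θ, map_one, map_zero] at e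
    exact e
  refine GLn.algHom_ext (fun i j => ?_) ?_
  · rw [hX, AlgHom.comp_apply, Bialgebra.counitAlgHom_apply, GLn.counit_X]
    split_ifs <;> simp
  · rw [AlgHom.comp_apply, Bialgebra.counitAlgHom_apply, GLn.counit_Dinv, map_one]
    have e := congrArg θ (GLn.Dinv_mul_det (n := n) (k := k))
    rw [map_mul, map_one, GLn.det_eq, AlgHom.map_det, show θ.mapMatrix (GLn.genMat n k) = 1 from
      Matrix.ext fun i j => (hX i j).trans Matrix.one_apply.symm, Matrix.det_one, _root_.mul_one] at e
    exact e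

end Groth.L19.AlgGrpBasic
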