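import Groth.Agent.L19.AlgGrpBasic.GeomPoint

/-!
# Stable open subschemes and transitivity on geometric points
-/

set_option autoImplicit false
set_option linter.style.haveILetI false
set_option backward.isDefEq.respectTransparency.types false

universe u

open CategoryTheory CategoryTheory.Limits MonoidalCategory CartesianMonoidalCategory MonObj AlgebraicGeometry
open Topology

namespace Groth.L19.AlgGrpBasic

variable {k : Type u} [Field k] {G X : Over (Spec (CommRingCat.of k))} [GrpObj G] (a : AlgGrp.Action G X)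

/-- The inclusion of an open subscheme, over the base. -/
noncomputable abbrev openIncl (U : X.left.Opens) : Over.mk (U.ι ≫ X.hom) ⟶ X := Over.homMk U.ι rfl

instance mono_openIncl (U : X.left.Opens) : Mono (openIncl U) :=
  haveI : Mono (openIncl U).left := inferInstanceAs (Mono U.ι)
  Over.mono_of_mono_left _

/-- A stable open subscheme inherits the action. -/
theorem exists_action_of_stable (U : X.left.Opens)
    (h : a.act.left '' ((snd G X).left ⁻¹' (U : Set X.left)) ⊆ U) :
    ∃ b : AlgGrp.Action G (Over.mk (U.ι ≫ X.hom)), (G ◁ openIncl U) ≫ a.act = b.act ≫ openIncl U := by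
  let j : Over.mk (U.ι ≫ X.hom) ⟶ X := openIncl U
  have hr : Set.range ((G ◁ j) ≫ a.act).left ⊆ Set.range U.ι := by
    rintro _ ⟨q, rfl⟩
    rw [Scheme.Opens.range_ι]
    refine h ⟨(G ◁ j).left q, ?_, rfl⟩
    show ((G ◁ j) ≫ snd G X).left q ∈ U
    rw [whiskerLeft_snd]
    exact (Scheme.Opens.range_ι U).subset ⟨_, rfl⟩
  let act : G ⊗ Over.mk (U.ι ≫ X.hom) ⟶ Over.mk (U.ι ≫ X.hom) :=
    Over.homMk (IsOpenImmersion.lift U.ι ((G ◁ j) ≫ a.act).left hr) (by
      show IsOpenImmersion.lift U.ι _ hr ≫ U.ι ≫ X.hom = _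
      rw [IsOpenImmersion.lift_fac_assoc, Over.w])
  have hact : act ≫ j = (G ◁ j) ≫ a.act := Over.OverMorphism.ext (IsOpenImmersion.lift_fac _ _ hr)
  refine ⟨⟨act, ?_, ?_⟩, hact.symm⟩
  · rw [← cancel_mono j, Category.assoc, hact, ← whisker_exchange_assoc, a.one_act, leftUnitor_naturality]
  · rw [← cancel_mono j, Category.assoc, hact, ← whisker_exchange_assoc, a.mul_act, Category.assoc, Category.assoc,
      hact, ← whiskerLeft_comp_assoc, hact, whiskerLeft_comp_assoc,
      associator_naturality_right_assoc]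

variable {K : Type u} [Field K] [Algebra k K] [IsAlgClosed K] [LocallyOfFiniteType X.hom]

theorem exists_comp_openIncl (U : X.left.Opens) (x : gT k K ⟶ X) (hx : gpt x ∈ U) :
    ∃ x' : gT k K ⟶ Over.mk (U.ι ≫ X.hom), x' ≫ openIncl U = x := by
  haveI : LocallyOfFiniteType (Over.mk (U.ι ≫ X.hom)).hom := inferInstanceAs (LocallyOfFiniteType (U.ι ≫ X.hom))
  obtain ⟨q, hq⟩ : gpt x ∈ Set.range (openIncl U).left := (Scheme.Opens.range_ι U).symm.subset hx
  obtain ⟨w, hw, -⟩ := exists_lift_gpt (openIncl U) x isOpen_univ.isLocallyClosed q (Set.mem_univ q) hq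
  exact ⟨w, hw⟩

omit [IsAlgClosed K] [LocallyOfFiniteType X.hom] in
theorem gpt_openIncl_mem (U : X.left.Opens) (x : gT k K ⟶ Over.mk (U.ι ≫ X.hom)) : gpt (x ≫ openIncl U) ∈ U :=
  (Scheme.Opens.range_ι U).subset ⟨gpt x, rfl⟩

variable [LocallyOfFiniteType G.hom]

theorem transOn_of_surjective_restrict (U : X.left.Opens) (b : AlgGrp.Action G (Over.mk (U.ι ≫ X.hom)))
    (hb : (G ◁ openIncl U) ≫ a.act = b.act ≫ openIncl U) (h : Surjective (graph b).left) :
    TransOn K a (U : Set X.left) := by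
  haveI : LocallyOfFiniteType (Over.mk (U.ι ≫ X.hom)).hom := inferInstanceAs (LocallyOfFiniteType (U.ι ≫ X.hom))
  intro x y hx hy
  obtain ⟨x', rfl⟩ := exists_comp_openIncl U x hx
  obtain ⟨y', rfl⟩ := exists_comp_openIncl U y hy
  obtain ⟨g, hg⟩ := transOn_of_surjective b h x' y' (Set.mem_univ _) (Set.mem_univ _)
  exact ⟨g, by rw [← lift_whiskerLeft_assoc, hb, reassoc_of% hg]⟩

omit [LocallyOfFiniteType G.hom] in
theorem act_mem_of_restrict (U : X.left.Opens) (b : AlgGrp.Action G (Over.mk (U.ι ≫ X.hom)))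
    (hb : (G ◁ openIncl U) ≫ a.act = b.act ≫ openIncl U) (g : gT k K ⟶ G) (x : gT k K ⟶ X) (hx : gpt x ∈ U) :
    gpt (lift g x ≫ a.act) ∈ U := by
  obtain ⟨x', rfl⟩ := exists_comp_openIncl U x hx
  rw [← lift_whiskerLeft_assoc, hb, ← Category.assoc]
  exact gpt_openIncl_mem U _

variable [QuasiCompact G.hom] [QuasiCompact X.hom]

theorem surjective_restrict_of_transOn (U : X.left.Opens) (b : AlgGrp.Action G (Over.mk (U.ι ≫ X.hom)))
    (hb : (G ◁ openIncl U) ≫ a.act = b.act ≫ openIncl U) (h : TransOn K a (U : Set X.left)) :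
    Surjective (graph b).left := by
  haveI : LocallyOfFiniteType (Over.mk (U.ι ≫ X.hom)).hom := inferInstanceAs (LocallyOfFiniteType (U.ι ≫ X.hom))
  haveI : IsLocallyNoetherian X.left := LocallyOfFiniteType.isLocallyNoetherian X.hom
  haveI : QuasiCompact (Over.mk (U.ι ≫ X.hom)).hom := inferInstanceAs (QuasiCompact (U.ι ≫ X.hom))
  refine ⟨fun p => subset_range_graph (K := K) b isOpen_univ (fun x y _ _ => ?_) ⟨Set.mem_univ _, Set.mem_univ _⟩⟩
  obtain ⟨g, hg⟩ := h (x ≫ openIncl U) (y ≫ openIncl U) (gpt_openIncl_mem U x) (gpt_openIncl_mem U y)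
  refine ⟨g, ?_⟩
  rw [← cancel_mono (openIncl U), Category.assoc, ← hb, lift_whiskerLeft_assoc, hg]

/-- Transitivity on a nonempty open subset makes the graph dominant. -/
theorem isDominant_graph [GeometricallyIrreducible X.hom] {U : Set X.left} (hU : IsOpen U) (hne : U.Nonempty)
    (h : TransOn K a U) : IsDominant (graph a).left := by
  haveI : IrreducibleSpace X.left := GeometricallyIrreducible.irreducibleSpace X.hom X.hom.isOpenMap
  haveI := irreducibleSpace_tensor X X
  obtain ⟨x, hx⟩ := exists_gpt_mem (K := K) hU.isLocallyClosed hne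
  have hd : Dense ((fst X X).left ⁻¹' U ∩ (snd X X).left ⁻¹' U) := by
    refine IsOpen.dense ((hU.preimage (fst X X).left.continuous).inter (hU.preimage (snd X X).left.continuous))
      ⟨gpt (lift x x), ?_, ?_⟩
    · show gpt (lift x x ≫ fst X X) ∈ U
      rw [lift_fst]; exact hx
    · show gpt (lift x x ≫ snd X X) ∈ U
      rw [lift_snd]; exact hx
  exact ⟨hd.mono (subset_range_graph a hU h)⟩

omit [QuasiCompact G.hom] [QuasiCompact X.hom] in
/-- The translates of an open subset with transitive points form a subset with transitive points. -/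
theorem TransOn.image_act {V : Set X.left} (hV : IsOpen V) (h : TransOn K a V) :
    TransOn K a (a.act.left '' ((snd G X).left ⁻¹' V)) := by
  haveI := lft_tensor G X
  have key : ∀ u : gT k K ⟶ X, gpt u ∈ a.act.left '' ((snd G X).left ⁻¹' V) →
      ∃ (g : gT k K ⟶ G) (v : gT k K ⟶ X), gpt v ∈ V ∧ lift g v ≫ a.act = u := by
    rintro u ⟨q, hq, hqu⟩
    obtain ⟨w, hw, hwV⟩ := exists_lift_gpt a.act u (hV.preimage (snd G X).left.continuous).isLocallyClosed q hq hqu
    exact ⟨w ≫ fst _ _, w ≫ snd _ _, hwV, by rw [lift_comp_fst_snd, hw]⟩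
  intro x y hx hy
  obtain ⟨g₁, v₁, hv₁, rfl⟩ := key x hx
  obtain ⟨g₂, v₂, hv₂, rfl⟩ := key y hy
  obtain ⟨g, hg⟩ := h v₁ v₂ hv₁ hv₂
  refine ⟨g₂ * g * g₁⁻¹, ?_⟩
  rw [Groth.L25.Actions.mul_act, Groth.L25.Actions.inv_act, Groth.L25.Actions.mul_act, hg]

end Groth.L19.AlgGrpBasic
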