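import Groth.Agent.L19.AlgGrpBasic.OrbitClosure
import Groth.Agent.L19.ImmLift
import Groth.Agent.L20.GenericFlatScheme
import Groth.Agent.L26.AV.GroupSep
import Groth.Agent.L18.KerReduced
import Groth.Agent.L25.Actions
import Mathlib.AlgebraicGeometry.Morphisms.FlatDescent
import Mathlib.CategoryTheory.Limits.Preserves.Shapes.Pullbacks

/-!
The orbit map of a rational point with closed orbit and proper stabiliser is proper.
-/

universe u

open CategoryTheory CategoryTheory.Limits MonoidalCategory CartesianMonoidalCategory MonObj AlgebraicGeometry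

namespace Groth.L19.OrbitProper

set_option linter.style.haveILetI false
set_option backward.isDefEq.respectTransparency.types false
set_option backward.defeqAttrib.useBackward true

variable {k : Type u} [Field k] {G X : Over (Spec (CommRingCat.of k))} [GrpObj G]

theorem exists_isPullback_stabilizer (a : AlgGrp.Action G X) (o : 𝟙_ (Over (Spec (CommRingCat.of k))) ⟶ X)
    {Go : Over (Spec (CommRingCat.of k))} (i : Go ⟶ G) (hGo : IsPullback i (toUnit Go) (a.orbitMap o) o) :
    IsPullback (fst G Go) (fst G Go * (snd G Go ≫ i)) (a.orbitMap o) (a.orbitMap o) := by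
  haveI : Mono o := ⟨fun {Z} f g _ => Subsingleton.elim f g⟩
  have horb : ∀ {T : Over (Spec (CommRingCat.of k))} (g : T ⟶ G), g ≫ a.orbitMap o = lift g (toUnit T ≫ o) ≫ a.act := by
    intro T g
    simp only [AlgGrp.Action.orbitMap, ← Category.assoc, comp_lift, Category.comp_id]
    rw [Category.assoc, ← Category.assoc g (toUnit G), toUnit_unique (g ≫ toUnit G) (toUnit T)]
  have hmul : ∀ {T : Over (Spec (CommRingCat.of k))} (g h : T ⟶ G),
      (g * h) ≫ a.orbitMap o = lift g (h ≫ a.orbitMap o) ≫ a.act := fun g h => by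
    rw [horb, horb, Groth.L25.Actions.mul_act]
  have hw : fst G Go ≫ a.orbitMap o = (fst G Go * (snd G Go ≫ i)) ≫ a.orbitMap o := by
    rw [hmul, Category.assoc, hGo.w, ← Category.assoc, toUnit_unique (snd G Go ≫ toUnit Go) (toUnit _), ← horb]
  have key : ∀ s : PullbackCone (a.orbitMap o) (a.orbitMap o), ∃ n : s.pt ⟶ Go, n ≫ i = s.fst⁻¹ * s.snd := fun s => by
    have e : (s.fst⁻¹ * s.snd) ≫ a.orbitMap o = toUnit s.pt ≫ o := by
      rw [hmul, ← s.condition, ← hmul, inv_mul_cancel, horb, Groth.L25.Actions.one_act]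
    exact ⟨hGo.lift _ _ e, hGo.lift_fst _ _ _⟩
  haveI : Mono i := hGo.mono_fst_of_mono
  refine IsPullback.of_isLimit' ⟨hw⟩ (PullbackCone.IsLimit.mk _ (fun s => lift s.fst (key s).choose)
    (fun s => lift_fst _ _) (fun s => ?_) fun s m h₁ h₂ => ?_)
  · rw [MonObj.comp_mul, lift_fst, lift_snd_assoc, (key s).choose_spec, mul_inv_cancel_left]
  · apply CartesianMonoidalCategory.hom_ext
    · rw [lift_fst, h₁]
    · rw [lift_snd, ← cancel_mono i, (key s).choose_spec, ← h₂, MonObj.comp_mul, h₁, inv_mul_cancel_left, Category.assoc]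

variable [IsAlgClosed k] [LocallyOfFiniteType G.hom] [QuasiCompact G.hom] [LocallyOfFiniteType X.hom]
  [QuasiCompact X.hom]

theorem universallyClosed_orbitMap (a : AlgGrp.Action G X) (x : 𝟙_ (Over (Spec (CommRingCat.of k))) ⟶ X)
    (hcl : IsClosed (Set.range (a.orbitMap x).left))
    (hH : IsProper (pullback.snd (a.orbitMap x).left x.left ≫ (𝟙_ (Over (Spec (CommRingCat.of k)))).hom)) :
    UniversallyClosed (a.orbitMap x).left := by
  set π := a.orbitMap x with hπ
  let H : Over (Spec (CommRingCat.of k)) :=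
    Over.mk (pullback.snd π.left x.left ≫ (𝟙_ (Over (Spec (CommRingCat.of k)))).hom)
  let i : H ⟶ G := Over.homMk (pullback.fst π.left x.left) (by
    show _ = pullback.snd π.left x.left ≫ _
    rw [← Over.w π, ← Category.assoc, pullback.condition, Category.assoc, Over.w x])
  have hGo : IsPullback i (toUnit H) π x := by
    refine IsPullback.of_map (Over.forget _) (Over.OverMorphism.ext ?_) ?_
    · show pullback.fst π.left x.left ≫ π.left = (toUnit H).left ≫ x.left
      rw [pullback.condition]
      congr 1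
    · simp only [Over.forget_obj, Over.forget_map]
      rw [show (toUnit H).left = pullback.snd π.left x.left from Category.comp_id _]
      exact IsPullback.of_hasPullback π.left x.left
  have hsq := (exists_isPullback_stabilizer a x i hGo).map (Over.forget _)
  simp only [Over.forget_obj, Over.forget_map] at hsq
  haveI : IsProper H.hom := hH
  haveI hpr : IsProper (fst G H).left :=
    MorphismProperty.of_isPullback (P := @IsProper) (Groth.L25.Actions.isPullback_snd G H).flip inferInstance
  haveI : IsProper (pullback.fst π.left π.left) := by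
    rw [← hsq.isoPullback_inv_fst]; infer_instance
  haveI : IsLocallyNoetherian X.left := LocallyOfFiniteType.isLocallyNoetherian X.hom
  haveI : CompactSpace G.left := QuasiCompact.compactSpace_of_compactSpace G.hom
  let O := (Scheme.IdealSheafData.vanishingIdeal (X := X.left) ⟨Set.range π.left, hcl⟩).subscheme
  let ιO : O ⟶ X.left := (Scheme.IdealSheafData.vanishingIdeal ⟨Set.range π.left, hcl⟩).subschemeι
  haveI : IsReduced O := Groth.L18.isReduced_vanishingIdeal_subscheme _
  let R := (Scheme.IdealSheafData.vanishingIdeal (X := G.left) ⊤).subscheme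
  let j : R ⟶ G.left := (Scheme.IdealSheafData.vanishingIdeal (X := G.left) ⊤).subschemeι
  haveI : IsReduced R := Groth.L18.isReduced_vanishingIdeal_subscheme _
  have hιO : Set.range ιO = Set.range π.left := by
    exact (Scheme.IdealSheafData.range_subschemeι _).trans (by simp)
  have hj : Set.range j = Set.univ := by
    exact (Scheme.IdealSheafData.range_subschemeι _).trans (by simp)
  haveI : Surjective j := ⟨Set.range_eq_univ.1 hj⟩
  obtain ⟨π₀, hπ₀⟩ := Groth.L19.exists_lift_of_isImmersion ιO (j ≫ π.left) (by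
    rintro _ ⟨r, rfl⟩
    rw [hιO]
    exact ⟨j r, rfl⟩)
  haveI : Surjective π₀ := ⟨fun z => by
    obtain ⟨g, hg⟩ := hιO.subset ⟨z, rfl⟩
    obtain ⟨r, rfl⟩ := j.surjective g
    exact ⟨r, ιO.isEmbedding.injective (by rw [← Scheme.Hom.comp_apply, hπ₀, Scheme.Hom.comp_apply, hg])⟩⟩
  haveI : CompactSpace R := j.isClosedEmbedding.compactSpace
  haveI : LocallyOfFiniteType (j ≫ π.left) := by
    haveI : LocallyOfFiniteType (π.left ≫ X.hom) := by rw [Over.w]; infer_instance
    haveI : LocallyOfFiniteType π.left := locallyOfFiniteType_of_comp π.left X.hom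
    infer_instance
  haveI : LocallyOfFiniteType (π₀ ≫ ιO) := by rw [hπ₀]; infer_instance
  haveI : LocallyOfFiniteType π₀ := locallyOfFiniteType_of_comp π₀ ιO
  haveI : IsLocallyNoetherian O := LocallyOfFiniteType.isLocallyNoetherian ιO
  haveI : QuasiCompact π₀ := quasiCompact_of_compactSpace π₀
  obtain ⟨V, hV, hVflat, -⟩ := Groth.L20.GFR.exists_dense_flat_lfp π₀
  haveI : Flat π₀ := by
    haveI : JacobsonSpace O := LocallyOfFiniteType.jacobsonSpace (ιO ≫ X.hom)
    haveI : JacobsonSpace G.left := LocallyOfFiniteType.jacobsonSpace G.hom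
    let C : Set O.Opens := {U | Flat (π₀ ∣_ U)}
    suffices hC : sSup C = ⊤ by
      refine IsZariskiLocalAtTarget.of_iSup_eq_top (P := @Flat) (fun U : C => U.1) ?_ fun U => U.2
      rw [← hC, sSup_eq_iSup']
    by_contra hne
    have hne' : ((sSup C : O.Opens) : Set O)ᶜ.Nonempty := by
      rw [Set.nonempty_compl]
      exact fun h => hne (TopologicalSpace.Opens.ext h)
    obtain ⟨p, hp, hpc⟩ := nonempty_inter_closedPoints hne' (sSup C).2.isClosed_compl.isLocallyClosed
    obtain ⟨q, hqV, hqc⟩ := nonempty_inter_closedPoints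
      (hV.nonempty_iff.2 ⟨p⟩) V.2.isLocallyClosed
    have hrat : ∀ z : O, IsClosed ({z} : Set O) → ∃ s : 𝟙_ (Over (Spec (CommRingCat.of k))) ⟶ G,
        π.left (Groth.L08.ProfiniteImage.pt s) = ιO z := by
      intro z hz
      have hzc : IsClosed ({ιO z} : Set X.left) := by
        rw [← Set.image_singleton]
        exact ιO.isClosedEmbedding.isClosedMap _ hz
      obtain ⟨γ, hγ⟩ := hιO.subset ⟨z, rfl⟩
      obtain ⟨c, hc, hcc⟩ := nonempty_inter_closedPoints (Z := π.left ⁻¹' {ιO z}) ⟨γ, hγ⟩
        (hzc.preimage π.left.continuous).isLocallyClosed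
      obtain ⟨s, rfl⟩ := Groth.L19.AlgGrpBasic.exists_point_of_closed hcc
      exact ⟨s, hc⟩
    obtain ⟨c, hc⟩ := hrat p hpc
    obtain ⟨d, hd⟩ := hrat q hqc
    set h := d * c⁻¹
    have hinv : ∀ h : 𝟙_ (Over (Spec (CommRingCat.of k))) ⟶ G,
        (Groth.L08.Homog.A a h).left ≫ (Groth.L08.Homog.A a h⁻¹).left = 𝟙 X.left := fun h => by
      rw [← Over.comp_left, Groth.L08.Homog.comp_A, GrpObj.comp_inv]
      exact congrArg CommaMorphism.left (Groth.L25.Actions.inv_act a _ _)
    have hlt : ∀ h, (Groth.L08.ProfiniteImage.lt h).left ≫ π.left = π.left ≫ (Groth.L08.Homog.A a h).left := fun h => by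
      rw [← Over.comp_left, ← Over.comp_left, Groth.L08.Homog.orbit_lt]
    have hα : ∀ h, ∃ α : O ⟶ O, α ≫ ιO = ιO ≫ (Groth.L08.Homog.A a h).left := fun h =>
      Groth.L19.exists_lift_of_isImmersion ιO _ (by
        rintro _ ⟨z, rfl⟩
        obtain ⟨g, hg⟩ := hιO.subset ⟨z, rfl⟩
        rw [hιO, Scheme.Hom.comp_apply, ← hg, ← Scheme.Hom.comp_apply, ← hlt]
        exact ⟨_, rfl⟩)
    have hβ : ∀ h, ∃ β : R ⟶ R, β ≫ j = j ≫ (Groth.L08.ProfiniteImage.lt h).left := fun h =>
      Groth.L19.exists_lift_of_isImmersion j _ (hj ▸ Set.subset_univ _)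
    choose α hα using hα
    choose β hβ using hβ
    haveI : IsIso (α h) := by
      refine ⟨α h⁻¹, ?_, ?_⟩ <;> rw [← cancel_mono ιO, Category.assoc, hα, reassoc_of% hα, Category.id_comp]
      · rw [hinv]; exact Category.comp_id _
      · conv_lhs => enter [2, 2]; rw [← inv_inv h]
        rw [hinv]; exact Category.comp_id _
    haveI : IsIso (β h) := by
      have hb : ∀ h, β h ≫ β h⁻¹ = 𝟙 R := fun h => by
        rw [← cancel_mono j, Category.assoc, hβ, reassoc_of% hβ, Category.id_comp, ← Over.comp_left,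
          Groth.L08.ProfiniteImage.comp_lt, Groth.L08.ProfiniteImage.lt, ← _root_.mul_assoc, ← MonObj.comp_mul,
          inv_mul_cancel, MonObj.comp_one, _root_.one_mul]
        exact Category.comp_id _
      exact ⟨β h⁻¹, hb h, by simpa using hb h⁻¹⟩
    have hcomm : π₀ ≫ α h = β h ≫ π₀ := by
      rw [← cancel_mono ιO, Category.assoc, hα, reassoc_of% hπ₀, Category.assoc, hπ₀, reassoc_of% hβ, hlt]
    have hflatU : Flat (π₀ ∣_ (α h ⁻¹ᵁ V)) := by
      have h1 : Flat ((β h ≫ π₀) ∣_ V) := by
        rw [morphismRestrict_comp]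
        haveI : Flat (β h ∣_ (π₀ ⁻¹ᵁ V)) := IsZariskiLocalAtTarget.restrict (P := @Flat) inferInstance _
        exact MorphismProperty.comp_mem _ _ _ inferInstance hVflat
      rw [← hcomm, morphismRestrict_comp] at h1
      exact (MorphismProperty.cancel_right_of_respectsIso (P := @Flat) _ _).1 h1
    refine hp (le_sSup (show (α h ⁻¹ᵁ V) ∈ C from hflatU) ?_)
    show α h p ∈ V
    suffices α h p = q by rw [this]; exact hqV
    apply ιO.isEmbedding.injective
    rw [← Scheme.Hom.comp_apply, hα, Scheme.Hom.comp_apply, ← hc, ← Scheme.Hom.comp_apply, ← hlt,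
      Scheme.Hom.comp_apply, Groth.L08.ProfiniteImage.pt_lt, inv_mul_cancel_right, hd]
  have huc : UniversallyClosed π₀ := by
    refine MorphismProperty.of_pullback_fst_of_descendsAlong (P := @UniversallyClosed)
      (Q := @Surjective ⊓ @Flat ⊓ @QuasiCompact) (f := π₀) ⟨⟨‹_›, ‹_›⟩, ‹_›⟩ ?_
    let e : pullback π₀ π₀ ⟶ pullback (π₀ ≫ ιO) (π₀ ≫ ιO) :=
      pullback.lift (pullback.fst _ _) (pullback.snd _ _) (by rw [pullback.condition_assoc])
    let e' : pullback (π₀ ≫ ιO) (π₀ ≫ ιO) ⟶ pullback π₀ π₀ :=
      pullback.lift (pullback.fst _ _) (pullback.snd _ _)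
        (by rw [← cancel_mono ιO, Category.assoc, Category.assoc]; exact pullback.condition)
    haveI : IsIso e := by
      refine ⟨e', ?_, ?_⟩
      · apply pullback.hom_ext
        · rw [Category.assoc, pullback.lift_fst, pullback.lift_fst]; exact (Category.id_comp _).symm
        · rw [Category.assoc, pullback.lift_snd, pullback.lift_snd]; exact (Category.id_comp _).symm
      · apply pullback.hom_ext
        · rw [Category.assoc, pullback.lift_fst, pullback.lift_fst]; exact (Category.id_comp _).symm
        · rw [Category.assoc, pullback.lift_snd, pullback.lift_snd]; exact (Category.id_comp _).symm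
    let m' : pullback (π₀ ≫ ιO) (π₀ ≫ ιO) ⟶ pullback π.left π.left :=
      pullback.map _ _ π.left π.left j j (𝟙 _) (by rw [Category.comp_id, hπ₀]) (by rw [Category.comp_id, hπ₀])
    haveI : IsClosedImmersion m' :=
      MorphismProperty.pullback_map (P := @IsClosedImmersion) inferInstance inferInstance hπ₀ hπ₀
    let m := e ≫ m'
    haveI : IsClosedImmersion m := inferInstanceAs (IsClosedImmersion (e ≫ m'))
    haveI : UniversallyClosed (pullback.fst π₀ π₀ ≫ j) := by
      have hm : pullback.fst π₀ π₀ ≫ j = m ≫ pullback.fst π.left π.left :=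
        (((Category.assoc _ _ _).trans (congrArg (e ≫ ·) (pullback.lift_fst _ _ _))).trans
          (pullback.lift_fst_assoc _ _ _ j)).symm
      rw [hm]
      infer_instance
    exact UniversallyClosed.of_comp_of_isSeparated (pullback.fst π₀ π₀) j
  haveI := huc
  haveI : UniversallyClosed (j ≫ π.left) := by rw [← hπ₀]; infer_instance
  exact UniversallyClosed.of_comp_surjective j π.left

theorem isProper_orbitMap (a : AlgGrp.Action G X) (x : 𝟙_ (Over (Spec (CommRingCat.of k))) ⟶ X)
    (hcl : IsClosed (Set.range (a.orbitMap x).left))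
    (hH : IsProper (pullback.snd (a.orbitMap x).left x.left ≫ (𝟙_ (Over (Spec (CommRingCat.of k)))).hom)) :
    IsProper (a.orbitMap x).left := by
  haveI := universallyClosed_orbitMap a x hcl hH
  haveI := Groth.Agent.AV.isSeparated_of_grpObj G
  haveI : LocallyOfFiniteType ((a.orbitMap x).left ≫ X.hom) := by rw [Over.w]; infer_instance
  haveI : LocallyOfFiniteType (a.orbitMap x).left := locallyOfFiniteType_of_comp (a.orbitMap x).left X.hom
  haveI : IsSeparated ((a.orbitMap x).left ≫ X.hom) := by rw [Over.w]; infer_instance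
  haveI : IsSeparated (a.orbitMap x).left := IsSeparated.of_comp (a.orbitMap x).left X.hom
  exact {}

end Groth.L19.OrbitProper
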