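import Groth.Agent.L19.AlgGrpBasic.NatMor
import Groth.Agent.L15.MuGL.Pts
import Mathlib.LinearAlgebra.Matrix.ToLin
import Mathlib.RingTheory.TensorProduct.Free
import Mathlib.LinearAlgebra.FiniteDimensional.Basic

/-!
# The homomorphism to `GL_n` of a stable finite-dimensional subspace
-/

set_option autoImplicit false
set_option linter.style.haveILetI false
set_option backward.isDefEq.respectTransparency.types false
set_option backward.isDefEq.respectTransparency false

universe u

open CategoryTheory CategoryTheory.Limits MonoidalCategory CartesianMonoidalCategory MonObj AlgebraicGeometry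
open scoped TensorProduct

noncomputable section

namespace Groth.L19.AlgGrpBasic.RepMatrix

variable {k : Type u} [Field k] {G : Over (Spec (CommRingCat.of k))} [GrpObj G]
  {M : Type u} [AddCommGroup M] [Module k M] (m : VecGrp.GMod G M) (N : Submodule k M)

/-- The subspace is stable under all points. -/
def Stable : Prop :=
  ∀ (B : Type u) [CommRing B] [Algebra k B] (g : VecGrp.pt k B ⟶ G) (x : VecGrp.W k M B),
    x ∈ Submodule.baseChange B N → m.ρ B g x ∈ Submodule.baseChange B N

variable {m N}

theorem Stable.sup {N' : Submodule k M} (h : Stable m N) (h' : Stable m N') : Stable m (N ⊔ N') := by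
  intro B _ _ g x hx
  obtain ⟨z, rfl⟩ := hx
  induction z using TensorProduct.induction_on with
  | zero => simp
  | add z w hz hw => rw [map_add, map_add]; exact add_mem hz hw
  | tmul b v =>
    obtain ⟨y, hy, y', hy', e⟩ := Submodule.mem_sup.1 v.2
    have e1 : (N ⊔ N').subtype.baseChange B (b ⊗ₜ v) = N.subtype.baseChange B (b ⊗ₜ ⟨y, hy⟩) +
        N'.subtype.baseChange B (b ⊗ₜ ⟨y', hy'⟩) := by
      simp [← TensorProduct.tmul_add, e]
    rw [e1, map_add]
    have mono : ∀ {P : Submodule k M}, P ≤ N ⊔ N' → Submodule.baseChange B P ≤ Submodule.baseChange B (N ⊔ N') := by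
      intro P hP
      rintro _ ⟨w, rfl⟩
      refine ⟨(Submodule.inclusion hP).baseChange B w, ?_⟩
      rw [← LinearMap.comp_apply, ← LinearMap.baseChange_comp, Submodule.subtype_comp_inclusion]
    exact add_mem (mono le_sup_left (h B g _ ⟨_, rfl⟩)) (mono le_sup_right (h' B g _ ⟨_, rfl⟩))

theorem exists_retraction (N : Submodule k M) : ∃ p : M →ₗ[k] N, p ∘ₗ N.subtype = LinearMap.id :=
  N.subtype.exists_leftInverse_of_injective N.ker_subtype

variable (hN : Stable m N) [Module.Finite k N]

/-- A retraction. -/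
def proj (N : Submodule k M) : M →ₗ[k] N := (exists_retraction N).choose

theorem proj_incl (B : Type u) [CommRing B] [Algebra k B] (y : B ⊗[k] N) :
    (proj N).baseChange B (N.subtype.baseChange B y) = y := by
  rw [← LinearMap.comp_apply, ← LinearMap.baseChange_comp, proj, (exists_retraction N).choose_spec,
    LinearMap.baseChange_id, LinearMap.id_apply]

variable (m) in
/-- The action on the subspace. -/
def resAct (B : Type u) [CommRing B] [Algebra k B] (g : VecGrp.pt k B ⟶ G) : Module.End B (B ⊗[k] N) :=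
  (proj N).baseChange B ∘ₗ (m.ρ B g).toLinearMap ∘ₗ N.subtype.baseChange B

include hN in
theorem incl_resAct (B : Type u) [CommRing B] [Algebra k B] (g : VecGrp.pt k B ⟶ G) (y : B ⊗[k] N) :
    N.subtype.baseChange B (resAct m B g y) = m.ρ B g (N.subtype.baseChange B y) := by
  obtain ⟨z, hz⟩ := hN B g _ ⟨y, rfl⟩
  show N.subtype.baseChange B ((proj N).baseChange B (m.ρ B g (N.subtype.baseChange B y))) = _
  rw [← hz, proj_incl]

/-- The action on the subspace, as a homomorphism. -/
def resHom (B : Type u) [CommRing B] [Algebra k B] : (VecGrp.pt k B ⟶ G) →* Module.End B (B ⊗[k] N) where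
  toFun := resAct m B
  map_one' := LinearMap.ext fun y => by
    show (proj N).baseChange B (m.ρ B 1 (N.subtype.baseChange B y)) = y
    rw [map_one]
    exact proj_incl B y
  map_mul' g h := LinearMap.ext fun y => by
    show (proj N).baseChange B (m.ρ B (g * h) (N.subtype.baseChange B y)) =
      (proj N).baseChange B (m.ρ B g (N.subtype.baseChange B (resAct m B h y)))
    rw [incl_resAct hN, map_mul]
    rfl

/-- The basis after base change. -/
def bas (N : Submodule k M) [Module.Finite k N] (B : Type u) [CommRing B] [Algebra k B] :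
    Module.Basis (Fin (Module.finrank k N)) B (B ⊗[k] N) :=
  Algebra.TensorProduct.basis B (Module.finBasis k N)

/-- The matrix of a point. -/
def mat (B : Type u) [CommRing B] [Algebra k B] :
    (VecGrp.pt k B ⟶ G) →* (Matrix (Fin (Module.finrank k N)) (Fin (Module.finrank k N)) B)ˣ :=
  ((LinearMap.toMatrixAlgEquiv (bas N B)).toMulEquiv.toMonoidHom.comp (resHom hN B)).toHomUnits

theorem mat_val (B : Type u) [CommRing B] [Algebra k B] (g : VecGrp.pt k B ⟶ G) :
    (mat hN B g : Matrix (Fin (Module.finrank k N)) (Fin (Module.finrank k N)) B) =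
      LinearMap.toMatrixAlgEquiv (bas N B) (resAct m B g) := rfl

theorem resAct_natural {B B' : Type u} [CommRing B] [Algebra k B] [CommRing B'] [Algebra k B'] (φ : B →ₐ[k] B')
    (g : VecGrp.pt k B ⟶ G) (y : B ⊗[k] N) :
    VecGrp.Wmap (M := N) φ (resAct m B g y) = resAct m B' (VecGrp.ptMap φ ≫ g) (VecGrp.Wmap (M := N) φ y) := by
  show VecGrp.Wmap φ ((proj N).baseChange B (m.ρ B g (N.subtype.baseChange B y))) = _
  rw [VecGrp.baseChange_natural, m.naturality, VecGrp.baseChange_natural]
  rfl

theorem bas_repr_natural {B B' : Type u} [CommRing B] [Algebra k B] [CommRing B'] [Algebra k B'] (φ : B →ₐ[k] B')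
    (y : B ⊗[k] N) (i : Fin (Module.finrank k N)) :
    (bas N B').repr (VecGrp.Wmap (M := N) φ y) i = φ ((bas N B).repr y i) := by
  induction y using TensorProduct.induction_on with
  | zero => simp
  | add a b ha hb => simp [ha, hb]
  | tmul b v => simp [bas]

theorem mat_natural {B B' : Type u} [CommRing B] [Algebra k B] [CommRing B'] [Algebra k B'] (φ : B →ₐ[k] B')
    (g : VecGrp.pt k B ⟶ G) :
    mat hN B' (VecGrp.ptMap φ ≫ g) =
      Units.map (φ.mapMatrix : Matrix (Fin (Module.finrank k N)) (Fin (Module.finrank k N)) B →ₐ[k] _).toMonoidHom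
        (mat hN B g) := by
  refine Units.ext (Matrix.ext fun i j => ?_)
  show LinearMap.toMatrixAlgEquiv (bas N B') (resAct m B' (VecGrp.ptMap φ ≫ g)) i j =
    φ (LinearMap.toMatrixAlgEquiv (bas N B) (resAct m B g) i j)
  rw [LinearMap.toMatrixAlgEquiv_apply, LinearMap.toMatrixAlgEquiv_apply, ← bas_repr_natural φ, resAct_natural]
  congr 3
  simp [bas]

theorem mat_eq_one_iff (B : Type u) [CommRing B] [Algebra k B] (g : VecGrp.pt k B ⟶ G) :
    mat hN B g = 1 ↔ ∀ x ∈ Submodule.baseChange B N, m.ρ B g x = x := by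
  rw [← Units.val_eq_one, mat_val, map_eq_one_iff _ (LinearMap.toMatrixAlgEquiv (bas N B)).injective]
  refine ⟨fun h x ⟨y, hy⟩ => ?_, fun h => LinearMap.ext fun y => ?_⟩
  · rw [← hy, ← incl_resAct hN, h]
    rfl
  · show (proj N).baseChange B (m.ρ B g (N.subtype.baseChange B y)) = y
    rw [h _ ⟨y, rfl⟩, proj_incl]

include hN in
/-- The homomorphism to `GL_n`. -/
theorem exists_hom :
    ∃ f : G ⟶ CoactBr.sp k (CoordGrp.GLn (Module.finrank k N) k), IsMonHom f ∧
      ∀ g : VecGrp.pt k k ⟶ G, g ≫ f = 1 ↔ ∀ x ∈ Submodule.baseChange k N, m.ρ k g x = x := by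
  let L := Groth.L15.MuGL.glPtsSp k (Module.finrank k N)
  obtain ⟨f, hf⟩ := exists_hom_of_natural (G := G) (T := CoactBr.sp k (CoordGrp.GLn (Module.finrank k N) k))
    (fun B _ _ g => L.pt B (mat hN B g)) (fun φ g => by
      have e := L.natural φ (mat hN _ g)
      rw [← mat_natural] at e
      exact e)
  refine ⟨f, isMonHom_of_affinePoints f fun B _ _ a b => ?_, fun g => ?_⟩
  · rw [hf, hf, hf, map_mul]
    exact map_mul (L.pt B) _ _
  · rw [hf, ← mat_eq_one_iff hN]
    exact map_eq_one_iff _ (L.pt k).injective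

end Groth.L19.AlgGrpBasic.RepMatrix
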