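import Mathlib.RingTheory.Valuation.LocalSubring
import Mathlib.RingTheory.Ideal.Quotient.Operations
import Mathlib.LinearAlgebra.TensorProduct.Finiteness
import Mathlib.RingTheory.Jacobson.Ring
import Mathlib.RingTheory.Nullstellensatz
import Mathlib.LinearAlgebra.Dual.Lemmas
import Mathlib.RingTheory.TensorProduct.Free
import Mathlib.FieldTheory.IsAlgClosed.Basic
import Mathlib.RingTheory.Localization.FractionRing

/-!
# Rosenlicht: units of a tensor product of domains split

Over an algebraically closed field a unit `u` of `A ⊗ B` (`A`, `B` domains, `B` of finite type) which is `1` on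
the two axes through a rational point is `1`: for every valuation of `Frac A` trivial on `k` the value of `u(-, y)`
is upper and lower semicontinuous in `y`, hence constant.
-/

set_option autoImplicit false
set_option linter.style.haveILetI false
universe u

open scoped TensorProduct

noncomputable section

namespace Groth.L19.AlgGrpBasic

variable {k : Type u} [Field k]

/-- evaluation of the second factor -/
def evR {A B : Type u} [CommRing A] [Algebra k A] [CommRing B] [Algebra k B] (y : B →ₐ[k] k) : A ⊗[k] B →ₐ[k] A :=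
  (Algebra.TensorProduct.rid k k A).toAlgHom.comp (Algebra.TensorProduct.map (AlgHom.id k A) y)

/-- evaluation of the first factor by a functional -/
def evL {A B : Type u} [CommRing A] [Algebra k A] [CommRing B] [Algebra k B] (ξ : A →ₗ[k] k) : A ⊗[k] B →ₗ[k] B :=
  (TensorProduct.lid k B).toLinearMap ∘ₗ ξ.rTensor B

theorem comm_evR_evL {A B : Type u} [CommRing A] [Algebra k A] [CommRing B] [Algebra k B] (y : B →ₐ[k] k)
    (ξ : A →ₗ[k] k) (z : A ⊗[k] B) : ξ (evR y z) = y (evL ξ z) := by
  induction z using TensorProduct.induction_on with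
  | zero => simp [evL]
  | tmul a b => simp [evR, evL, mul_comm]
  | add z w hz hw => simp [map_add, hz, hw]

variable {A B : Type u} [CommRing A] [Algebra k A] [CommRing B] [Algebra k B]

/-- The ideal of points where the partial evaluation lands in a subspace. -/
def landIdeal (W : Submodule k A) (z : A ⊗[k] B) : Ideal B :=
  Ideal.span ((fun ξ => evL ξ z) '' {ξ | ∀ a ∈ W, ξ a = 0})

theorem landIdeal_le_ker_iff (W : Submodule k A) (z : A ⊗[k] B) (y : B →ₐ[k] k) :
    landIdeal W z ≤ RingHom.ker y ↔ evR y z ∈ W := by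
  rw [landIdeal, Ideal.span_le]
  constructor
  · intro h
    by_contra hm
    obtain ⟨ξ, hξ, hW⟩ := Submodule.exists_dual_map_eq_bot_of_notMem hm inferInstance
    refine hξ ?_
    rw [comm_evR_evL]
    exact h ⟨ξ, fun a ha => by
      have : ξ a ∈ W.map ξ := Submodule.mem_map_of_mem ha
      rw [hW] at this
      exact (Submodule.mem_bot k).1 this, rfl⟩
  · rintro h _ ⟨ξ, hξ, rfl⟩
    rw [SetLike.mem_coe, RingHom.mem_ker, ← comm_evR_evL]
    exact hξ _ h

theorem eq_zero_of_evR [IsAlgClosed k] [Algebra.FiniteType k B] [IsReduced B] (z : A ⊗[k] B)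
    (h : ∀ y : B →ₐ[k] k, evR y z = 0) : z = 0 := by
  let b := Module.Free.chooseBasis k A
  have hJ : ∀ ξ : A →ₗ[k] k, evL ξ z = 0 := fun ξ => by
    haveI : IsJacobsonRing B := isJacobsonRing_of_finiteType (A := k)
    have hmem : evL ξ z ∈ (⊥ : Ideal B).jacobson := by
      rw [Ideal.jacobson, Ideal.mem_sInf]
      rintro m ⟨-, hm⟩
      haveI := hm
      letI : Field (B ⧸ m) := Ideal.Quotient.field m
      haveI : Algebra.FiniteType k (B ⧸ m) :=
        Algebra.FiniteType.of_surjective (Ideal.Quotient.mkₐ k m) (Ideal.Quotient.mkₐ_surjective k m)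
      haveI : Module.Finite k (B ⧸ m) := finite_of_finite_type_of_isJacobsonRing k (B ⧸ m)
      let e : (B ⧸ m) ≃ₐ[k] k := (AlgEquiv.ofBijective (Algebra.ofId k (B ⧸ m))
        ⟨(algebraMap k (B ⧸ m)).injective,
          IsAlgClosed.algebraMap_bijective_of_isIntegral.2⟩).symm
      let y : B →ₐ[k] k := e.toAlgHom.comp (Ideal.Quotient.mkₐ k m)
      have h1 : y (evL ξ z) = 0 := by rw [← comm_evR_evL, h, map_zero]
      have h2 : Ideal.Quotient.mkₐ k m (evL ξ z) = 0 := e.injective (by rw [map_zero]; exact h1)
      exact Ideal.Quotient.eq_zero_iff_mem.1 h2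
    have hrad : (⊥ : Ideal B).jacobson = ⊥ := IsJacobsonRing.out ‹IsJacobsonRing B› Ideal.isRadical_bot
    rw [hrad] at hmem
    exact hmem
  apply (TensorProduct.equivFinsuppOfBasisLeft b (N := B)).injective
  rw [map_zero]
  refine Finsupp.ext fun i => ?_
  rw [Finsupp.zero_apply]
  have e : ∀ w : A ⊗[k] B, TensorProduct.equivFinsuppOfBasisLeft b w i = evL (b.coord i) w := by
    intro w
    induction w using TensorProduct.induction_on with
    | zero => simp
    | tmul a c => simp [evL]
    | add w w' hw hw' => simp [map_add, hw, hw']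
  rw [e, hJ]

theorem exists_finrank_span (z : A ⊗[k] B) :
    ∃ V : Submodule k A, Module.Finite k V ∧ ∀ y : B →ₐ[k] k, evR y z ∈ V := by
  induction z using TensorProduct.induction_on with
  | zero => exact ⟨⊥, inferInstance, fun y => by simp⟩
  | tmul a b =>
    refine ⟨Submodule.span k {a}, inferInstance, fun y => ?_⟩
    have : evR y (a ⊗ₜ[k] b) = y b • a := by simp [evR]
    rw [this]
    exact Submodule.smul_mem _ _ (Submodule.mem_span_singleton_self a)
  | add z w hz hw =>
    obtain ⟨V, _, hV⟩ := hz
    obtain ⟨W, _, hW⟩ := hw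
    exact ⟨V ⊔ W, inferInstance, fun y => by
      rw [map_add]
      exact add_mem (Submodule.mem_sup_left (hV y)) (Submodule.mem_sup_right (hW y))⟩

/-- **Rosenlicht.** -/
theorem eq_one_of_axes [IsAlgClosed k] [IsDomain A] [IsDomain B] [Algebra.FiniteType k B]
    (u : A ⊗[k] B) (hu : IsUnit u) (xA : A →ₐ[k] k) (xB : B →ₐ[k] k) (hB : evR xB u = 1)
    (hA : evL xA.toLinearMap u = 1) : u = 1 := by
  classical
  obtain ⟨w, huw⟩ := hu.exists_right_inv
  let K := FractionRing A
  have hne : ∀ y : B →ₐ[k] k, algebraMap A K (evR y u) ≠ 0 := fun y h0 => by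
    have h1 : evR y u * evR y w = 1 := by rw [← map_mul, huw, map_one]
    rw [(map_eq_zero_iff _ (IsFractionRing.injective A K)).1 h0, zero_mul] at h1
    exact zero_ne_one h1
  have hmul : ∀ y : B →ₐ[k] k, algebraMap A K (evR y u) * algebraMap A K (evR y w) = 1 := fun y => by
    rw [← map_mul, ← map_mul, huw, map_one, map_one]
  have key : ∀ (R : ValuationSubring K), Set.range (algebraMap k K) ⊆ R → ∀ y : B →ₐ[k] k,
      algebraMap A K (evR y u) ∈ R := by
    intro R hR y
    let v := R.valuation
    have hvc : ∀ c : k, v (algebraMap k K c) ≤ 1 := fun c => (R.valuation_le_one_iff _).2 (hR ⟨c, rfl⟩)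
    let W : R.ValueGroup → Submodule k A := fun γ =>
      { carrier := {a | v (algebraMap A K a) ≤ γ}
        add_mem' := fun {a b} ha hb => by
          show v (algebraMap A K (a + b)) ≤ γ
          rw [map_add]
          exact v.map_add_le ha hb
        zero_mem' := by
          show v (algebraMap A K 0) ≤ γ
          rw [map_zero, map_zero]
          exact zero_le
        smul_mem' := fun c a ha => by
          show v (algebraMap A K (c • a)) ≤ γ
          rw [Algebra.smul_def, map_mul, ← IsScalarTower.algebraMap_apply, map_mul]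
          exact (mul_le_mul' (hvc c) ha).trans_eq (one_mul γ) }
    let val : (B →ₐ[k] k) → R.ValueGroup := fun z => v (algebraMap A K (evR z u))
    have hval0 : ∀ z, val z ≠ 0 := fun z => by simp [val, hne z]
    -- finitely many values
    obtain ⟨V, hVfin, hV⟩ := exists_finrank_span u
    let d : R.ValueGroup → ℕ := fun γ => Module.finrank k ↥(V ⊓ W γ)
    have hmono : ∀ z z', val z < val z' → d (val z) < d (val z') := by
      intro z z' hlt
      haveI : FiniteDimensional k ↥(V ⊓ W (val z')) := Submodule.finiteDimensional_of_le inf_le_left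
      refine Submodule.finrank_lt_finrank_of_lt (lt_of_le_not_ge
        (inf_le_inf_left V fun a ha => le_trans (show v (algebraMap A K a) ≤ val z from ha) hlt.le) fun h => ?_)
      exact not_le.2 hlt (h ⟨hV z', le_refl (val z')⟩).2
    have hfin : (Set.range val).Finite := by
      have hinj : Set.InjOn d (Set.range val) := by
        rintro _ ⟨z, rfl⟩ _ ⟨z', rfl⟩ h
        rcases lt_trichotomy (val z) (val z') with hlt | heq | hlt
        · exact absurd h (hmono z z' hlt).ne
        · exact heq
        · exact absurd h (hmono z' z hlt).ne'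
      refine Set.Finite.of_finite_image ((Set.finite_le_nat (Module.finrank k V)).subset ?_) hinj
      rintro _ ⟨γ, -, rfl⟩
      exact Submodule.finrank_mono inf_le_left
    -- level sets are closed
    let J : R.ValueGroup → Ideal B := fun γ => landIdeal (W γ) u ⊔ landIdeal (W γ⁻¹) w
    have hJ : ∀ γ, γ ≠ 0 → ∀ z : B →ₐ[k] k, J γ ≤ RingHom.ker z ↔ val z = γ := by
      intro γ hγ z
      rw [sup_le_iff, landIdeal_le_ker_iff, landIdeal_le_ker_iff]
      have h1 : v (algebraMap A K (evR z w)) = (val z)⁻¹ := by
        refine eq_inv_of_mul_eq_one_right ?_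
        show v _ * v _ = 1
        rw [← map_mul, hmul, map_one]
      show val z ≤ γ ∧ v (algebraMap A K (evR z w)) ≤ γ⁻¹ ↔ _
      rw [h1, inv_le_inv₀ (zero_lt_iff.2 (hval0 z)) (zero_lt_iff.2 hγ)]
      exact ⟨fun h => le_antisymm h.1 h.2, fun h => ⟨h.le, h.ge⟩⟩
    have hprod : ∏ γ ∈ hfin.toFinset, J γ = ⊥ := by
      refine le_bot_iff.1 fun b hb => ?_
      have hz : (1 : A) ⊗ₜ[k] b = 0 := eq_zero_of_evR _ fun z => by
        have hm : b ∈ RingHom.ker z := by
          have hle : ∏ γ ∈ hfin.toFinset, J γ ≤ J (val z) := by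
            refine le_trans Ideal.prod_le_inf ?_
            exact Finset.inf_le (hfin.mem_toFinset.2 ⟨z, rfl⟩)
          exact ((hJ _ (hval0 z) z).2 rfl) (hle hb)
        rw [RingHom.mem_ker] at hm
        simp [evR, hm]
      have := congrArg (evL xA.toLinearMap) hz
      simpa [evL] using this
    obtain ⟨γ, hγ, hγJ⟩ : ∃ γ ∈ hfin.toFinset, J γ = ⊥ := Finset.prod_eq_zero_iff.1 hprod
    obtain ⟨z₀, rfl⟩ := hfin.mem_toFinset.1 hγ
    have hconst : ∀ z, val z = val z₀ := fun z => (hJ _ (hval0 z₀) z).1 (hγJ.le.trans bot_le)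
    rw [← R.valuation_le_one_iff]
    refine le_of_eq ?_
    show val y = 1
    rw [hconst y, ← hconst xB]
    simp [val, hB]
  refine sub_eq_zero.1 (eq_zero_of_evR _ fun y => ?_)
  rw [map_sub, map_one, sub_eq_zero]
  -- the partial evaluation is integral over `k`, hence constant
  have hint : IsIntegral k (algebraMap A K (evR y u)) := by
    have hmem : algebraMap A K (evR y u) ∈
        (⨅ V : {V : ValuationSubring K // Set.range (algebraMap k K) ⊆ V.toSubring}, V.1.toSubring) :=
      Subring.mem_iInf.2 fun V => key V.1 V.2 y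
    rw [iInf_valuationSubring_superset] at hmem
    have h0 : IsIntegral (Subring.closure (Set.range (algebraMap k K))) (algebraMap A K (evR y u)) := hmem
    have hcl : Subring.closure (Set.range (algebraMap k K)) = (algebraMap k K).range := by
      rw [← RingHom.coe_range, Subring.closure_eq]
    rw [hcl] at h0
    obtain ⟨p, hp, hpe⟩ := h0
    obtain ⟨q, hq, -, hqm⟩ := Polynomial.lifts_and_degree_eq_and_monic
      (f := (algebraMap k K).rangeRestrict) (p := p) ((Polynomial.lifts_iff_coeff_lifts p).2 fun i =>
        (algebraMap k K).rangeRestrict_surjective _) hp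
    refine ⟨q, hqm, ?_⟩
    rw [← hq, Polynomial.eval₂_map] at hpe
    exact hpe
  haveI : Algebra.IsIntegral k ↥(Algebra.adjoin k {algebraMap A K (evR y u)}) :=
    le_integralClosure_iff_isIntegral.1 (Algebra.adjoin_le (Set.singleton_subset_iff.2 hint))
  obtain ⟨c, hc⟩ := (IsAlgClosed.algebraMap_bijective_of_isIntegral (k := k)
    (K := ↥(Algebra.adjoin k {algebraMap A K (evR y u)}))).2 ⟨_, Algebra.subset_adjoin rfl⟩
  have hc' : algebraMap A K (algebraMap k A c) = algebraMap A K (evR y u) := by
    rw [← IsScalarTower.algebraMap_apply]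
    exact congrArg Subtype.val hc
  have hc'' := IsFractionRing.injective A K hc'
  have h1 : xA.toLinearMap (evR y u) = 1 := by rw [comm_evR_evL, hA, map_one]
  rw [← hc''] at h1 ⊢
  rw [AlgHom.toLinearMap_apply, AlgHom.commutes] at h1
  rw [show c = 1 from h1, map_one]

end Groth.L19.AlgGrpBasic
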