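import Groth.Agent.L19.AlgGrpBasic.SplitH90
import Groth.Agent.L19.SpecSub.LineInUnip
import Groth.Agent.L20.Rational.Solvable
import Groth.Agent.L08.TorusQuot.Affine
import Groth.Agent.L08.HopfImage
import Groth.Agent.L08.Borel.SolvTori
import Groth.Agent.L26.AbDual.HopfEtale
import Mathlib.RingTheory.KrullDimension.NonZeroDivisors

/-!
# Connected solvable linear groups over an algebraically closed field are good

Every Čech cocycle of such a group over a field is a coboundary after a field extension.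
-/

set_option autoImplicit false
set_option linter.style.haveILetI false
set_option linter.unusedSectionVars false
set_option backward.isDefEq.respectTransparency.types false

universe u

open CategoryTheory CategoryTheory.Limits MonoidalCategory CartesianMonoidalCategory MonObj GrpObj AlgebraicGeometry
open scoped TensorProduct
open Groth.L25.Bridge (P)
open Groth.L08.TorusQuot (sp sp_left)
open Groth.L01.SmoothKer (IsPrim)

noncomputable section

namespace Groth.L19.AlgGrpBasic.SplitH90

variable {k : Type u} [Field k]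

section Kernel

variable {A B : Type u} [CommRing A] [HopfAlgebra k A] [CommRing B] [HopfAlgebra k B]

theorem specQuot_left (J : Ideal A) [J.IsHopfIdeal k] :
    (sp (Bialgebra.Quotient.mkBialgHom (R := k) J)).left = Spec.map (CommRingCat.ofHom (Ideal.Quotient.mk J)) :=
  sp_left _

instance mono_specQuot (J : Ideal A) [J.IsHopfIdeal k] : Mono (sp (Bialgebra.Quotient.mkBialgHom (R := k) J)) := by
  haveI : IsClosedImmersion (sp (Bialgebra.Quotient.mkBialgHom (R := k) J)).left := by
    rw [specQuot_left]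
    exact IsClosedImmersion.spec_of_surjective _ Ideal.Quotient.mk_surjective
  exact Over.mono_of_mono_left _

/-- The kernel of `Spec A → Spec B` is cut out by the augmentation ideal of `B`. -/
theorem exists_lift_specKer (ψ : B →ₐc[k] A) (J : Ideal A) [J.IsHopfIdeal k]
    (hJ : J ≤ Ideal.map (ψ : B →+* A) (RingHom.ker (Bialgebra.counitAlgHom k B)))
    (X : Over (Spec (CommRingCat.of k))) (x : X ⟶ P k A) (hx : x ≫ sp ψ = 1) :
    ∃ x' : X ⟶ P k (A ⧸ J), x' ≫ sp (Bialgebra.Quotient.mkBialgHom (R := k) J) = x := by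
  let ρ : CommRingCat.of A ⟶ Γ(X.left, ⊤) := (Scheme.ΓSpecIso (CommRingCat.of A)).inv ≫ x.left.appTop
  have hρ : x.left = X.left.toSpecΓ ≫ Spec.map ρ := by
    have h1 := Scheme.toSpecΓ_naturality x.left
    calc x.left = x.left ≫ (Spec (CommRingCat.of A)).toSpecΓ ≫ Spec.map (Scheme.ΓSpecIso (CommRingCat.of A)).inv :=
          (Category.comp_id _).symm.trans (congrArg (x.left ≫ ·) (toSpecΓ_SpecMap_ΓSpecIso_inv _).symm)
      _ = (X.left.toSpecΓ ≫ Spec.map x.left.appTop) ≫ Spec.map (Scheme.ΓSpecIso (CommRingCat.of A)).inv :=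
          (Category.assoc _ _ _).symm.trans (congrArg (· ≫ Spec.map (Scheme.ΓSpecIso (CommRingCat.of A)).inv) h1)
      _ = X.left.toSpecΓ ≫ Spec.map ρ :=
          (Category.assoc _ _ _).trans (congrArg (X.left.toSpecΓ ≫ ·) (Spec.map_comp _ _).symm)
  have hw : x.left ≫ Spec.map (CommRingCat.ofHom (ψ : B →+* A)) =
      X.hom ≫ Spec.map (CommRingCat.ofHom (Bialgebra.counitAlgHom k B).toRingHom) := by
    have h : x.left ≫ (sp ψ).left = (toUnit X).left ≫ (η[P k B]).left :=
      (congrArg CommaMorphism.left (hx.trans Hom.one_def) : (x ≫ sp ψ).left = (toUnit X ≫ η[P k B]).left)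
    exact h
  have hw' := congrArg Scheme.Hom.appTop hw
  rw [Scheme.Hom.comp_appTop, Scheme.Hom.comp_appTop] at hw'
  have hker : ∀ b ∈ RingHom.ker (Bialgebra.counitAlgHom k B), ρ.hom (ψ b) = 0 := by
    intro b hb
    have n1 : (Spec.map (CommRingCat.ofHom (ψ : B →+* A))).appTop ((Scheme.ΓSpecIso (CommRingCat.of B)).inv b) =
        (Scheme.ΓSpecIso (CommRingCat.of A)).inv (ψ b) :=
      (congrArg (fun m => (ConcreteCategory.hom m) b)
        (Scheme.ΓSpecIso_inv_naturality (CommRingCat.ofHom (ψ : B →+* A)))).symm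
    have n2 : (Spec.map (CommRingCat.ofHom (Bialgebra.counitAlgHom k B).toRingHom)).appTop
        ((Scheme.ΓSpecIso (CommRingCat.of B)).inv b) =
        (Scheme.ΓSpecIso (CommRingCat.of k)).inv (Bialgebra.counitAlgHom k B b) :=
      (congrArg (fun m => (ConcreteCategory.hom m) b)
        (Scheme.ΓSpecIso_inv_naturality (CommRingCat.ofHom (Bialgebra.counitAlgHom k B).toRingHom))).symm
    have h : x.left.appTop ((Scheme.ΓSpecIso (CommRingCat.of A)).inv (ψ b)) =
        X.hom.appTop ((Scheme.ΓSpecIso (CommRingCat.of k)).inv (Bialgebra.counitAlgHom k B b)) :=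
      (congrArg x.left.appTop.hom n1.symm).trans
        ((congrArg (fun m => (ConcreteCategory.hom m) ((Scheme.ΓSpecIso (CommRingCat.of B)).inv b)) hw').trans
          (congrArg X.hom.appTop.hom n2))
    refine h.trans ?_
    rw [show Bialgebra.counitAlgHom k B b = 0 from hb, map_zero, map_zero]
  have hle : J ≤ RingHom.ker ρ.hom := hJ.trans (Ideal.map_le_iff_le_comap.2 fun b hb => hker b hb)
  let ρ' : CommRingCat.of (A ⧸ J) ⟶ Γ(X.left, ⊤) := CommRingCat.ofHom (Ideal.Quotient.lift J ρ.hom fun a ha => hle ha)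
  have hfac : (X.left.toSpecΓ ≫ Spec.map ρ') ≫ Spec.map (CommRingCat.ofHom (Ideal.Quotient.mk J)) = x.left := by
    rw [Category.assoc, ← Spec.map_comp, hρ]
    rfl
  refine ⟨Over.homMk (X.left.toSpecΓ ≫ Spec.map ρ') ?_, Over.OverMorphism.ext ?_⟩
  · exact (congrArg ((X.left.toSpecΓ ≫ Spec.map ρ') ≫ ·)
      (Over.w (sp (Bialgebra.Quotient.mkBialgHom (R := k) J))).symm).trans
        ((Category.assoc _ _ _).symm.trans ((congrArg (· ≫ (P k A).hom) hfac).trans (Over.w x)))
  · exact hfac

/-- `Spec` of an injective map of Hopf algebras is surjective. -/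
theorem surjective_sp [Algebra.FiniteType k A] (ψ : B →ₐc[k] A) (hψ : Function.Injective ψ) :
    Surjective (sp ψ).left := by
  have h := Groth.L08.HopfImage.faithfullyFlat_of_injective ψ hψ
  rw [sp_left]
  exact ⟨(RingHom.FaithfullyFlat.iff_flat_and_comap_surjective.1 h).2⟩

end Kernel

/-- The Hopf algebra of the additive group gives a good group. -/
theorem good_symm : Good (P k (SymmetricAlgebra k k)) := by
  let s : SymmetricAlgebra k k := SymmetricAlgebra.ι k k 1
  let g : P k (SymmetricAlgebra k k) ⟶ Red.Ga (Spec (CommRingCat.of k)) :=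
    Groth.L25.GaPts.ptOfElt (Groth.Agent.HopfEtale.fn (k := k) _ s)
  haveI hg : IsMonHom g :=
    (Groth.Agent.HopfEtale.isMonHom_ga_iff _ g s (Groth.L25.GaPts.gaFn_ptOfElt _)).2 (SymmetricAlgebra.comul_ι k k 1)
  let G := Red.Ga (Spec (CommRingCat.of k))
  let str : k →+* Γ(G.left, ⊤) := ((Scheme.ΓSpecIso (CommRingCat.of k)).inv ≫ G.hom.appTop).hom
  letI : Algebra k Γ(G.left, ⊤) := str.toAlgebra
  let v : Γ(G.left, ⊤) := Red.gaFn (𝟙 G)
  let φ : SymmetricAlgebra k k →ₐ[k] Γ(G.left, ⊤) := Groth.L25.GaPts.liftGen v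
  let h : G ⟶ P k (SymmetricAlgebra k k) := Over.homMk (G.left.toSpecΓ ≫ Spec.map (CommRingCat.ofHom φ.toRingHom)) (by
    refine ext_of_isAffine ?_
    show ((G.left.toSpecΓ ≫ Spec.map _) ≫ Spec.map (CommRingCat.ofHom (algebraMap k (SymmetricAlgebra k k)))).appTop = _
    rw [Category.assoc, ← Spec.map_comp, ← CommRingCat.ofHom_comp,
      show CommRingCat.ofHom (φ.toRingHom.comp (algebraMap k (SymmetricAlgebra k k))) = CommRingCat.ofHom str from
        congrArg CommRingCat.ofHom φ.comp_algebraMap, Scheme.Hom.comp_appTop,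
      Scheme.toSpecΓ_appTop, Scheme.ΓSpecIso_naturality]
    show (Scheme.ΓSpecIso (CommRingCat.of k)).hom ≫ ((Scheme.ΓSpecIso (CommRingCat.of k)).inv ≫ G.hom.appTop) = _
    rw [Iso.hom_inv_id_assoc])
  have hs : h.left.appTop (Groth.Agent.HopfEtale.fn (k := k) _ s) = v := by
    show (G.left.toSpecΓ ≫ Spec.map (CommRingCat.ofHom φ.toRingHom)).appTop
      ((Scheme.ΓSpecIso (CommRingCat.of (SymmetricAlgebra k k))).inv s) = v
    rw [Scheme.Hom.comp_appTop, Scheme.toSpecΓ_appTop, Scheme.ΓSpecIso_naturality]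
    show φ ((Scheme.ΓSpecIso (CommRingCat.of (SymmetricAlgebra k k))).hom
      ((Scheme.ΓSpecIso (CommRingCat.of (SymmetricAlgebra k k))).inv s)) = v
    rw [Iso.inv_hom_id_apply]
    exact Groth.L25.GaPts.liftGen_gen v
  have hhg : h ≫ g = 𝟙 G := by
    refine Groth.L25.GaPts.gaFn_injective ?_
    show Red.gaFn (h ≫ g) = Red.gaFn (𝟙 G)
    rw [Groth.L25.GaPts.gaFn_comp, Groth.L25.GaPts.gaFn_ptOfElt]
    exact hs
  have hgh : g ≫ h = 𝟙 _ := by
    refine Over.OverMorphism.ext (ext_of_isAffine ?_)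
    rw [Over.comp_left, Scheme.Hom.comp_appTop, Over.id_left, Scheme.Hom.id_appTop]
    let inv₀ := (Scheme.ΓSpecIso (CommRingCat.of (SymmetricAlgebra k k))).inv
    let F : CommRingCat.of (SymmetricAlgebra k k) ⟶ Γ((P k (SymmetricAlgebra k k)).left, ⊤) :=
      inv₀ ≫ h.left.appTop ≫ g.left.appTop
    suffices F = inv₀ by
      exact (cancel_epi inv₀).1 (this.trans (Category.comp_id _).symm)
    letI : Algebra k Γ((P k (SymmetricAlgebra k k)).left, ⊤) :=
      (inv₀.hom.comp (algebraMap k (SymmetricAlgebra k k))).toAlgebra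
    have hc : ∀ c, F.hom (algebraMap k _ c) = inv₀.hom (algebraMap k _ c) := by
      intro c
      have h1 : (g ≫ h).left ≫ (P k (SymmetricAlgebra k k)).hom = (P k (SymmetricAlgebra k k)).hom := Over.w _
      have h2 := congrArg (fun m => (Scheme.ΓSpecIso (CommRingCat.of k)).inv ≫ Scheme.Hom.appTop m) h1
      simp only [Scheme.Hom.comp_appTop] at h2
      have h3 : (Scheme.ΓSpecIso (CommRingCat.of k)).inv ≫ (P k (SymmetricAlgebra k k)).hom.appTop =
          CommRingCat.ofHom (algebraMap k (SymmetricAlgebra k k)) ≫ inv₀ :=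
        (Scheme.ΓSpecIso_inv_naturality _).symm
      rw [reassoc_of% h3, h3] at h2
      exact congrArg (fun m => m.hom c) h2
    let F₁ : SymmetricAlgebra k k →ₐ[k] Γ((P k (SymmetricAlgebra k k)).left, ⊤) := { F.hom with commutes' := hc }
    let F₂ : SymmetricAlgebra k k →ₐ[k] Γ((P k (SymmetricAlgebra k k)).left, ⊤) :=
      { inv₀.hom with commutes' := fun _ => rfl }
    refine CommRingCat.hom_ext (congrArg AlgHom.toRingHom (Groth.L25.GaPts.algHom_ext_gen (F := F₁) (G := F₂) ?_))
    show g.left.appTop (h.left.appTop (Groth.Agent.HopfEtale.fn (k := k) _ s)) = Groth.Agent.HopfEtale.fn (k := k) _ s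
    rw [hs, ← Groth.L25.GaPts.gaFn_comp, Category.comp_id, Groth.L25.GaPts.gaFn_ptOfElt]
  haveI : IsIso g := ⟨h, hgh, hhg⟩
  exact good_Ga.of_iso g

variable [IsAlgClosed k]

open Groth.L01.MultConj in
theorem good_unip_aux : ∀ (n : ℕ) (A : Type u) [CommRing A] [HopfAlgebra k A] [Algebra.FiniteType k A]
    [IsDomain A], HopfRep.IsUnipotent k A → ringKrullDim A = n → Good (P k A) := by
  intro n
  induction n using Nat.strong_induction_on with
  | _ n IH =>
  intro A _ _ _ _ hU hdim
  by_cases hne : RingHom.ker (Bialgebra.counitAlgHom k A) = ⊥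
  · refine Good.of_isIso ?_
    have hbij : Function.Bijective (algebraMap k A) := ⟨(algebraMap k A).injective, fun a =>
      ⟨Bialgebra.counitAlgHom k A a, by
        refine ((RingHom.injective_iff_ker_eq_bot _).2 hne) ?_
        simp⟩⟩
    haveI : IsIso (CommRingCat.ofHom (algebraMap k A)) :=
      ((RingEquiv.ofBijective _ hbij).toCommRingCatIso).isIso_hom
    exact inferInstanceAs (IsIso (Spec.map (CommRingCat.ofHom (algebraMap k A))))
  haveI := Groth.L01.Unip.isDomain_tensor_self (k := k) (C := A)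
  obtain ⟨f, hf, hf0, hdom⟩ := exists_good (K := k) hU hne
  haveI := isHopfIdeal_span_prim hf
  let J : Ideal A := Ideal.span {f}
  haveI : IsDomain (A ⧸ J) :=
    haveI := hdom
    MulEquiv.isDomain (k ⊗[k] (A ⧸ J)) (Algebra.TensorProduct.lid k (A ⧸ J)).symm.toMulEquiv
  let ψ₀ : SymmetricAlgebra k k →ₐ[k] A := Groth.L25.GaPts.liftGen f
  have hψ₀ : ψ₀ (SymmetricAlgebra.ι k k 1) = f := Groth.L25.GaPts.liftGen_gen f
  let ψ : SymmetricAlgebra k k →ₐc[k] A := BialgHom.ofAlgHom ψ₀
    (Groth.L25.GaPts.algHom_ext_gen (by simp [hψ₀, hf.counit, SymmetricAlgebra.algebraMapInv_ι]))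
    (Groth.L25.GaPts.algHom_ext_gen (by
      show Algebra.TensorProduct.map ψ₀ ψ₀ (Coalgebra.comul (R := k) (SymmetricAlgebra.ι k k 1)) =
        Coalgebra.comul (R := k) (ψ₀ (SymmetricAlgebra.ι k k 1))
      rw [SymmetricAlgebra.comul_ι, hψ₀, show Coalgebra.comul (R := k) f = _ from hf]
      simp [hψ₀]))
  have hψι : ψ (SymmetricAlgebra.ι k k 1) = f := hψ₀
  have hψ : Function.Injective ψ := by
    let e : SymmetricAlgebra k k →ₐ[k] Polynomial k := Groth.L25.GaPts.liftGen Polynomial.X
    have hcomp : (Polynomial.aeval (SymmetricAlgebra.ι k k 1)).comp e = AlgHom.id k _ :=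
      Groth.L25.GaPts.algHom_ext_gen (by simp [e, Groth.L25.GaPts.liftGen_gen])
    have hfac : (Polynomial.aeval f).comp e = ψ₀ :=
      Groth.L25.GaPts.algHom_ext_gen (by simp [e, Groth.L25.GaPts.liftGen_gen, hψ₀])
    intro a b hab
    have ha : Polynomial.aeval f (e a) = Polynomial.aeval f (e b) := by
      have h1 := DFunLike.congr_fun hfac a
      have h2 := DFunLike.congr_fun hfac b
      exact h1.trans (hab.trans h2.symm)
    have htr : Transcendental k f := by
      intro halg
      obtain ⟨c, hcf⟩ := minpoly.mem_range_of_degree_eq_one k f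
        (IsAlgClosed.degree_eq_one_of_irreducible k (minpoly.irreducible halg.isIntegral))
      refine hf0 ?_
      have h0 := hf.counit
      rw [← hcf, Bialgebra.counit_algebraMap] at h0
      rw [← hcf, h0, map_zero]
    have heq := (transcendental_iff_injective.1 htr) ha
    have h1 := DFunLike.congr_fun hcomp a
    have h2 := DFunLike.congr_fun hcomp b
    exact h1.symm.trans ((congrArg (Polynomial.aeval (SymmetricAlgebra.ι k k 1)) heq).trans h2)
  have hJ : J ≤ Ideal.map (ψ : SymmetricAlgebra k k →+* A)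
      (RingHom.ker (Bialgebra.counitAlgHom k (SymmetricAlgebra k k))) := by
    refine (Ideal.span_singleton_le_iff_mem _).2 ?_
    rw [← hψι]
    have hmem : (SymmetricAlgebra.ι k k (1 : k)) ∈ RingHom.ker (Bialgebra.counitAlgHom k (SymmetricAlgebra k k)) := ?_
    exact Ideal.mem_map_of_mem (ψ : SymmetricAlgebra k k →+* A) hmem
    show Coalgebra.counit (R := k) (SymmetricAlgebra.ι k k (1 : k)) = 0
    exact SymmetricAlgebra.counit_ι k k 1
  haveI : Algebra.FiniteType k (A ⧸ J) :=
    Algebra.FiniteType.of_surjective (Ideal.Quotient.mkₐ k J) Ideal.Quotient.mk_surjective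
  have hUJ : HopfRep.IsUnipotent k (A ⧸ J) :=
    (Groth.Agent.S5422.result k A).1 (A ⧸ J) (Bialgebra.Quotient.mkBialgHom J) Ideal.Quotient.mk_surjective hU
  obtain ⟨m, hm⟩ := Groth.L01.Unip.exists_ringKrullDim k (A ⧸ J)
  have hlt : m < n := by
    have h2 := ringKrullDim_quotient_succ_le_of_nonZeroDivisor (mem_nonZeroDivisors_of_ne_zero hf0)
    have h3 : ((m + 1 : ℕ) : WithBot ℕ∞) ≤ (n : WithBot ℕ∞) := by
      rw [← hdim, Nat.cast_add, Nat.cast_one, ← hm]
      exact h2
    exact Nat.lt_of_succ_le (by exact_mod_cast h3)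
  haveI := surjective_sp ψ hψ
  exact Good.of_extension (sp (Bialgebra.Quotient.mkBialgHom (R := k) J)) (sp ψ)
    (exists_lift_specKer ψ J hJ) (IH m hlt (A ⧸ J) hUJ hm) good_symm

/-- Connected solvable linear groups are good. -/
theorem good_hopf_solvable (A : Type u) [CommRing A] [HopfAlgebra k A] [Algebra.FiniteType k A] [IsDomain A]
    [Group.IsSolvable (Groth.L25.Dyn.Pt (k := k) A k)] : Good (P k A) := by
  classical
  have hconn : ∀ e : A, IsIdempotentElem e → e = 0 ∨ e = 1 := fun e he => IsIdempotentElem.iff_eq_zero_or_one.1 he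
  haveI : _root_.IsReduced A := inferInstance
  obtain ⟨B, _, _, ψ, J, hJI, r, n, hψ, -, hJ, hU, hr, ⟨eB⟩⟩ := Groth.L08.Borel.exists_retraction (k := k) hconn
  letI := hJI
  haveI : IsDomain (A ⧸ J) := by
    let u : Groth.L25.Dyn.Pt (k := k) A A := WithConv.toConv (AlgHom.id k A)
    let w : Groth.L25.Dyn.Pt (k := k) A A := WithConv.toConv ((ψ : B →ₐ[k] A).comp (r : A →ₐ[k] B))
    let φ : Groth.L25.Dyn.Pt (k := k) A A := u * w⁻¹
    have hrψ : ∀ b, r (ψ b) = b := fun b => congrArg (fun f : B →ₐc[k] B => f b) hr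
    have hφ : Groth.L20.SolvCell.resB ψ φ = 1 := by
      have : Groth.L20.SolvCell.resB ψ w = Groth.L20.SolvCell.resB ψ u :=
        WithConv.ext (AlgHom.ext fun b => congrArg ψ (hrψ b))
      rw [map_mul, map_inv, this, mul_inv_cancel]
    have hφJ : ∀ a ∈ J, φ.ofConv a = 0 := by
      have hle : J ≤ RingHom.ker φ.ofConv := by
        refine le_of_eq_of_le hJ (Ideal.map_le_iff_le_comap.2 fun b hb => ?_)
        show φ.ofConv (ψ b) = 0
        have h1 := congrArg (fun x : Groth.L25.Dyn.Pt (k := k) B A => x.ofConv b) hφ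
        rw [show (Groth.L20.SolvCell.resB ψ φ).ofConv b = φ.ofConv (ψ b) from rfl] at h1
        rw [h1]
        show algebraMap k A (Coalgebra.counit (R := k) b) = 0
        rw [show Coalgebra.counit (R := k) b = 0 from hb, map_zero]
      exact fun a ha => hle ha
    let π := Ideal.Quotient.mkₐ k J
    let φb : A ⧸ J →ₐ[k] A := Ideal.Quotient.liftₐ J φ.ofConv hφJ
    have hπw : Groth.L25.Dyn.pmap π w = 1 := WithConv.ext (AlgHom.ext fun a => by
      have h := congrArg (fun x : Groth.L25.Dyn.Pt (k := k) B (A ⧸ J) => x.ofConv (r a))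
        (Groth.L01.UnipSplit.isKer_mk J hJ)
      refine h.trans ?_
      show algebraMap k _ (Coalgebra.counit (R := k) (r a)) = algebraMap k _ (Coalgebra.counit (R := k) a)
      rw [CoalgHomClass.counit_comp_apply])
    have hπφ : Groth.L25.Dyn.pmap π φ = WithConv.toConv π := by
      rw [map_mul, map_inv, hπw, inv_one, _root_.mul_one]
      rfl
    have hinv : ∀ z, π (φb z) = z := fun z => by
      obtain ⟨a, rfl⟩ := Ideal.Quotient.mk_surjective z
      exact congrArg (fun x : Groth.L25.Dyn.Pt (k := k) A (A ⧸ J) => x.ofConv a) hπφ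
    exact Function.Injective.isDomain φb (Function.LeftInverse.injective hinv)
  haveI : Algebra.FiniteType k (A ⧸ J) :=
    Algebra.FiniteType.of_surjective (Ideal.Quotient.mkₐ k J) Ideal.Quotient.mk_surjective
  obtain ⟨m, hm⟩ := Groth.L01.Unip.exists_ringKrullDim k (A ⧸ J)
  haveI := surjective_sp ψ hψ
  refine Good.of_extension (sp (Bialgebra.Quotient.mkBialgHom (R := k) J)) (sp ψ)
    (exists_lift_specKer ψ J hJ.le) (good_unip_aux m (A ⧸ J) hU hm) ?_
  let E := Groth.L25.Bridge.mapIso eB.symm ≪≫ (Groth.L25.Bridge.dsIso k (Fin n → ℤ)).symm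
  haveI : IsMonHom E.hom.hom.hom := E.hom.hom.isMonHom_hom
  haveI : IsIso E.hom.hom.hom :=
    ⟨E.inv.hom.hom, congrArg (fun f => f.hom.hom) E.hom_inv_id, congrArg (fun f => f.hom.hom) E.inv_hom_id⟩
  exact (good_DS (S := Spec (CommRingCat.of k)) n).of_iso E.hom.hom.hom

end Groth.L19.AlgGrpBasic.SplitH90
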