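import Groth.Agent.L27.Torsor.Zariski
import Groth.Agent.L25.CentralLift.Etale
import Groth.Agent.L25.DSPts
import Groth.Prelude.Def_AlgGrp
import Mathlib.AlgebraicGeometry.ResidueField
import Mathlib.Algebra.Algebra.Field

/-!
# Groups all of whose field-valued cocycles are coboundaries

A group scheme `G` over `S` is `Good` if for every field-valued point `g : Spec K ⟶ S` every Čech cocycle
of `G` over a field extension `L/K` becomes a coboundary over a larger extension.  The class contains
`G_a`, split tori, and is closed under base change and extensions; torsors under such groups have points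
over fields.
-/

set_option autoImplicit false
set_option linter.style.haveILetI false
set_option backward.isDefEq.respectTransparency.types false
set_option backward.isDefEq.respectTransparency false

universe u

open CategoryTheory CategoryTheory.Limits MonoidalCategory CartesianMonoidalCategory MonObj GrpObj AlgebraicGeometry
open scoped TensorProduct
open Groth.L27.Torsor

noncomputable section

namespace Groth.L19.AlgGrpBasic.SplitH90

variable {S : Scheme.{u}}

/-- Cocycles over fields become coboundaries. -/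
def Good (G : Over S) [GrpObj G] : Prop :=
  ∀ (K : Type u) [Field K] (g : Spec (CommRingCat.of K) ⟶ S) (L : Type u) [Field L] [Algebra K L]
    (c : sp (A := CommRingCat.of K) g (L ⊗[K] L) ⟶ G),
    spMap g (e13 K L) ≫ c = (spMap g (e23 K L) ≫ c) * (spMap g (e12 K L) ≫ c) →
      ∃ (L' : Type u) (_ : Field L') (_ : Algebra K L') (φ : L →ₐ[K] L') (b : sp (A := CommRingCat.of K) g L' ⟶ G),
        (spMap g Algebra.TensorProduct.includeRight ≫ b) * (spMap g (Algebra.TensorProduct.map φ φ) ≫ c) =
          spMap g Algebra.TensorProduct.includeLeft ≫ b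

section Lift

variable {K : Type u} [Field K] (g : Spec (CommRingCat.of K) ⟶ S)

/-- Field-valued points lift along surjective morphisms after a field extension. -/
theorem exists_field_lift {G Q : Over S} (q : G ⟶ Q) [Surjective q.left] {L : Type u} [Field L] [Algebra K L]
    (b₀ : sp (A := CommRingCat.of K) g L ⟶ Q) :
    ∃ (L' : Type u) (_ : Field L') (_ : Algebra K L') (φ : L →ₐ[K] L') (b : sp (A := CommRingCat.of K) g L' ⟶ G),
      b ≫ q = spMap g φ ≫ b₀ := by
  haveI : Nonempty ↥(pullback q.left b₀.left) := by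
    let w : Spec (CommRingCat.of L) := IsLocalRing.closedPoint L
    obtain ⟨r, hr⟩ := q.left.surjective (b₀.left w)
    obtain ⟨z, -⟩ := Scheme.Pullback.exists_preimage_pullback (f := q.left) (g := b₀.left) r w hr
    exact ⟨z⟩
  obtain ⟨z⟩ := ‹Nonempty ↥(pullback q.left b₀.left)›
  obtain ⟨φ₀, hφ₀⟩ := Spec.map_surjective
    ((pullback q.left b₀.left).fromSpecResidueField z ≫ pullback.snd q.left b₀.left)
  let L' : Type u := (pullback q.left b₀.left).residueField z
  let φ' : L →+* L' := φ₀.hom
  letI : Algebra K L' := (φ'.comp (algebraMap K L)).toAlgebra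
  let φ : L →ₐ[K] L' := { φ' with commutes' := fun _ => rfl }
  let b : sp (A := CommRingCat.of K) g L' ⟶ G :=
    Over.homMk ((pullback q.left b₀.left).fromSpecResidueField z ≫ pullback.fst q.left b₀.left) (by
      rw [Category.assoc, ← Over.w q, pullback.condition_assoc, Over.w b₀, ← reassoc_of% hφ₀]
      exact Over.w (spMap (A := CommRingCat.of K) g φ))
  refine ⟨L', inferInstance, inferInstance, φ, b, Over.OverMorphism.ext ?_⟩
  show ((pullback q.left b₀.left).fromSpecResidueField z ≫ pullback.fst q.left b₀.left) ≫ q.left = Spec.map φ₀ ≫ b₀.left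
  rw [hφ₀, Category.assoc, Category.assoc, pullback.condition]

theorem map_comp_left {L L' : Type u} [Field L] [Algebra K L] [Field L'] [Algebra K L'] (φ : L →ₐ[K] L') :
    (Algebra.TensorProduct.map φ φ).comp Algebra.TensorProduct.includeLeft =
      (Algebra.TensorProduct.includeLeft : L' →ₐ[K] L' ⊗[K] L').comp φ := by
  ext x; simp

theorem map_comp_right {L L' : Type u} [Field L] [Algebra K L] [Field L'] [Algebra K L'] (φ : L →ₐ[K] L') :
    (Algebra.TensorProduct.map φ φ).comp Algebra.TensorProduct.includeRight =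
      (Algebra.TensorProduct.includeRight : L' →ₐ[K] L' ⊗[K] L').comp φ := by
  ext x; simp

theorem map_map {L L' L'' : Type u} [Field L] [Algebra K L] [Field L'] [Algebra K L'] [Field L''] [Algebra K L'']
    (φ : L →ₐ[K] L') (ψ : L' →ₐ[K] L'') :
    (Algebra.TensorProduct.map ψ ψ).comp (Algebra.TensorProduct.map φ φ) =
      Algebra.TensorProduct.map (ψ.comp φ) (ψ.comp φ) := by
  ext x <;> simp

theorem e13_map {L L' : Type u} [Field L] [Algebra K L] [Field L'] [Algebra K L'] (φ : L →ₐ[K] L') :
    (e13 K L').comp (Algebra.TensorProduct.map φ φ) =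
      (Algebra.TensorProduct.map φ (Algebra.TensorProduct.map φ φ)).comp (e13 K L) := by
  ext x <;> simp

theorem e12_map {L L' : Type u} [Field L] [Algebra K L] [Field L'] [Algebra K L'] (φ : L →ₐ[K] L') :
    (e12 K L').comp (Algebra.TensorProduct.map φ φ) =
      (Algebra.TensorProduct.map φ (Algebra.TensorProduct.map φ φ)).comp (e12 K L) := by
  ext x <;> simp

theorem e23_map {L L' : Type u} [Field L] [Algebra K L] [Field L'] [Algebra K L'] (φ : L →ₐ[K] L') :
    (e23 K L').comp (Algebra.TensorProduct.map φ φ) =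
      (Algebra.TensorProduct.map φ (Algebra.TensorProduct.map φ φ)).comp (e23 K L) := by
  ext x <;> simp

theorem e_faces (L : Type u) [Field L] [Algebra K L] :
    (e13 K L).comp Algebra.TensorProduct.includeLeft = (e12 K L).comp Algebra.TensorProduct.includeLeft ∧
    (e13 K L).comp Algebra.TensorProduct.includeRight = (e23 K L).comp Algebra.TensorProduct.includeRight ∧
    (e12 K L).comp Algebra.TensorProduct.includeRight = (e23 K L).comp Algebra.TensorProduct.includeLeft :=
  ⟨by ext; simp, by ext; simp, by ext; simp⟩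

/-- Changing a cocycle by a coboundary gives a cocycle. -/
theorem cocycle_twist {G : Over S} [GrpObj G] {L L' : Type u} [Field L] [Algebra K L] [Field L'] [Algebra K L']
    (φ : L →ₐ[K] L') (c : sp (A := CommRingCat.of K) g (L ⊗[K] L) ⟶ G)
    (hc : spMap g (e13 K L) ≫ c = (spMap g (e23 K L) ≫ c) * (spMap g (e12 K L) ≫ c))
    (b : sp (A := CommRingCat.of K) g L' ⟶ G) :
    let c' := (spMap g Algebra.TensorProduct.includeRight ≫ b) * (spMap g (Algebra.TensorProduct.map φ φ) ≫ c) *
      (spMap g Algebra.TensorProduct.includeLeft ≫ b)⁻¹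
    spMap g (e13 K L') ≫ c' = (spMap g (e23 K L') ≫ c') * (spMap g (e12 K L') ≫ c') := by
  intro c'
  obtain ⟨f1, f2, f3⟩ := e_faces (K := K) L'
  have hc2 := congrArg (spMap g (Algebra.TensorProduct.map φ (Algebra.TensorProduct.map φ φ)) ≫ ·) hc
  simp only [MonObj.comp_mul, ← Category.assoc, spMap_comp] at hc2
  simp only [c', MonObj.comp_mul, GrpObj.comp_inv, ← Category.assoc, spMap_comp, e13_map, e12_map, e23_map, f1, f2,
    f3, hc2]
  group

end Lift

/-- A group isomorphic to a good one is good. -/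
theorem Good.of_iso {G G' : Over S} [GrpObj G] [GrpObj G'] (e : G ⟶ G') [IsMonHom e] [IsIso e] (h : Good G') :
    Good G := by
  intro K _ g L _ _ c hc
  obtain ⟨L', _, _, φ, b, hb⟩ := h K g L (c ≫ e) (by rw [← Category.assoc, hc, MonObj.mul_comp, Category.assoc, Category.assoc])
  refine ⟨L', inferInstance, inferInstance, φ, b ≫ inv e, ?_⟩
  rw [← cancel_mono e, MonObj.mul_comp]
  simpa only [Category.assoc, IsIso.inv_hom_id, Category.comp_id] using hb

/-- The trivial group is good. -/
theorem Good.of_isIso {G : Over S} [GrpObj G] (h : IsIso G.hom) : Good G := by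
  intro K _ g L _ _ c _
  haveI := h
  exact ⟨L, inferInstance, inferInstance, AlgHom.id K L, 1,
    Over.OverMorphism.ext ((cancel_mono G.hom).1 (by rw [Over.w, Over.w]))⟩

/-- Extensions of good groups are good. -/
theorem Good.of_extension {H G Q : Over S} [GrpObj H] [GrpObj G] [GrpObj Q] (i : H ⟶ G) [IsMonHom i] [Mono i]
    (q : G ⟶ Q) [IsMonHom q] [Surjective q.left]
    (hker : ∀ (X : Over S) (x : X ⟶ G), x ≫ q = 1 → ∃ x' : X ⟶ H, x' ≫ i = x) (hH : Good H) (hQ : Good Q) :
    Good G := by
  intro K _ g L _ _ c hc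
  obtain ⟨L₁, _, _, φ₁, b₀, hb₀⟩ := hQ K g L (c ≫ q)
    (by rw [← Category.assoc, hc, MonObj.mul_comp, Category.assoc, Category.assoc])
  obtain ⟨L₂, _, _, φ₂, b, hb⟩ := exists_field_lift g q b₀
  let φ := φ₂.comp φ₁
  let c' := (spMap g Algebra.TensorProduct.includeRight ≫ b) * (spMap g (Algebra.TensorProduct.map φ φ) ≫ c) *
      (spMap g Algebra.TensorProduct.includeLeft ≫ b)⁻¹
  have hq : c' ≫ q = 1 := by
    have e := congrArg (spMap g (Algebra.TensorProduct.map φ₂ φ₂) ≫ ·) hb₀
    simp only [MonObj.comp_mul, ← Category.assoc, spMap_comp, map_comp_left, map_comp_right, map_map] at e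
    simp only [c', MonObj.mul_comp, GrpObj.inv_comp, Category.assoc, hb]
    rw [mul_inv_eq_one]
    simp only [← Category.assoc, spMap_comp]
    exact e
  obtain ⟨h', hh'⟩ := hker _ _ hq
  obtain ⟨L₃, _, _, φ₃, b', hb'⟩ := hH K g L₂ h' (by
    rw [← cancel_mono i, MonObj.mul_comp, Category.assoc, Category.assoc, Category.assoc, hh']
    exact cocycle_twist g φ c hc b)
  refine ⟨L₃, inferInstance, inferInstance, φ₃.comp φ, (b' ≫ i) * (spMap g φ₃ ≫ b), ?_⟩
  have e := congrArg (· ≫ i) hb'
  simp only [MonObj.mul_comp, Category.assoc, hh'] at e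
  simp only [c', MonObj.comp_mul, GrpObj.comp_inv, ← Category.assoc, spMap_comp, map_comp_left, map_comp_right,
    map_map] at e
  simp only [MonObj.comp_mul, ← Category.assoc, spMap_comp]
  rw [← e]
  group

/-- The additive group is good. -/
theorem good_Ga : Good (Red.Ga S) := by
  intro K _ g L _ _ c hc
  have h1 := congrArg (fnGa g) hc
  rw [fnGa_mul, fnGa_comp, fnGa_comp, fnGa_comp] at h1
  obtain ⟨b₀, hb₀⟩ := exists_add_coboundary K L _ h1
  obtain ⟨b, hb⟩ := exists_fnGa g (C := L) b₀
  refine ⟨L, inferInstance, inferInstance, AlgHom.id K L, b, fnGa_injective g ?_⟩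
  rw [fnGa_mul, fnGa_comp, fnGa_comp, fnGa_comp, hb, Algebra.TensorProduct.map_id, add_comm]
  exact hb₀

/-- The coordinate character of a point of a diagonalisable group on a spectrum. -/
def chr {M : Type} [AddCommGroup M] {K : Type u} [Field K] (g : Spec (CommRingCat.of K) ⟶ S) {C : Type u} [CommRing C]
    [Algebra K C] (t : sp (A := CommRingCat.of K) g C ⟶ Red.DS S M) : Multiplicative M →* C :=
  (toRing (A := CommRingCat.of K) g C).toMonoidHom.comp (Groth.L25.DSPts.char t)

/-- Split tori are good. -/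
theorem good_DS (n : ℕ) : Good (Red.DS S (Fin n → ℤ)) := by
  intro K _ g L _ _ c hc
  classical
  have hcomp : ∀ {C D : Type u} [CommRing C] [Algebra K C] [CommRing D] [Algebra K D] (ψ : C →ₐ[K] D)
      (t : sp (A := CommRingCat.of K) g C ⟶ Red.DS S (Fin n → ℤ)) (m : Multiplicative (Fin n → ℤ)),
      chr g (spMap g ψ ≫ t) m = ψ (chr g t m) := fun ψ t m =>
    (congrArg (toRing (A := CommRingCat.of K) g _) (Groth.L25.DSPts.char_comp _ t m)).trans (toRing_comp g ψ _)
  have hmul : ∀ {C : Type u} [CommRing C] [Algebra K C]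
      (s t : sp (A := CommRingCat.of K) g C ⟶ Red.DS S (Fin n → ℤ)), chr g (s * t) = chr g s * chr g t := fun s t => by
    refine MonoidHom.ext fun m => ?_
    show toRing g _ (Groth.L25.DSPts.char (s * t) m) = _
    rw [Groth.L25.DSPts.char_mul, MonoidHom.mul_apply, map_mul]
    rfl
  let ee : Fin n → Multiplicative (Fin n → ℤ) := fun i => Multiplicative.ofAdd (Pi.single i 1)
  have hm : ∀ i, ∃ m : Lˣ, ((m : L) ⊗ₜ[K] (1 : L)) = ((1 : L) ⊗ₜ[K] (m : L)) * chr g c (ee i) := by
    intro i
    have h1 := DFunLike.congr_fun (congrArg (chr g) hc) (ee i)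
    rw [hmul, MonoidHom.mul_apply, hcomp, hcomp, hcomp] at h1
    obtain ⟨m, s, hs, hm, β, hβ⟩ := exists_unit_coboundary K L
      (((Group.isUnit (ee i)).map (chr g c))).unit h1 ⊥
    have hs0 : s ≠ 0 := fun e => hs (e ▸ Submodule.zero_mem _)
    have hm0 : m ≠ 0 := fun e => by
      rw [e, zero_mul] at hβ
      exact hs0 ((algebraMap K L).injective (hβ.symm.trans (map_zero _).symm))
    refine ⟨(Units.mk0 m hm0)⁻¹, ?_⟩
    have hm' : chr g c (ee i) * (m ⊗ₜ[K] (1 : L)) = (1 : L) ⊗ₜ[K] m := hm
    rw [Units.val_inv_eq_inv_val, Units.val_mk0]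
    calc (m⁻¹ ⊗ₜ[K] (1 : L)) = (m⁻¹ ⊗ₜ[K] (1 : L)) * (((1 : L) ⊗ₜ[K] m⁻¹) * ((1 : L) ⊗ₜ[K] m)) := by
          rw [Algebra.TensorProduct.tmul_mul_tmul (1 : L) (1 : L) m⁻¹ m, inv_mul_cancel₀ hm0, _root_.one_mul,
            ← Algebra.TensorProduct.one_def, _root_.mul_one]
      _ = ((1 : L) ⊗ₜ[K] m⁻¹) * chr g c (ee i) * ((m⁻¹ ⊗ₜ[K] (1 : L)) * (m ⊗ₜ[K] (1 : L))) := by
          rw [← hm']; ring
      _ = _ := by
          rw [Algebra.TensorProduct.tmul_mul_tmul, inv_mul_cancel₀ hm0, _root_.one_mul,
            ← Algebra.TensorProduct.one_def, _root_.mul_one]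
  choose w hw using hm
  let χ : Multiplicative (Fin n → ℤ) →* Lˣ :=
    { toFun := fun v => ∏ i, w i ^ (Multiplicative.toAdd v i)
      map_one' := by simp
      map_mul' := fun a b => by simp [zpow_add, Finset.prod_mul_distrib] }
  have hχ : ∀ i, χ (ee i) = w i := fun i => by
    show ∏ j, w j ^ ((Pi.single i 1 : Fin n → ℤ) j) = w i
    rw [Finset.prod_eq_single i (fun j _ hj => by simp [hj]) (fun h => absurd (Finset.mem_univ i) h)]
    simp
  let tor := (Scheme.ΓSpecIso (CommRingCat.of L)).commRingCatIsoToRingEquiv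
  let b : sp (A := CommRingCat.of K) g L ⟶ Red.DS S (Fin n → ℤ) :=
    Groth.L25.DSPts.pt ((tor.symm.toRingHom.toMonoidHom.comp (Units.coeHom L)).comp χ)
  have hb : ∀ v, chr g b v = (χ v : L) := fun v => by
    show toRing g L (Groth.L25.DSPts.char b v) = _
    rw [Groth.L25.DSPts.char_pt]
    exact tor.apply_symm_apply _
  refine ⟨L, inferInstance, inferInstance, AlgHom.id K L, b, ?_⟩
  apply Groth.L25.DSPts.char_injective
  have key : chr g ((spMap g Algebra.TensorProduct.includeRight ≫ b) *
      (spMap g (Algebra.TensorProduct.map (AlgHom.id K L) (AlgHom.id K L)) ≫ c)) =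
      chr g (spMap g Algebra.TensorProduct.includeLeft ≫ b) := by
    refine MonoidHom.ext fun v => ?_
    have huniq : ∀ (F F' : Multiplicative (Fin n → ℤ) →* (L ⊗[K] L)ˣ), (∀ i, F (ee i) = F' (ee i)) → F = F' := by
      intro F F' h
      have := AddMonoidHom.functions_ext' (Additive (L ⊗[K] L)ˣ) (MonoidHom.toAdditiveRight F)
        (MonoidHom.toAdditiveRight F') fun i => AddMonoidHom.ext_int (h i)
      exact MonoidHom.toAdditiveRight.injective this
    refine congrArg Units.val (DFunLike.congr_fun (huniq (MonoidHom.toHomUnits _) (MonoidHom.toHomUnits _)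
      fun i => Units.ext ?_) v)
    show chr g _ (ee i) = chr g _ (ee i)
    rw [hmul, MonoidHom.mul_apply, hcomp, hcomp, hcomp, hb, hχ, Algebra.TensorProduct.map_id]
    exact (hw i).symm
  refine MonoidHom.ext fun v => (toRing_bijective (A := CommRingCat.of K) g).1 ?_
  exact DFunLike.congr_fun key v

section BaseChange

variable {P : Scheme.{u}} (θ : P ⟶ S) {G : Over S} [GrpObj G] {K : Type u} [Field K]
  (g : Spec (CommRingCat.of K) ⟶ P)

/-- A point of a base change as a point of the group. -/
def tb {C : Type u} [CommRing C] [Algebra K C] (c : sp (A := CommRingCat.of K) g C ⟶ Red.bc θ G) :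
    sp (A := CommRingCat.of K) (g ≫ θ) C ⟶ G :=
  (Over.homMk (𝟙 _) (by simp) :
    sp (A := CommRingCat.of K) (g ≫ θ) C ⟶ Over.mk ((sp (A := CommRingCat.of K) g C).hom ≫ θ)) ≫
    Groth.L25.NilAction.toBase θ c

theorem tb_mul {C : Type u} [CommRing C] [Algebra K C] (a b : sp (A := CommRingCat.of K) g C ⟶ Red.bc θ G) :
    tb θ g (a * b) = tb θ g a * tb θ g b := by
  rw [tb, Groth.L25.NilAction.toBase_mul, MonObj.comp_mul]
  rfl

theorem tb_comp {C D : Type u} [CommRing C] [Algebra K C] [CommRing D] [Algebra K D] (ψ : C →ₐ[K] D)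
    (a : sp (A := CommRingCat.of K) g C ⟶ Red.bc θ G) :
    tb θ g (spMap g ψ ≫ a) = spMap (g ≫ θ) ψ ≫ tb θ g a := by
  refine Over.OverMorphism.ext ?_
  show 𝟙 _ ≫ ((spMap g ψ).left ≫ a.left) ≫ pullback.fst _ _ = (spMap (g ≫ θ) ψ).left ≫ 𝟙 _ ≫ a.left ≫ pullback.fst _ _
  simp only [Category.id_comp, Category.assoc]
  rfl

theorem tb_injective {C : Type u} [CommRing C] [Algebra K C] : Function.Injective (tb θ g (G := G) (C := C)) :=
  fun a b h => by
    refine Groth.L25.CentralLift.toBase_injective θ (Over.OverMorphism.ext ?_)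
    simpa [tb] using congrArg CommaMorphism.left h

theorem tb_surjective {C : Type u} [CommRing C] [Algebra K C] (x : sp (A := CommRingCat.of K) (g ≫ θ) C ⟶ G) :
    ∃ a : sp (A := CommRingCat.of K) g C ⟶ Red.bc θ G, tb θ g a = x := by
  refine ⟨Over.homMk (pullback.lift x.left (sp (A := CommRingCat.of K) g C).hom
    ((Over.w x).trans (Category.assoc _ _ _).symm)) (pullback.lift_snd _ _ _), Over.OverMorphism.ext ?_⟩
  show 𝟙 _ ≫ pullback.lift _ _ _ ≫ pullback.fst _ _ = x.left
  rw [pullback.lift_fst, Category.id_comp]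

/-- Good groups stay good after base change. -/
theorem Good.bc (h : Good G) : Good (Red.bc θ G) := by
  intro K _ g L _ _ c hc
  obtain ⟨L', _, _, φ, b, hb⟩ := h K (g ≫ θ) L (tb θ g c) (by
    rw [← tb_comp, ← tb_comp, ← tb_comp, ← tb_mul, hc])
  obtain ⟨b', rfl⟩ := tb_surjective θ g b
  refine ⟨L', inferInstance, inferInstance, φ, b', tb_injective θ g ?_⟩
  rw [tb_mul, tb_comp, tb_comp, tb_comp, hb]

end BaseChange

/-- A torsor under a good group over a field has a rational point. -/
theorem Good.exists_point {G X : Over S} [GrpObj G] (hG : Good G) (a : AlgGrp.Action G X)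
    (hps : IsIso (lift a.act (snd G X))) {K : Type u} [Field K] (g : Spec (CommRingCat.of K) ⟶ S)
    {L : Type u} [Field L] [Algebra K L] (y : sp (A := CommRingCat.of K) g L ⟶ X) :
    Nonempty (sp (A := CommRingCat.of K) g K ⟶ X) := by
  obtain ⟨h, hy⟩ := exists_act_eq hps (spMap g (Algebra.TensorProduct.includeLeft : L →ₐ[K] L ⊗[K] L) ≫ y)
    (spMap g (Algebra.TensorProduct.includeRight : L →ₐ[K] L ⊗[K] L) ≫ y)
  obtain ⟨L', _, _, φ, b, hb⟩ := hG K g L h (cochain_cocycle (A := CommRingCat.of K) g hps y h hy)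
  haveI : Module.FaithfullyFlat (CommRingCat.of K) L' := inferInstanceAs (Module.FaithfullyFlat K L')
  refine exists_section_of_coboundary (A := CommRingCat.of K) g (a := a) (spMap g φ ≫ y) _ ?_ b hb
  have hy2 := congrArg (spMap g (Algebra.TensorProduct.map φ φ) ≫ ·) hy
  simp only [← Category.assoc, comp_lift, spMap_comp, map_comp_left, map_comp_right] at hy2
  simp only [← Category.assoc, spMap_comp]
  exact hy2

/-- A point over a field extension whose cochain lies in a good subgroup descends. -/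
theorem Good.exists_descend {B G A : Over S} [GrpObj B] [GrpObj G] [GrpObj A] (hB : Good B) (i : B ⟶ G) [IsMonHom i]
    [Mono i] (α : G ⟶ A) [IsMonHom α] (hi : i ≫ α = 1) {K : Type u} [Field K] (g : Spec (CommRingCat.of K) ⟶ S)
    {L : Type u} [Field L] [Algebra K L] (y : sp (A := CommRingCat.of K) g L ⟶ G)
    (ξ : sp (A := CommRingCat.of K) g K ⟶ A) (hy : y ≫ α = spMap g (Algebra.ofId K L) ≫ ξ)
    (h : sp (A := CommRingCat.of K) g (L ⊗[K] L) ⟶ B)
    (hh : h ≫ i = (spMap g Algebra.TensorProduct.includeRight ≫ y) *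
      (spMap g Algebra.TensorProduct.includeLeft ≫ y)⁻¹) :
    ∃ s : sp (A := CommRingCat.of K) g K ⟶ G, s ≫ α = ξ := by
  obtain ⟨f1, f2, f3⟩ := e_faces (K := K) L
  obtain ⟨L', _, _, φ, b, hb⟩ := hB K g L h (by
    rw [← cancel_mono i, MonObj.mul_comp, Category.assoc, Category.assoc, Category.assoc, hh]
    simp only [MonObj.comp_mul, GrpObj.comp_inv, ← Category.assoc, spMap_comp, f1, f2, f3]
    group)
  let y' : sp (A := CommRingCat.of K) g L' ⟶ G := (b ≫ i) * (spMap g φ ≫ y)
  have hy' : spMap g (Algebra.TensorProduct.includeLeft : L' →ₐ[K] L' ⊗[K] L') ≫ y' =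
      spMap g Algebra.TensorProduct.includeRight ≫ y' := by
    have e := congrArg (· ≫ i) hb
    simp only [MonObj.mul_comp, Category.assoc, hh] at e
    simp only [MonObj.comp_mul, GrpObj.comp_inv, ← Category.assoc, spMap_comp, map_comp_left, map_comp_right] at e
    simp only [y', MonObj.comp_mul, ← Category.assoc, spMap_comp]
    rw [← e]
    group
  haveI : Module.FaithfullyFlat (CommRingCat.of K) L' := inferInstanceAs (Module.FaithfullyFlat K L')
  have hff : (algebraMap (CommRingCat.of K) L').FaithfullyFlat := RingHom.faithfullyFlat_algebraMap_iff.2 ‹_›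
  haveI : Surjective (Spec.map (CommRingCat.ofHom (algebraMap (CommRingCat.of K) L'))) :=
    ⟨(RingHom.FaithfullyFlat.iff_flat_and_comap_surjective.1 hff).2⟩
  haveI : Flat (Spec.map (CommRingCat.ofHom (algebraMap (CommRingCat.of K) L'))) :=
    (HasRingHomProperty.Spec_iff (P := @Flat)).2 hff.flat
  have hq : Cov (spMap (A := CommRingCat.of K) g (Algebra.ofId K L')) :=
    Precoverage.generate_mem_toGrothendieck
      (Scheme.Hom.singleton_mem_fpqcPrecoverage (Spec.map (CommRingCat.ofHom (algebraMap (CommRingCat.of K) L'))))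
  obtain ⟨s, hs⟩ := descend hq y' (fun W x z hxz => by
    obtain ⟨l, rfl, rfl⟩ := exists_sp_lift (A := CommRingCat.of K) g L' x z hxz
    rw [Category.assoc, Category.assoc, hy'])
  refine ⟨s, Groth.L27.Torsor.cancel hq ?_⟩
  rw [← Category.assoc, hs]
  simp only [y', MonObj.mul_comp, Category.assoc, hi, MonObj.comp_one, _root_.one_mul, hy]
  rw [← Category.assoc, spMap_comp]
  congr 1
  exact congrArg _ (Subsingleton.elim _ _)

end Groth.L19.AlgGrpBasic.SplitH90
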