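import Groth.Agent.L19.AlgGrpBasic.RosenlichtUnits
import Groth.Agent.L18.GIT.TorusChars
import Groth.Agent.L25.DSPts
import Groth.Agent.L15.MuGL.Pts
import Groth.Agent.L26.AV.Hom
import Groth.Agent.L08.AbelianGrp
import Mathlib.AlgebraicGeometry.Geometrically.Integral
import Mathlib.AlgebraicGeometry.FunctionField

/-!
# A morphism from a product of varieties to a torus which is trivial on both axes is trivial
-/

set_option autoImplicit false
set_option backward.isDefEq.respectTransparency.types false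
set_option linter.style.haveILetI false
universe u

open CategoryTheory CategoryTheory.Limits MonoidalCategory CartesianMonoidalCategory MonObj GrpObj AlgebraicGeometry
open scoped TensorProduct

noncomputable section

namespace Groth.L19.AlgGrpBasic

variable {k : Type u} [Field k]

/-- An affine neighbourhood of a rational point, as a spectrum. -/
theorem exists_affine_chart (X : Over (Spec (CommRingCat.of k))) [IsIntegral X.left] [LocallyOfFiniteType X.hom]
    (x₀ : 𝟙_ (Over (Spec (CommRingCat.of k))) ⟶ X) :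
    ∃ (A : Type u) (_ : CommRing A) (_ : Algebra k A) (i : CoactBr.sp k A ⟶ X) (xA : A →ₐ[k] k),
      IsOpenImmersion i.left ∧ IsDomain A ∧ Algebra.FiniteType k A ∧
        CoactBr.pt xA ≫ i = toUnit (CoactBr.sp k k) ≫ x₀ := by
  let z : Spec (CommRingCat.of k) := IsLocalRing.closedPoint k
  obtain ⟨U, hU, hxU'⟩ : ∃ U : X.left.Opens, IsAffineOpen U ∧ x₀.left z ∈ U := by
    obtain ⟨_, ⟨U, hU, rfl⟩, hxU, -⟩ :=
      X.left.isBasis_affineOpens.exists_subset_of_mem_open (Set.mem_univ (x₀.left z)) isOpen_univ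
    exact ⟨U, hU, hxU⟩
  haveI : IsAffine U.toScheme := hU
  haveI : Nonempty U.toScheme := ⟨⟨x₀.left z, hxU'⟩⟩
  let U' : Over (Spec (CommRingCat.of k)) := Over.mk (U.ι ≫ X.hom)
  let ι' : U' ⟶ X := Over.homMk U.ι rfl
  haveI : IsAffine U'.left := hU
  obtain ⟨A, _, _, w, _⟩ := Groth.L15.MuGL.exists_isIso_sp U'
  haveI : IsIso w.left := inferInstanceAs (IsIso ((Over.forget _).map w))
  haveI hι : IsOpenImmersion ι'.left := inferInstanceAs (IsOpenImmersion U.ι)
  haveI hwι : IsOpenImmersion (w ≫ ι').left := IsOpenImmersion.comp w.left ι'.left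
  haveI : Nonempty (CoactBr.sp k A).left := ⟨(inv w.left) ⟨x₀.left z, hxU'⟩⟩
  haveI : IsIntegral (Spec (CommRingCat.of A)) :=
    @isIntegral_of_isOpenImmersion _ _ (w ≫ ι').left hwι inferInstance ‹Nonempty (CoactBr.sp k A).left›
  haveI hdom : IsDomain A := (affine_isIntegral_iff (CommRingCat.of A)).1 inferInstance
  haveI hlft : LocallyOfFiniteType (CoactBr.sp k A).hom := by
    rw [← Over.w (w ≫ ι')]; infer_instance
  have hft : Algebra.FiniteType k A := by
    have h := hlft
    change LocallyOfFiniteType (Spec.map (CommRingCat.ofHom (algebraMap k A))) at h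
    rw [HasRingHomProperty.Spec_iff (P := @LocallyOfFiniteType), CommRingCat.hom_ofHom,
      RingHom.finiteType_algebraMap] at h
    exact h
  haveI : IsOpenImmersion ι'.left := inferInstanceAs (IsOpenImmersion U.ι)
  have hrange : Set.range x₀.left ⊆ Set.range ι'.left := by
    rintro _ ⟨y, rfl⟩
    rw [Subsingleton.elim (α := PrimeSpectrum k) y z]
    exact ⟨⟨x₀.left z, hxU'⟩, rfl⟩
  let x' : 𝟙_ (Over (Spec (CommRingCat.of k))) ⟶ U' := Over.homMk (IsOpenImmersion.lift ι'.left x₀.left hrange) (by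
    show _ ≫ U.ι ≫ X.hom = _
    rw [show (U.ι : U.toScheme ⟶ X.left) = ι'.left from rfl, IsOpenImmersion.lift_fac_assoc, Over.w x₀])
  have hx' : x' ≫ ι' = x₀ := Over.OverMorphism.ext (IsOpenImmersion.lift_fac _ _ _)
  obtain ⟨xA, hxA⟩ := Groth.L15.MuGL.pt_surjective k (toUnit (CoactBr.sp k k) ≫ x' ≫ inv w)
  refine ⟨A, inferInstance, inferInstance, w ≫ ι', xA, hwι, hdom, hft, ?_⟩
  rw [hxA, Category.assoc, Category.assoc, IsIso.inv_hom_id_assoc, hx']

theorem evL_eq_map {A B : Type u} [CommRing A] [Algebra k A] [CommRing B] [Algebra k B] (xA : A →ₐ[k] k) :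
    ∀ z : A ⊗[k] B, (Algebra.TensorProduct.lid k B).toAlgHom
      ((Algebra.TensorProduct.map xA (AlgHom.id k B)) z) = evL xA.toLinearMap z := by
  intro z
  induction z using TensorProduct.induction_on with
  | zero => simp
  | tmul a b => simp [evL]
  | add z w hz hw => simp only [map_add, hz, hw]

/-- **Rosenlicht.** A morphism from a product of varieties to a split diagonalisable group, trivial on both axes
through rational points, is trivial. -/
theorem eq_one_of_axes_DS [IsAlgClosed k] {X Y : Over (Spec (CommRingCat.of k))}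
    [LocallyOfFiniteType X.hom] [IsSeparated X.hom] [GeometricallyIntegral X.hom]
    [LocallyOfFiniteType Y.hom] [IsSeparated Y.hom] [GeometricallyIntegral Y.hom]
    {M : Type} [AddCommGroup M] [IsSeparated (Red.DS (Spec (CommRingCat.of k)) M).hom]
    (x₀ : 𝟙_ (Over (Spec (CommRingCat.of k))) ⟶ X) (y₀ : 𝟙_ (Over (Spec (CommRingCat.of k))) ⟶ Y)
    (d : X ⊗ Y ⟶ Red.DS (Spec (CommRingCat.of k)) M)
    (h1 : lift (toUnit Y ≫ x₀) (𝟙 Y) ≫ d = 1) (h2 : lift (𝟙 X) (toUnit X ≫ y₀) ≫ d = 1) : d = 1 := by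
  haveI : IsIntegral X.left := GeometricallyIntegral.isIntegral_of_subsingleton X.hom
  haveI : IsIntegral Y.left := GeometricallyIntegral.isIntegral_of_subsingleton Y.hom
  haveI : IsLocallyNoetherian X.left := LocallyOfFiniteType.isLocallyNoetherian X.hom
  haveI : IsIntegral (X ⊗ Y).left := inferInstanceAs (IsIntegral (pullback X.hom Y.hom))
  obtain ⟨A, _, _, i, xA, _, _, -, hxA⟩ := exists_affine_chart X x₀
  obtain ⟨B, _, _, j, xB, _, _, _, hxB⟩ := exists_affine_chart Y y₀
  let iL : A →ₐ[k] A ⊗[k] B := Algebra.TensorProduct.includeLeft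
  let iR : B →ₐ[k] A ⊗[k] B := Algebra.TensorProduct.includeRight
  let ι₂ : CoactBr.sp k (A ⊗[k] B) ⟶ X ⊗ Y := lift (CoactBr.pt iL ≫ i) (CoactBr.pt iR ≫ j)
  let π := pullback.map (Spec.map (CommRingCat.ofHom (algebraMap k A))) (Spec.map (CommRingCat.ofHom (algebraMap k B)))
    X.hom Y.hom i.left j.left (𝟙 _) ((Category.comp_id _).trans (Over.w i).symm)
    ((Category.comp_id _).trans (Over.w j).symm)
  have hι₂ : ι₂.left = (pullbackSpecIso k A B).inv ≫ π := by
    apply pullback.hom_ext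
    · refine Eq.trans ?_ (Category.assoc _ _ _).symm
      rw [show π ≫ pullback.fst X.hom Y.hom = pullback.fst _ _ ≫ i.left from pullback.lift_fst _ _ _]
      refine Eq.trans ?_ (pullbackSpecIso_inv_fst_assoc k A B i.left).symm
      exact congrArg CommaMorphism.left (lift_fst (CoactBr.pt iL ≫ i) (CoactBr.pt iR ≫ j))
    · refine Eq.trans ?_ (Category.assoc _ _ _).symm
      rw [show π ≫ pullback.snd X.hom Y.hom = pullback.snd _ _ ≫ j.left from pullback.lift_snd _ _ _]
      refine Eq.trans ?_ (pullbackSpecIso_inv_snd_assoc k A B j.left).symm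
      exact congrArg CommaMorphism.left (lift_snd (CoactBr.pt iL ≫ i) (CoactBr.pt iR ≫ j))
  haveI : IsOpenImmersion ι₂.left := by
    rw [hι₂]
    haveI : IsOpenImmersion π := by
      haveI : @IsOpenImmersion (Spec (CommRingCat.of A)) X.left i.left := ‹IsOpenImmersion i.left›
      haveI : @IsOpenImmersion (Spec (CommRingCat.of B)) Y.left j.left := ‹IsOpenImmersion j.left›
      simp only [π]; infer_instance
    exact IsOpenImmersion.comp _ _
  haveI : Nontrivial (A ⊗[k] B) := (Algebra.TensorProduct.lift xA xB fun _ _ => .all _ _).toRingHom.domain_nontrivial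
  haveI : Nonempty (CoactBr.sp k (A ⊗[k] B)).left := inferInstanceAs (Nonempty (PrimeSpectrum (A ⊗[k] B)))
  haveI : IsDominant ι₂.left := ⟨ι₂.left.isOpenEmbedding.isOpen_range.dense (Set.range_nonempty _)⟩
  suffices h : ι₂ ≫ d = 1 by
    refine Over.OverMorphism.ext (ext_of_isDominant_of_isSeparated (Red.DS (Spec (CommRingCat.of k)) M).hom
      ((Over.w d).trans (Over.w (1 : X ⊗ Y ⟶ _)).symm) ι₂.left ?_)
    have := congrArg (fun m => m.left) (h.trans (MonObj.comp_one ι₂).symm)
    exact this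
  apply Groth.L25.DSPts.char_injective
  rw [Groth.L25.DSPts.char_one]
  refine MonoidHom.ext fun m => ?_
  rw [MonoidHom.one_apply]
  let e := Scheme.ΓSpecIso (CommRingCat.of (A ⊗[k] B))
  let u : A ⊗[k] B := e.hom.hom (Groth.L25.DSPts.char (ι₂ ≫ d) m)
  have hu : IsUnit u := by
    have hunit : IsUnit (Groth.L25.DSPts.char (ι₂ ≫ d) m) :=
      IsUnit.map (Groth.L25.DSPts.char (ι₂ ≫ d)) (Group.isUnit m)
    exact hunit.map e.hom.hom
  have hev : ∀ {C : Type u} [CommRing C] [Algebra k C] (φ : A ⊗[k] B →ₐ[k] C),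
      (CoactBr.pt φ ≫ ι₂) ≫ d = 1 → φ u = 1 := by
    intro C _ _ φ hφ
    have h3 := Groth.L25.DSPts.char_comp (CoactBr.pt φ) (ι₂ ≫ d) m
    rw [← Category.assoc, hφ, Groth.L25.DSPts.char_one, MonoidHom.one_apply] at h3
    have h4 := congr($(Scheme.ΓSpecIso_naturality (CommRingCat.ofHom φ.toRingHom)) (Groth.L25.DSPts.char (ι₂ ≫ d) m))
    refine Eq.trans h4.symm ?_
    show (Scheme.ΓSpecIso (CommRingCat.of C)).hom.hom ((CoactBr.pt φ).left.appTop (Groth.L25.DSPts.char (ι₂ ≫ d) m)) = 1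
    rw [← h3]
    exact map_one _
  suffices hu1 : u = 1 by
    have h5 := congrArg e.inv.hom hu1
    rw [map_one] at h5
    exact (Iso.hom_inv_id_apply e _).symm.trans h5
  refine eq_one_of_axes u hu xA xB (hev (evR xB) ?_) ?_
  · have hL : (evR (A := A) xB).comp iL = AlgHom.id k A := AlgHom.ext fun a => by simp [evR, iL]
    have hR : (evR (A := A) xB).comp iR = (Algebra.ofId k A).comp xB := AlgHom.ext fun b => by
      simp [evR, iR, Algebra.algebraMap_eq_smul_one, Algebra.ofId_apply]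
    have e2 : CoactBr.pt (evR xB) ≫ ι₂ = i ≫ lift (𝟙 X) (toUnit X ≫ y₀) := by
      simp only [ι₂, comp_lift, ← Category.assoc, ← CoactBr.pt_comp, hL, hR, Category.comp_id]
      rw [CoactBr.pt_id, Category.id_comp, CoactBr.pt_comp, Category.assoc, hxB, ← Category.assoc,
        toUnit_unique (CoactBr.pt _ ≫ toUnit _) (toUnit _), toUnit_unique (i ≫ toUnit X) (toUnit _)]
    rw [e2, Category.assoc, h2, MonObj.comp_one]
  · let φ : A ⊗[k] B →ₐ[k] B :=
      (Algebra.TensorProduct.lid k B).toAlgHom.comp (Algebra.TensorProduct.map xA (AlgHom.id k B))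
    rw [← evL_eq_map xA u]
    refine hev φ ?_
    have hL : φ.comp iL = (Algebra.ofId k B).comp xA := AlgHom.ext fun a => by
      simp [φ, iL, Algebra.algebraMap_eq_smul_one, Algebra.ofId_apply]
    have hR : φ.comp iR = AlgHom.id k B := AlgHom.ext fun b => by simp [φ, iR]
    have e2 : CoactBr.pt φ ≫ ι₂ = j ≫ lift (toUnit Y ≫ x₀) (𝟙 Y) := by
      simp only [ι₂, comp_lift, ← Category.assoc, ← CoactBr.pt_comp, hL, hR, Category.comp_id]
      rw [CoactBr.pt_id, Category.id_comp, CoactBr.pt_comp, Category.assoc, hxA, ← Category.assoc,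
        toUnit_unique (CoactBr.pt _ ≫ toUnit _) (toUnit _), toUnit_unique (j ≫ toUnit Y) (toUnit _)]
    rw [e2, Category.assoc, h1, MonObj.comp_one]

theorem eq_one_of_axes_torus [IsAlgClosed k] {X Y T : Over (Spec (CommRingCat.of k))}
    [LocallyOfFiniteType X.hom] [IsSeparated X.hom] [GeometricallyIntegral X.hom]
    [LocallyOfFiniteType Y.hom] [IsSeparated Y.hom] [GeometricallyIntegral Y.hom]
    [GrpObj T] (hT : Red.IsTorus T)
    (x₀ : 𝟙_ (Over (Spec (CommRingCat.of k))) ⟶ X) (y₀ : 𝟙_ (Over (Spec (CommRingCat.of k))) ⟶ Y)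
    (d : X ⊗ Y ⟶ T)
    (h1 : lift (toUnit Y ≫ x₀) (𝟙 Y) ≫ d = 1) (h2 : lift (𝟙 X) (toUnit X ≫ y₀) ≫ d = 1) : d = 1 := by
  obtain ⟨M, _, ⟨e'⟩⟩ := Groth.L18.TorusChars.exists_split T hT
  let e : T ≅ Red.DS (Spec (CommRingCat.of k)) M := (Grp.forget _).mapIso e'
  haveI : IsMonHom e.hom := e'.hom.hom.isMonHom_hom
  haveI : IsSeparated (Red.DS (Spec (CommRingCat.of k)) M).hom :=
    Groth.L08.AbelianGrp.isSeparated (Red.DS (Spec (CommRingCat.of k)) M)
  have h := eq_one_of_axes_DS x₀ y₀ (d ≫ e.hom) (by rw [← Category.assoc, h1, MonObj.one_comp e.hom])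
    (by rw [← Category.assoc, h2, MonObj.one_comp e.hom])
  rw [← cancel_mono e.hom, h, MonObj.one_comp e.hom]

end Groth.L19.AlgGrpBasic
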