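import Groth.Agent.L19.AlgGrpBasic.OrbitClosure
import Mathlib.AlgebraicGeometry.Morphisms.Flat

/-!
# Equivariant maps to transitive spaces over algebraically closed fields
-/

set_option autoImplicit false
set_option linter.style.haveILetI false
set_option backward.isDefEq.respectTransparency.types false

universe u

open CategoryTheory CategoryTheory.Limits MonoidalCategory CartesianMonoidalCategory MonObj AlgebraicGeometry
open Topology

namespace Groth.L19.AlgGrpBasic

variable {K : Type u} [Field K] [IsAlgClosed K] {G X Y : Over (Spec (CommRingCat.of K))} [GrpObj G]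

omit [IsAlgClosed K] in
theorem comp_A_equivariant (a : AlgGrp.Action G X) (b : AlgGrp.Action G Y) (f : X ⟶ Y)
    (hf : (G ◁ f) ≫ b.act = a.act ≫ f) (h : 𝟙_ (Over (Spec (CommRingCat.of K))) ⟶ G) :
    f ≫ Groth.L08.Homog.A b h = Groth.L08.Homog.A a h ≫ f := by
  rw [Groth.L08.Homog.comp_A, Groth.L08.Homog.A, Category.assoc, ← hf, lift_whiskerLeft_assoc, Category.id_comp]

variable [LocallyOfFiniteType X.hom] [LocallyOfFiniteType Y.hom] [QuasiCompact X.hom] [QuasiCompact Y.hom]

/-- A property local on the target holds for an equivariant map to a transitive space as soon as it holds over a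
non-empty open. -/
theorem of_transitive (P : MorphismProperty Scheme.{u}) [IsZariskiLocalAtTarget P] [P.IsStableUnderBaseChange]
    (a : AlgGrp.Action G X) (b : AlgGrp.Action G Y) (f : X ⟶ Y) (hf : (G ◁ f) ≫ b.act = a.act ≫ f)
    (htr : ∀ y y' : 𝟙_ (Over (Spec (CommRingCat.of K))) ⟶ Y, ∃ g, lift g y ≫ b.act = y')
    (U : Y.left.Opens) (hne : (U : Set Y.left).Nonempty) (hU : P (f.left ∣_ U)) : P f.left := by
  haveI := LocallyOfFiniteType.jacobsonSpace Y.hom
  obtain ⟨q, hqU, hqc⟩ := nonempty_inter_closedPoints hne U.2.isLocallyClosed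
  obtain ⟨y', rfl⟩ := exists_point_of_closed hqc
  let V : (𝟙_ (Over (Spec (CommRingCat.of K))) ⟶ G) → Y.left.Opens := fun g => (Groth.L08.Homog.A b g).left ⁻¹ᵁ U
  have hP : ∀ g, P (f.left ∣_ V g) := by
    intro g
    haveI := Groth.L08.Homog.isIso_A b g
    haveI := Groth.L08.Homog.isIso_A a g
    have sq : IsPullback (Groth.L08.Homog.A a g).left f.left f.left (Groth.L08.Homog.A b g).left :=
      IsPullback.of_horiz_isIso ⟨by
        rw [← Over.comp_left, ← Over.comp_left, comp_A_equivariant a b f hf g]⟩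
    have big := ((isPullback_morphismRestrict f.left (V g)).paste_vert sq.flip).flip
    rw [show (V g).ι ≫ (Groth.L08.Homog.A b g).left = (Groth.L08.Homog.A b g).left ∣_ U ≫ U.ι from
      (morphismRestrict_ι _ _).symm] at big
    exact MorphismProperty.of_isPullback (IsPullback.of_right' big (isPullback_morphismRestrict f.left U).flip) hU
  refine IsZariskiLocalAtTarget.of_iSup_eq_top V ?_ hP
  ext z
  simp only [TopologicalSpace.Opens.coe_top, Set.mem_univ, iff_true]
  by_contra hz
  obtain ⟨p, hp, hpc⟩ := nonempty_inter_closedPoints (Z := ((⨆ g, V g : Y.left.Opens) : Set Y.left)ᶜ) ⟨z, hz⟩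
    ((⨆ g, V g).2.isClosed_compl.isLocallyClosed)
  obtain ⟨y, rfl⟩ := exists_point_of_closed hpc
  obtain ⟨g, hg⟩ := htr y y'
  refine hp (TopologicalSpace.Opens.mem_iSup.2 ⟨g, ?_⟩)
  have e : y ≫ Groth.L08.Homog.A b g = y' := by
    rw [Groth.L08.Homog.comp_A, toUnit_unique (toUnit (𝟙_ (Over (Spec (CommRingCat.of K))))) (𝟙 _),
      Category.id_comp, hg]
  show (Groth.L08.Homog.A b g).left (Groth.L08.ProfiniteImage.pt y) ∈ U
  have e' : (Groth.L08.Homog.A b g).left (Groth.L08.ProfiniteImage.pt y) = Groth.L08.ProfiniteImage.pt y' :=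
    congr(($e).left (IsLocalRing.closedPoint K))
  rw [e']
  exact hqU

/-- An equivariant map from a non-empty scheme to a transitive space is surjective. -/
theorem surjective_of_transitive (a : AlgGrp.Action G X) (b : AlgGrp.Action G Y) (f : X ⟶ Y)
    (hf : (G ◁ f) ≫ b.act = a.act ≫ f) [Nonempty X.left]
    (htr : ∀ y y' : 𝟙_ (Over (Spec (CommRingCat.of K))) ⟶ Y, ∃ g, lift g y ≫ b.act = y') : Surjective f.left := by
  haveI := LocallyOfFiniteType.jacobsonSpace X.hom
  haveI := LocallyOfFiniteType.jacobsonSpace Y.hom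
  haveI := noetherianSpace_left (X := Y)
  obtain ⟨x₀, -, hx₀⟩ := nonempty_inter_closedPoints (Set.univ_nonempty (α := X.left)) isClosed_univ.isLocallyClosed
  obtain ⟨x, rfl⟩ := exists_point_of_closed hx₀
  refine ⟨Set.range_eq_univ.1 ?_⟩
  rw [← Set.compl_empty_iff]
  refine eq_empty_of_constructible (isConstructible_range f).compl fun p hp hpc => ?_
  obtain ⟨y, rfl⟩ := exists_point_of_closed hpc
  obtain ⟨g, hg⟩ := htr (x ≫ f) y
  refine hp ⟨(Groth.L08.Homog.A a g).left (Groth.L08.ProfiniteImage.pt x), ?_⟩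
  have e : (x ≫ Groth.L08.Homog.A a g) ≫ f = y := by
    rw [Category.assoc, ← comp_A_equivariant a b f hf g, ← Category.assoc, Groth.L08.Homog.comp_A,
      toUnit_unique (toUnit (𝟙_ (Over (Spec (CommRingCat.of K))))) (𝟙 _), Category.id_comp, hg]
  exact congr(($e).left (IsLocalRing.closedPoint K))

end Groth.L19.AlgGrpBasic
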