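import Mathlib.Algebra.DualNumber
import Mathlib.RingTheory.Nilpotent.Lemmas
import Mathlib.RingTheory.Noetherian.Nilpotent
import Mathlib.RingTheory.Spectrum.Prime.Basic
import Mathlib.LinearAlgebra.Dual.Lemmas

/-!
# A local artinian algebra with residue field the base and no tangent vectors is the base
-/

set_option autoImplicit false
set_option linter.style.haveILetI false

universe u

namespace Groth.L19.AlgGrpBasic

variable {k A : Type u} [Field k] [CommRing A] [Algebra k A]

theorem injective_of_no_tangent [IsNoetherianRing A] [Subsingleton (PrimeSpectrum A)] (χ : A →ₐ[k] k)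
    (h : ∀ f : A →ₐ[k] DualNumber k,
      (∀ a, TrivSqZeroExt.fst (f a) = χ a) → ∀ a, f a = algebraMap k (DualNumber k) (χ a)) :
    Function.Injective χ := by
  let m : Ideal A := RingHom.ker χ
  haveI hm : m.IsPrime := RingHom.ker_isPrime χ
  have hnil : IsNilpotent m := by
    have hle : m ≤ nilradical A := by
      intro a ha
      rw [nilradical_eq_sInf, Submodule.mem_sInf]
      intro (J : Ideal A) (hJ : J.IsPrime)
      have e : (⟨m, hm⟩ : PrimeSpectrum A) = ⟨J, hJ⟩ := Subsingleton.elim _ _
      exact (congrArg PrimeSpectrum.asIdeal e).le ha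
    obtain ⟨n, hn⟩ := IsNoetherianRing.isNilpotent_nilradical A
    exact ⟨n, le_bot_iff.1 ((Ideal.pow_right_mono hle n).trans hn.le)⟩
  have hm2 : m ≤ m * m := by
    intro a ha
    by_contra hna
    obtain ⟨φ, hφa, hφ⟩ := Submodule.exists_dual_map_eq_bot_of_notMem
      (p := (m * m).restrictScalars k) (x := a) hna inferInstance
    have hφ' : ∀ b ∈ m * m, φ b = 0 := fun b hb => by
      have : φ b ∈ ((m * m).restrictScalars k).map φ := Submodule.mem_map_of_mem hb
      rwa [hφ, Submodule.mem_bot] at this
    have hsub : ∀ b, b - algebraMap k A (χ b) ∈ m := fun b => by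
      show χ (b - algebraMap k A (χ b)) = 0
      simp
    let w : A → k := fun b => φ (b - algebraMap k A (χ b))
    have hwmul : ∀ b c, w (b * c) = χ b * w c + χ c * w b := by
      intro b c
      have h0 := hφ' _ (Ideal.mul_mem_mul (hsub b) (hsub c))
      have e : b * c - algebraMap k A (χ (b * c)) = χ b • (c - algebraMap k A (χ c)) +
          χ c • (b - algebraMap k A (χ b)) + (b - algebraMap k A (χ b)) * (c - algebraMap k A (χ c)) := by
        simp only [Algebra.smul_def, map_mul]
        ring
      simp only [w, e, map_add, map_smul, h0, add_zero, smul_eq_mul]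
    let f : A →ₐ[k] DualNumber k :=
      { toFun := fun b => TrivSqZeroExt.inl (χ b) + TrivSqZeroExt.inr (w b)
        map_one' := by ext <;> simp [w]
        map_mul' := fun b c => by
          ext
          · simp
          · simp [hwmul, mul_comm (χ c)]
        map_zero' := by ext <;> simp [w]
        map_add' := fun b c => by
          ext
          · simp
          · simp only [TrivSqZeroExt.snd_add, TrivSqZeroExt.snd_inl, TrivSqZeroExt.snd_inr, zero_add, w, ← map_add]
            congr 1
            simp only [map_add]
            ring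
        commutes' := fun r => by ext <;> simp [w, TrivSqZeroExt.algebraMap_eq_inl] }
    have h2 := congrArg TrivSqZeroExt.snd (h f (fun b => by simp [f]) a)
    have ha' : χ a = 0 := ha
    simp [f, w, ha', TrivSqZeroExt.algebraMap_eq_inl] at h2
    exact hφa h2
  have hzero : m = ⊥ := by
    obtain ⟨n, hn⟩ := hnil
    have key : ∀ j : ℕ, m ≤ m ^ (j + 1) := by
      intro j
      induction j with
      | zero => rw [pow_one]
      | succ j ih =>
        calc m ≤ m * m := hm2
          _ ≤ m ^ (j + 1) * m := Ideal.mul_mono_left ih
          _ = m ^ (j + 1 + 1) := (pow_succ _ _).symm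
    cases n with
    | zero =>
      rw [pow_zero, Ideal.one_eq_top] at hn
      exact le_bot_iff.1 (le_top.trans hn.le)
    | succ n => exact le_bot_iff.1 ((key n).trans hn.le)
  exact (RingHom.injective_iff_ker_eq_bot χ.toRingHom).2 hzero

end Groth.L19.AlgGrpBasic
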