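import Groth.Agent.L20.ThickeningFlat
import Groth.Agent.S1311
import Groth.Agent.L11.Magnet.Thick
import Groth.Agent.L25.Actions
import Mathlib.AlgebraicGeometry.Morphisms.FlatMono

/-!
# Invertible points of a flat monoid scheme lift along finite order thickenings
-/

set_option autoImplicit false
set_option linter.style.haveILetI false
set_option backward.isDefEq.respectTransparency.types false

universe u

open CategoryTheory CategoryTheory.Limits MonoidalCategory CartesianMonoidalCategory MonObj AlgebraicGeometry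

namespace Groth.L19.AlgGrpBasic

variable {S : Scheme.{u}} {M T T0 : Over S} [MonObj M]

/-- Left translation by a point of a monoid. -/
noncomputable def mulLeftHom (m : T ⟶ M) : T ⊗ M ⟶ T ⊗ M := lift (fst T M) ((fst T M ≫ m) * snd T M)

theorem mulLeftHom_comp (x y : T ⟶ M) : mulLeftHom x ≫ mulLeftHom y = mulLeftHom (y * x) := by
  apply CartesianMonoidalCategory.hom_ext
  · simp [mulLeftHom]
  · simp [mulLeftHom, MonObj.comp_mul, _root_.mul_assoc]

theorem mulLeftHom_one : mulLeftHom (1 : T ⟶ M) = 𝟙 _ := by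
  apply CartesianMonoidalCategory.hom_ext
  · simp [mulLeftHom]
  · simp [mulLeftHom, MonObj.comp_one]

theorem isIso_mulLeftHom {m : T ⟶ M} (h : IsUnit m) : IsIso (mulLeftHom m) := by
  obtain ⟨v, rfl⟩ := h
  exact ⟨mulLeftHom (↑v⁻¹ : T ⟶ M), by rw [mulLeftHom_comp, Units.inv_mul, mulLeftHom_one],
    by rw [mulLeftHom_comp, Units.mul_inv, mulLeftHom_one]⟩

theorem whiskerRight_mulLeftHom (j : T0 ⟶ T) (m : T ⟶ M) :
    (j ▷ M) ≫ mulLeftHom m = mulLeftHom (j ≫ m) ≫ (j ▷ M) := by
  apply CartesianMonoidalCategory.hom_ext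
  · simp [mulLeftHom]
  · simp [mulLeftHom, MonObj.comp_mul]

variable [Flat M.hom]

theorem exists_right_inverse_of_thickening (j : T0 ⟶ T) (hj : MoreMor.IsFiniteOrderThickening j.left)
    (m : T ⟶ M) (h : IsUnit (j ≫ m)) : ∃ x : T ⟶ M, m * x = 1 := by
  haveI := hj.1.1
  haveI := isIso_mulLeftHom h
  haveI : IsIso (mulLeftHom (j ≫ m)).left :=
    inferInstanceAs (IsIso ((Over.forget S).map (mulLeftHom (j ≫ m))))
  have hcY := Groth.L25.Actions.isPullback_whiskerRight_left j M
  have hfst : ∀ (T : Over S) (m : T ⟶ M), (mulLeftHom m).left ≫ (fst T M).left = (fst T M).left := fun T m => by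
    rw [← Over.comp_left, mulLeftHom, lift_fst]
  have hcX : IsPullback (j ▷ M).left ((mulLeftHom (j ≫ m)).left ≫ (fst T0 M).left)
      ((mulLeftHom m).left ≫ (fst T M).left) j.left := by rwa [hfst, hfst]
  have w : (j ▷ M).left ≫ (mulLeftHom m).left = (mulLeftHom (j ≫ m)).left ≫ (j ▷ M).left := by
    rw [← Over.comp_left, ← Over.comp_left, whiskerRight_mulLeftHom]
  haveI : Flat ((mulLeftHom m).left ≫ (fst T M).left) := by
    rw [hfst]
    exact inferInstanceAs (Flat (pullback.fst T.hom M.hom))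
  haveI : Flat (mulLeftHom m).left := Groth.L20.Thick.flat_of_deform hj.2 hcX hcY w
  haveI : LocallyOfFinitePresentation (mulLeftHom m).left :=
    Groth.L20.Thick.locallyOfFinitePresentation_of_deform hj.2 hcX hcY w
  obtain ⟨hpb, hthY⟩ := Groth.L20.Thick.deform_setting hj hcX hcY w
  haveI : Mono (mulLeftHom m).left :=
    (Groth.Agent.S1311.result _ _ _ _ hthY hpb).1 inferInstance
  haveI : Surjective (mulLeftHom m).left := by
    haveI := hthY.1.2
    haveI : Surjective ((j ▷ M).left ≫ (mulLeftHom m).left) := by rw [w]; infer_instance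
    exact Surjective.of_comp (j ▷ M).left (mulLeftHom m).left
  haveI : IsOpenImmersion (mulLeftHom m).left := IsOpenImmersion.of_flat_of_mono _
  haveI : IsIso (mulLeftHom m).left := (isIso_iff_isOpenImmersion_and_surjective _).2 ⟨inferInstance, inferInstance⟩
  haveI : IsIso (mulLeftHom m) := by
    haveI : IsIso ((Over.forget S).map (mulLeftHom m)) := ‹IsIso (mulLeftHom m).left›
    exact isIso_of_reflects_iso _ (Over.forget S)
  let e : T ⟶ T ⊗ M := lift (𝟙 T) 1 ≫ inv (mulLeftHom m)
  have he : e ≫ mulLeftHom m = lift (𝟙 T) 1 := by rw [Category.assoc, IsIso.inv_hom_id, Category.comp_id]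
  have h1 : e ≫ fst T M = 𝟙 T := by
    have := congr($he ≫ fst T M)
    simpa [mulLeftHom] using this
  refine ⟨e ≫ snd T M, ?_⟩
  have h2 := congr($he ≫ snd T M)
  simp only [mulLeftHom, Category.assoc, lift_snd, MonObj.comp_mul] at h2
  rwa [reassoc_of% h1] at h2

/-- A point which is invertible on a thickening is invertible. -/
theorem isUnit_of_thickening (j : T0 ⟶ T) (hj : MoreMor.IsFiniteOrderThickening j.left)
    (m : T ⟶ M) (h : IsUnit (j ≫ m)) : IsUnit m := by
  obtain ⟨x, hx⟩ := exists_right_inverse_of_thickening j hj m h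
  have hx' : IsUnit (j ≫ x) := by
    have e : (j ≫ m) * (j ≫ x) = 1 := by rw [← MonObj.comp_mul, hx, MonObj.comp_one]
    obtain ⟨v, hv⟩ := h
    rw [← hv] at e
    exact (Units.mul_eq_one_iff_inv_eq.1 e) ▸ (v⁻¹).isUnit
  obtain ⟨y, hy⟩ := exists_right_inverse_of_thickening j hj x hx'
  exact ⟨⟨m, x, hx, by
    calc x * m = x * m * (x * y) := by rw [hy, _root_.mul_one]
      _ = x * (m * x) * y := by simp only [_root_.mul_assoc]
      _ = 1 := by rw [hx, _root_.mul_one, hy]⟩, rfl⟩

/-- The spectrum of a quotient by a square-zero ideal is a finite order thickening. -/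
theorem isFiniteOrderThickening_quotient {A : Type u} [CommRing A] {I : Ideal A} (hI : I ^ 2 = ⊥) :
    MoreMor.IsFiniteOrderThickening (Spec.map (CommRingCat.ofHom (Ideal.Quotient.mk I))) := by
  refine ⟨⟨IsClosedImmersion.spec_of_surjective _ Ideal.Quotient.mk_surjective, ⟨fun p => ?_⟩⟩,
    Groth.L11.Magnet.isNilpotent_ker_specMap _ (by rw [Ideal.mk_ker]; exact hI)⟩
  have hp : (p : PrimeSpectrum A) ∈ PrimeSpectrum.zeroLocus (I : Set A) := fun x hx => by
    have h2 : x ^ 2 = 0 := by
      have := Ideal.pow_mem_pow hx 2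
      rwa [hI, Ideal.mem_bot] at this
    exact p.isPrime.mem_of_pow_mem 2 (h2 ▸ Submodule.zero_mem _)
  have hr := range_comap_of_surjective (A ⧸ I) (Ideal.Quotient.mk I) Ideal.Quotient.mk_surjective
  rw [Ideal.mk_ker] at hr
  exact hr.symm.subset hp

end Groth.L19.AlgGrpBasic
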