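import Groth.Agent.L19.AlgGrpBasic.GmProper
import Groth.Agent.L19.AlgGrpBasic.FixedPoints
import Groth.Agent.L25.Actions

/-!
# Fixed points as limits at the boundary of a one-parameter orbit
-/

set_option autoImplicit false
set_option linter.style.haveILetI false
set_option backward.isDefEq.respectTransparency.types false

universe u

open CategoryTheory CategoryTheory.Limits MonoidalCategory CartesianMonoidalCategory MonObj AlgebraicGeometry

noncomputable section

namespace Groth.L19.AlgGrpBasic

variable {k : Type u} [Field k]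

variable (k) in
/-- The structure map of an extension field. -/
abbrev uF (K : Type u) [Field K] [Algebra k K] : Spec (CommRingCat.of K) ⟶ Spec (CommRingCat.of k) :=
  Spec.map (CommRingCat.ofHom (algebraMap k K))

/-- A ring map compatible with the extension of scalars, over the base field. -/
def bcS {K : Type u} [Field K] [Algebra k K] {A A' : Type u} [CommRing A] [Algebra k A] [CommRing A'] [Algebra K A']
    (φ : A →+* A') (h : φ.comp (algebraMap k A) = (algebraMap K A').comp (algebraMap k K)) :
    sT (uF k K) A' ⟶ sT (uF k k) A :=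
  Over.homMk (Spec.map (CommRingCat.ofHom φ)) (by
    show Spec.map _ ≫ Spec.map _ ≫ Spec.map _ = Spec.map _ ≫ Spec.map _
    rw [← Spec.map_comp, ← Spec.map_comp, ← Spec.map_comp]
    congr 1
    ext r
    exact RingHom.congr_fun h r)

variable {G X : Over (Spec (CommRingCat.of k))} [GrpObj G]

/-- The extension of the coefficients of power series. -/
abbrev psMap (k : Type u) [Field k] (K : Type u) [Field K] [Algebra k K] : PowerSeries k →+* PowerSeries K :=
  PowerSeries.map (algebraMap k K)

theorem psMap_injective (K : Type u) [Field K] [Algebra k K] : Function.Injective (psMap k K) := fun f g h => by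
  ext n
  have := congrArg (PowerSeries.coeff n) h
  rw [PowerSeries.coeff_map, PowerSeries.coeff_map] at this
  exact (algebraMap k K).injective this

/-- The extension of the coefficients of formal Laurent series. -/
def lMap (k : Type u) [Field k] (K : Type u) [Field K] [Algebra k K] :
    FractionRing (PowerSeries k) →+* FractionRing (PowerSeries K) :=
  IsFractionRing.map (psMap_injective (k := k) K)

theorem lMap_algebraMap (K : Type u) [Field K] [Algebra k K] (f : PowerSeries k) :
    lMap k K (algebraMap (PowerSeries k) _ f) = algebraMap (PowerSeries K) _ (psMap k K f) :=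
  IsLocalization.map_eq (T := nonZeroDivisors (PowerSeries K))
    (nonZeroDivisors_le_comap_nonZeroDivisors_of_injective _ (psMap_injective (k := k) K)) f

theorem psMap_comp_algebraMap (K : Type u) [Field K] [Algebra k K] :
    (psMap k K).comp (algebraMap k (PowerSeries k)) = (algebraMap K (PowerSeries K)).comp (algebraMap k K) := by
  refine RingHom.ext fun r => ?_
  show PowerSeries.map (algebraMap k K) (PowerSeries.C r) = PowerSeries.C (algebraMap k K r)
  exact PowerSeries.map_C _ _

theorem lMap_comp_algebraMap (K : Type u) [Field K] [Algebra k K] :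
    (lMap k K).comp (algebraMap k (FractionRing (PowerSeries k))) =
      (algebraMap K (FractionRing (PowerSeries K))).comp (algebraMap k K) := by
  refine RingHom.ext fun r => ?_
  rw [RingHom.comp_apply, RingHom.comp_apply, IsScalarTower.algebraMap_apply k (PowerSeries k) (FractionRing (PowerSeries k)),
    lMap_algebraMap, IsScalarTower.algebraMap_apply K (PowerSeries K) (FractionRing (PowerSeries K))]
  exact congrArg _ (RingHom.congr_fun (psMap_comp_algebraMap (k := k) K) r)

variable (k) in
/-- The generic point of the extended power series, over the base field. -/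
abbrev bL (K : Type u) [Field K] [Algebra k K] :
    sT (uF k K) (FractionRing (PowerSeries K)) ⟶ sT (uF k k) (FractionRing (PowerSeries k)) :=
  bcS (lMap k K) (lMap_comp_algebraMap K)

variable (k) in
/-- The extended power series, over the base field. -/
abbrev bR (K : Type u) [Field K] [Algebra k K] :
    sT (uF k K) (PowerSeries K) ⟶ sT (uF k k) (PowerSeries k) :=
  bcS (psMap k K) (psMap_comp_algebraMap K)

set_option maxHeartbeats 800000 in
/-- A point at the boundary of a one-parameter orbit of a point in a proper scheme is fixed, provided that every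
translation of the parameter extends to the boundary. -/
theorem exists_isFixedPt_of_translations [IsReduced G.left] [IsProper X.hom] (a : AlgGrp.Action G X)
    (x₀ : 𝟙_ (Over (Spec (CommRingCat.of k))) ⟶ X)
    (τ : sT (uF k k) (FractionRing (PowerSeries k)) ⟶ G)
    (hτ : ∀ (K : Type u) [Field K] [Algebra k K] (g : sT (uF k K) K ⟶ G),
      ∃ (σ : PowerSeries K →ₐ[K] PowerSeries K)
        (σL : FractionRing (PowerSeries K) →ₐ[K] FractionRing (PowerSeries K)),
        (∀ f, PowerSeries.constantCoeff (σ f) = PowerSeries.constantCoeff f) ∧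
        σL.comp (IsScalarTower.toAlgHom K _ _) = (IsScalarTower.toAlgHom K _ _).comp σ ∧
        sMap (uF k K) σL ≫ bL k K ≫ τ = sMap (uF k K) (Algebra.ofId K _) ≫ g * (bL k K ≫ τ)) :
    ∃ x : 𝟙_ (Over (Spec (CommRingCat.of k))) ⟶ X, a.IsFixedPt x := by
  let R := PowerSeries k
  let L := FractionRing R
  let ξ : sT (uF k k) L ⟶ X := lift τ (toUnit _ ≫ x₀) ≫ a.act
  let gen : sT (uF k k) L ⟶ sT (uF k k) R := sMap (uF k k) (IsScalarTower.toAlgHom k R L)
  let sq : ValuativeCommSq X.hom :=
    { R := R, K := L, i₁ := ξ.left, i₂ := (sT (uF k k) R).hom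
      commSq := ⟨(Over.w ξ).trans (Over.w gen).symm⟩ }
  haveI := (UniversallyClosed.eq_valuativeCriterion ▸ (inferInstance : UniversallyClosed X.hom) :
    (ValuativeCriterion.Existence ⊓ @QuasiCompact) X.hom).1 sq
  let ρ : sT (uF k k) R ⟶ X := Over.homMk sq.commSq.lift sq.commSq.fac_right
  have hρ : gen ≫ ρ = ξ := Over.OverMorphism.ext sq.commSq.fac_left
  let ev : ∀ (K : Type u) [Field K], PowerSeries K →ₐ[K] K := fun K _ =>
    { PowerSeries.constantCoeff with commutes' := fun r => PowerSeries.constantCoeff_C r }
  let j : 𝟙_ (Over (Spec (CommRingCat.of k))) ⟶ sT (uF k k) k := Over.homMk (𝟙 _) (by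
    show 𝟙 _ ≫ Spec.map _ ≫ Spec.map _ = 𝟙 _
    rw [show CommRingCat.ofHom (algebraMap k k) = 𝟙 _ from rfl, Spec.map_id, Category.comp_id, Category.comp_id])
  let x : 𝟙_ (Over (Spec (CommRingCat.of k))) ⟶ X := j ≫ sMap (uF k k) (ev k) ≫ ρ
  -- the limit is fixed by the points with values in fields
  have hpt : ∀ (K : Type u) [Field K] [Algebra k K] (g : sT (uF k K) K ⟶ G),
      lift g (toUnit _ ≫ x) ≫ a.act = toUnit _ ≫ x := by
    intro K _ _ g
    obtain ⟨σ, σL, hσ, hσL, hT⟩ := hτ K g
    let genK : sT (uF k K) (FractionRing (PowerSeries K)) ⟶ sT (uF k K) (PowerSeries K) :=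
      sMap (uF k K) (IsScalarTower.toAlgHom K _ _)
    have hsq : genK ≫ bR k K = bL k K ≫ gen := by
      apply Over.OverMorphism.ext
      show Spec.map _ ≫ Spec.map _ = Spec.map _ ≫ Spec.map _
      rw [← Spec.map_comp, ← Spec.map_comp]
      congr 1
      ext f
      exact (lMap_algebraMap (k := k) K f).symm
    have key : sMap (uF k K) σ ≫ bR k K ≫ ρ =
        lift (sMap (uF k K) (Algebra.ofId K _) ≫ g) (bR k K ≫ ρ) ≫ a.act := by
      apply Over.OverMorphism.ext
      haveI : IsDominant genK.left := by
        refine ⟨?_⟩
        show DenseRange (PrimeSpectrum.comap (algebraMap (PowerSeries K) (FractionRing (PowerSeries K))))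
        exact (PrimeSpectrum.denseRange_comap_iff_ker_le_nilRadical _).2
          (by rw [(RingHom.injective_iff_ker_eq_bot _).1 (IsFractionRing.injective (PowerSeries K) _)]; exact bot_le)
      haveI : IsReduced (sT (uF k K) (PowerSeries K)).left := inferInstanceAs (IsReduced (Spec _))
      refine ext_of_isDominant_of_isSeparated X.hom ((Over.w _).trans (Over.w _).symm) genK.left ?_
      rw [← Over.comp_left, ← Over.comp_left]
      congr 1
      rw [comp_lift_assoc, reassoc_of% hsq, hρ, ← Category.assoc genK, sMap_comp, ← hσL, ← sMap_comp,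
        Category.assoc, reassoc_of% hsq, hρ, ← Category.assoc genK, sMap_comp]
      simp only [ξ, comp_lift_assoc]
      rw [← Groth.L25.Actions.mul_act, hT, show (IsScalarTower.toAlgHom K (PowerSeries K)
        (FractionRing (PowerSeries K))).comp (Algebra.ofId K _) = Algebra.ofId K _ from Subsingleton.elim _ _]
      simp only [← Category.assoc]
      rw [toUnit_unique ((sMap (uF k K) σL ≫ bL k K) ≫ toUnit _) (bL k K ≫ toUnit _)]
    have h0 := congrArg (sMap (uF k K) (ev K) ≫ ·) key
    simp only [comp_lift_assoc] at h0
    rw [← Category.assoc, sMap_comp, show (ev K).comp σ = ev K from AlgHom.ext hσ, ← Category.assoc _ _ g, sMap_comp,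
      show (ev K).comp (Algebra.ofId K _) = AlgHom.id K K from Subsingleton.elim _ _, sMap_id, Category.id_comp] at h0
    have hx : toUnit (sT (uF k K) K) ≫ x = sMap (uF k K) (ev K) ≫ bR k K ≫ ρ := by
      simp only [x, ← Category.assoc]
      congr 1
      apply Over.OverMorphism.ext
      show ((toUnit (sT (uF k K) K)).left ≫ 𝟙 _) ≫ Spec.map _ = Spec.map _ ≫ Spec.map _
      rw [Category.comp_id, Over.toUnit_left]
      show (Spec.map _ ≫ Spec.map _) ≫ Spec.map _ = Spec.map _ ≫ Spec.map _
      simp only [← Spec.map_comp]
      congr 1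
    rw [hx]
    exact h0.symm
  refine ⟨x, fun T g => ?_⟩
  have hG : lift (𝟙 G) (toUnit G ≫ x) ≫ a.act = toUnit G ≫ x := by
    apply Over.OverMorphism.ext
    refine ext_of_fromSpecResidueField_eq _ _ X.hom Set.univ dense_univ (fun p _ => ?_)
      ((Over.w _).trans (Over.w _).symm)
    let K : Type u := G.left.residueField p
    let w : Spec (CommRingCat.of K) ⟶ G.left := G.left.fromSpecResidueField p
    letI : Algebra k K := (Spec.preimage (w ≫ G.hom)).hom.toAlgebra
    let gK : sT (uF k K) K ⟶ G := Over.homMk w (by
      show w ≫ G.hom = Spec.map _ ≫ Spec.map _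
      rw [show CommRingCat.ofHom (algebraMap K K) = 𝟙 _ from rfl, Spec.map_id, Category.id_comp]
      exact (Spec.map_preimage _).symm)
    have h := congrArg CommaMorphism.left (hpt K gK)
    have e1 : gK ≫ lift (𝟙 G) (toUnit G ≫ x) ≫ a.act = lift gK (toUnit _ ≫ x) ≫ a.act := by
      rw [comp_lift_assoc, Category.comp_id, ← Category.assoc, toUnit_unique (gK ≫ toUnit G) (toUnit _)]
    have e2 : gK ≫ toUnit G ≫ x = toUnit _ ≫ x := by
      rw [← Category.assoc, toUnit_unique (gK ≫ toUnit G) (toUnit _)]
    rw [← e1, ← e2] at h
    exact h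
  have := congrArg (g ≫ ·) hG
  simp only [comp_lift_assoc, Category.comp_id] at this
  rw [← Category.assoc, toUnit_unique (g ≫ toUnit G) (toUnit T)] at this
  exact this

end Groth.L19.AlgGrpBasic
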